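import Cfsg.Agent.BR.Vals

/-!
The class partition and the semiregularity of centralizers.
-/

set_option autoImplicit false

open scoped ComplexConjugate

namespace Cfsg.Agent.BR

open Cfsg Subgroup
open Cfsg.Agent.CharBase (oneIrr)

universe u

/-- a free action of a finite group. -/
theorem card_dvd_of_free {A X : Type*} [Group A] [Finite A] [MulAction A X] [Finite X]
    (h : ∀ x : X, ∀ a : A, a • x = x → a = 1) : Nat.card A ∣ Nat.card X := by
  have h1 : ∀ b : X, MulAction.stabilizer A b = ⊥ := by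
    intro b
    rw [eq_bot_iff]
    intro a ha
    exact h b a ha
  rw [Nat.card_congr (MulAction.selfEquivOrbitsQuotientProd h1), Nat.card_prod]
  exact Dvd.intro_left _ rfl

section

variable {G : Type u} [Group G] [Fintype G] {p : ℕ} [hp : Fact p.Prime] {P : Subgroup G} {n : ℕ}

/-- pairs of conjugators with product `z`. -/
abbrev PairSet (π z : G) : Type u := {q : G × G // q.1 * π * q.1⁻¹ * (q.2 * π * q.2⁻¹) = z}

section Act

variable (P)

@[reducible] def pairAct {π : G} (z : G) (hπ : ∀ x ∈ P, x * π = π * x) :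
    MulAction (centralizer ({z} : Set G) × P × P) (PairSet π z) where
  smul g q := ⟨((g.1 : G) * q.1.1 * (g.2.1 : G)⁻¹, (g.1 : G) * q.1.2 * (g.2.2 : G)⁻¹), by
    have h1 := hπ _ g.2.1.2
    have h2 := hπ _ g.2.2.2
    have h3 := Subgroup.mem_centralizer_iff.mp g.1.2 z (Set.mem_singleton z)
    have e1 : (g.2.1 : G)⁻¹ * π * (g.2.1 : G) = π := by
      rw [mul_assoc, ← h1, inv_mul_cancel_left]
    have e2 : (g.2.2 : G)⁻¹ * π * (g.2.2 : G) = π := by
      rw [mul_assoc, ← h2, inv_mul_cancel_left]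
    calc (g.1 : G) * q.1.1 * (g.2.1 : G)⁻¹ * π * ((g.1 : G) * q.1.1 * (g.2.1 : G)⁻¹)⁻¹ *
          ((g.1 : G) * q.1.2 * (g.2.2 : G)⁻¹ * π * ((g.1 : G) * q.1.2 * (g.2.2 : G)⁻¹)⁻¹)
        = (g.1 : G) * (q.1.1 * ((g.2.1 : G)⁻¹ * π * (g.2.1 : G)) * q.1.1⁻¹ *
          (q.1.2 * ((g.2.2 : G)⁻¹ * π * (g.2.2 : G)) * q.1.2⁻¹)) * (g.1 : G)⁻¹ := by group
      _ = (g.1 : G) * z * (g.1 : G)⁻¹ := by rw [e1, e2, q.2]
      _ = z := by rw [← h3, mul_inv_cancel_right]⟩
  one_smul q := by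
    apply Subtype.ext
    change ((1 : G) * q.1.1 * (1 : G)⁻¹, (1 : G) * q.1.2 * (1 : G)⁻¹) = q.1
    simp
  mul_smul g h q := by
    apply Subtype.ext
    change (((g.1 : G) * h.1) * q.1.1 * ((g.2.1 : G) * h.2.1)⁻¹,
      ((g.1 : G) * h.1) * q.1.2 * ((g.2.2 : G) * h.2.2)⁻¹) =
      ((g.1 : G) * ((h.1 : G) * q.1.1 * (h.2.1 : G)⁻¹) * (g.2.1 : G)⁻¹,
       (g.1 : G) * ((h.1 : G) * q.1.2 * (h.2.2 : G)⁻¹) * (g.2.2 : G)⁻¹)
    rw [Prod.mk.injEq]
    constructor <;> group

end Act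

variable (st : St p P n)
include st

/-- the group `C(z) × P × P` acts freely on the pairs. -/
theorem St.dvd_pairs {π z : G} (hπ : π ∈ P) (hz : InZ P z) :
    Nat.card (centralizer ({z} : Set G)) * (p * p) ∣ Nat.card (PairSet π z) := by
  have hPc : ∀ a ∈ P, ∀ b ∈ P, a * b = b * a := by
    intro a ha b hb
    have h1 : a ∈ centralizer (P : Set G) := by rw [st.hC]; exact ha
    exact (Subgroup.mem_centralizer_iff.mp h1 b hb).symm
  let _ := pairAct P z (fun x hx => hPc x hx π hπ)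
  have h := card_dvd_of_free (A := centralizer ({z} : Set G) × P × P) (X := PairSet π z) (by
    intro q g hg
    have h1 : ((g.1 : G) * q.1.1 * (g.2.1 : G)⁻¹, (g.1 : G) * q.1.2 * (g.2.2 : G)⁻¹) = q.1 :=
      congrArg Subtype.val hg
    have h2 : (g.1 : G) * q.1.1 * (g.2.1 : G)⁻¹ = q.1.1 := congrArg Prod.fst h1
    have h3 : (g.1 : G) * q.1.2 * (g.2.2 : G)⁻¹ = q.1.2 := congrArg Prod.snd h1
    have h4 : (g.1 : G) = q.1.1 * g.2.1 * q.1.1⁻¹ := by
      calc (g.1 : G) = ((g.1 : G) * q.1.1 * (g.2.1 : G)⁻¹) * g.2.1 * q.1.1⁻¹ := by group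
        _ = q.1.1 * g.2.1 * q.1.1⁻¹ := by rw [h2]
    have h5 : (g.1 : G) = q.1.2 * g.2.2 * q.1.2⁻¹ := by
      calc (g.1 : G) = ((g.1 : G) * q.1.2 * (g.2.2 : G)⁻¹) * g.2.2 * q.1.2⁻¹ := by group
        _ = q.1.2 * g.2.2 * q.1.2⁻¹ := by rw [h3]
    by_cases hx : (g.2.1 : G) = 1
    · have h6 : (g.1 : G) = 1 := by rw [h4, hx]; group
      have h7 : (g.2.2 : G) = 1 := by
        have : (g.2.2 : G) = q.1.2⁻¹ * g.1 * q.1.2 := by rw [h5]; group
        rw [this, h6]; group
      exact Prod.ext (Subtype.ext h6) (Prod.ext (Subtype.ext hx) (Subtype.ext h7))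
    · exfalso
      -- `z ∈ a P a⁻¹`
      set c := q.1.1⁻¹ * q.1.2 with hc
      have h6 : c⁻¹ * (g.2.1 : G) * c = g.2.2 := by
        have : (g.2.2 : G) = q.1.2⁻¹ * g.1 * q.1.2 := by rw [h5]; group
        rw [this, h4, hc]; group
      have h7 : c ∈ normalizer (P : Set G) := by
        rw [← st.hP.conj_iff g.2.1.2 hx, h6]
        exact g.2.2.2
      have h8 : c * π * c⁻¹ ∈ P := (Subgroup.mem_normalizer_iff.mp h7 π).mp hπ
      apply hz q.1.1
      apply Subgroup.le_normalizer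
      have h9 : q.1.1⁻¹ * z * q.1.1 = π * (c * π * c⁻¹) := by
        have h10 : z = q.1.1 * π * q.1.1⁻¹ * (q.1.2 * π * q.1.2⁻¹) := q.2.symm
        calc q.1.1⁻¹ * z * q.1.1
            = q.1.1⁻¹ * (q.1.1 * π * q.1.1⁻¹ * (q.1.2 * π * q.1.2⁻¹)) * q.1.1 :=
              congrArg (fun w => q.1.1⁻¹ * w * q.1.1) h10
          _ = π * (c * π * c⁻¹) := by rw [hc]; group
      rw [h9]
      exact P.mul_mem hπ h8)
  rw [Nat.card_prod, Nat.card_prod, st.hP.card] at h
  exact h

omit st in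
open Classical in
theorem card_PairSet [Fintype (IrrCharacter G)] (π z : G) :
    (Nat.card (PairSet π z) : ℂ) = (Nat.card G : ℂ) * ∑ χ : IrrCharacter G,
      (χ : G → ℂ) π * (χ : G → ℂ) π * (χ : G → ℂ) z⁻¹ / (χ : G → ℂ) 1 := by
  rw [← H79.card_pairs π π z, Nat.card_eq_fintype_card, Fintype.card_subtype]

theorem St.InZ_inv {z : G} (hz : InZ P z) : InZ P z⁻¹ := by
  intro g h
  apply hz g
  have := Subgroup.inv_mem _ h
  have e : (g⁻¹ * z⁻¹ * g)⁻¹ = g⁻¹ * z * g := by group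
  rwa [e] at this

/-- the class multiplication sum over the block. -/
theorem St.block_sum [Fintype (IrrCharacter G)] {π π' z : G} (hπ : π ∈ P) (hπ1 : π ≠ 1)
    (hπ' : π' ∈ P) (hπ1' : π' ≠ 1) (hz : InZ P z) {ψ : IrrCharacter G} (hψ : ψ ∈ st.B.Y) :
    ∑ χ : IrrCharacter G, (χ : G → ℂ) π * (χ : G → ℂ) π' * (χ : G → ℂ) z / (χ : G → ℂ) 1 =
      1 + (1 + st.B.δ₀ * (ψ : G → ℂ) z) / ((p - 1 : ℕ) : ℂ) +
        (ψ : G → ℂ) z / (dg ψ : ℂ) * ∑ ξ ∈ st.B.Y, (ξ : G → ℂ) π * (ξ : G → ℂ) π' := by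
  classical
  have h0 : ∑ χ : IrrCharacter G, (χ : G → ℂ) π * (χ : G → ℂ) π' * (χ : G → ℂ) z / (χ : G → ℂ) 1 =
      ∑ χ ∈ st.B.X ∪ st.B.Y,
        (χ : G → ℂ) π * (χ : G → ℂ) π' * (χ : G → ℂ) z / (χ : G → ℂ) 1 := by
    symm
    refine Finset.sum_subset (Finset.subset_univ _) fun χ _ hχ => ?_
    rw [Finset.mem_union, not_or] at hχ
    rw [st.B.out st.hC χ hχ.1 hχ.2 π hπ hπ1, zero_mul, zero_mul, zero_div]
  rw [h0, Finset.sum_union st.B.disj]
  congr 1
  · rw [← st.neg_Z hψ hz, Finset.sum_filter, Finset.sum_div]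
    have e1 : (1 : ℂ) = ∑ χ ∈ st.B.X, if χ = oneIrr G then 1 else 0 := by
      rw [Finset.sum_ite_eq' st.B.X (oneIrr G) (fun _ => (1 : ℂ)), if_pos st.B.one_mem]
    rw [e1, ← Finset.sum_add_distrib]
    refine Finset.sum_congr rfl fun χ hχ => ?_
    rw [st.B.val_one hχ hπ hπ1, st.B.val_one hχ hπ' hπ1']
    by_cases h1 : χ = oneIrr G
    · subst h1
      rw [if_pos rfl, if_neg, st.B.δ_one st.hP, CharBase.oneIrr_apply, CharBase.oneIrr_apply]
      · norm_num
      · rw [st.B.δ_one st.hP]; norm_num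
    · rw [if_neg h1]
      rcases st.B.sgn χ hχ with h2 | h2
      · rw [h2, st.pos_Z hχ h2 h1 hz]
        norm_num
      · rw [h2, if_pos rfl, dg_eq, st.hS.neg χ hχ h2]
        norm_num
  · rw [Finset.mul_sum]
    refine Finset.sum_congr rfl fun ξ hξ => ?_
    rw [st.B.Y_eq hξ hψ (st.reg_of_Z hz), dg_eq, st.B.dg_Y hξ hψ]
    ring

/-- in case `δ₀ = 1` the centralizer order of an element off the conjugates of `N` divides the
degree of the exceptional characters. -/
theorem St.centralizer_dvd (hδ : st.B.δ₀ = 1) {ψ : IrrCharacter G} (hψ : ψ ∈ st.B.Y) {z : G}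
    (hz : InZ P z) : Nat.card (centralizer ({z} : Set G)) ∣ dg ψ := by
  classical
  have := Fintype.ofFinite (IrrCharacter G)
  obtain ⟨π, hπ, hπ1⟩ := exists_ne_one st.hP
  have h1 := card_PairSet π z
  rw [st.block_sum hπ hπ1 hπ hπ1 (st.InZ_inv hz) hψ, st.exc_Z hδ hψ (st.InZ_inv hz)] at h1
  have hp3 := st.hp3
  have hp1 : ((p - 1 : ℕ) : ℂ) ≠ 0 := by exact_mod_cast (by omega : p - 1 ≠ 0)
  have h2 : ((p - 1 : ℕ) : ℂ) * (Nat.card (PairSet π z) : ℂ) = (Nat.card G : ℂ) * p := by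
    rw [h1]
    have h3 : ((p - 1 : ℕ) : ℂ) = (p : ℂ) - 1 := by
      rw [Nat.cast_sub hp.out.one_lt.le]; simp
    field_simp
    rw [h3]
    ring
  have h3 : (p - 1) * Nat.card (PairSet π z) = Nat.card G * p := by exact_mod_cast h2
  have htf : st.B.Y.card * dg ψ = 1 + n * p := by
    rcases st.hS.cases with ⟨-, h, -⟩ | ⟨h, -⟩
    · exact h ψ hψ
    · rw [hδ] at h
      exact absurd h (by norm_num)
  have h4 : Nat.card (PairSet π z) = dg ψ * (p * p) := by
    have h5 : (p - 1) * Nat.card (PairSet π z) = (p - 1) * (dg ψ * (p * p)) := by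
      rw [h3, st.card_G', ← htf, ← st.B.cardY]
      ring
    exact Nat.eq_of_mul_eq_mul_left (by omega) h5
  have h5 := st.dvd_pairs hπ hz
  rw [h4] at h5
  exact Nat.dvd_of_mul_dvd_mul_right (by positivity) h5

/-- The partition of `G`: the identity, elements of order `p`, conjugates of `E#`, the rest. -/
theorem St.trichotomy {E : Subgroup G} (hE : IsE P n E) (g : G) :
    g = 1 ∨ orderOf g = p ∨ (∃ x : G, x⁻¹ * g * x ∈ E ∧ x⁻¹ * g * x ≠ 1) ∨ InZ P g := by
  by_cases h1 : g = 1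
  · exact Or.inl h1
  by_cases h2 : InZ P g
  · exact Or.inr (Or.inr (Or.inr h2))
  unfold InZ at h2
  push Not at h2
  obtain ⟨x, hx⟩ := h2
  by_cases h3 : x⁻¹ * g * x ∈ P
  · right; left
    have h4 : x⁻¹ * g * x ≠ 1 := by
      intro h
      apply h1
      have : g = x * (x⁻¹ * g * x) * x⁻¹ := by group
      rw [this, h]; group
    have h5 := st.hP.orderOf_eq h3 h4
    have : x⁻¹ * g * x = MulAut.conj x⁻¹ g := by simp
    rw [this, MulEquiv.orderOf_eq] at h5
    exact h5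
  · right; right; left
    obtain ⟨y, hy, hyE⟩ := hE.cj _ hx h3
    refine ⟨x * y, ?_, ?_⟩
    · have : (x * y)⁻¹ * g * (x * y) = y⁻¹ * (x⁻¹ * g * x) * y := by group
      rw [this]; exact hyE
    · intro h
      apply h1
      have : g = (x * y) * ((x * y)⁻¹ * g * (x * y)) * (x * y)⁻¹ := by group
      rw [this, h]; group

/-- elements of `E` have order prime to `p`. -/
theorem St.reg_E {E : Subgroup G} (hE : IsE P n E) {y : G} (hy : y ∈ E) : ¬ p ∣ orderOf y := by
  by_cases h : y ∈ P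
  · rw [hE.inf y hy h]
    exact not_dvd_orderOf_one
  · exact reg_of_notMem st.hP st.hC (hE.le hy) h

open Classical in
/-- the sum of a class function over the group. -/
theorem St.sum_split {E : Subgroup G} (hE : IsE P n E) {R : Type*} [Field R] [CharZero R]
    (F : G → R) (hF : ∀ g h : G, F (h * g * h⁻¹) = F g) :
    ((n : R) + 1) * ∑ g : G, F g = ((n : R) + 1) * (F 1 + (1 + n * p) *
      ∑ x ∈ Finset.univ.filter (fun x : G => x ∈ P ∧ x ≠ 1), F x +
      ∑ z ∈ Finset.univ.filter (fun z : G => InZ P z), F z) +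
      p * (1 + n * p) * ∑ x ∈ Finset.univ.filter (fun x : G => x ∈ E ∧ x ≠ 1), F x := by
  have hp3 := st.hp3
  set A := Finset.univ.filter (fun x : G => x ∈ E ∧ x ≠ 1) with hA
  have h1 := ti_sum A (normalizer (E : Set G)) (by
    intro a ha g
    rw [hA, Finset.mem_filter] at ha ⊢
    rw [← hE.ti a ha.2.1 ha.2.2]
    constructor
    · intro h; exact h.2.1
    · intro h
      refine ⟨Finset.mem_univ _, h, fun h2 => ha.2.2 ?_⟩
      have : a = g * (g⁻¹ * a * g) * g⁻¹ := by group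
      rw [this, h2]; group) F hF
  have h2 := st.hP.sum_order F hF
  rw [st.hD] at h2
  rw [hE.cardM, st.card_G'] at h1
  have he0 : (ind P : R) ≠ 0 := by exact_mod_cast (ind_pos P).ne'
  have h3 : ((n : R) + 1) * ∑ g ∈ Finset.univ.filter (fun g : G => ∃ x : G, x⁻¹ * g * x ∈ A), F g =
      p * (1 + n * p) * ∑ a ∈ A, F a := by
    apply mul_left_cancel₀ he0
    push_cast at h1
    linear_combination h1
  -- the partition
  have h4 : ∑ g : G, F g = F 1 + ∑ g ∈ Finset.univ.filter (fun g : G => orderOf g = p), F g +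
      ∑ z ∈ Finset.univ.filter (fun z : G => InZ P z), F z +
      ∑ g ∈ Finset.univ.filter (fun g : G => ∃ x : G, x⁻¹ * g * x ∈ A), F g := by
    rw [Finset.sum_filter, Finset.sum_filter, Finset.sum_filter]
    have e1 : F 1 = ∑ g : G, if g = 1 then F g else 0 := by
      rw [Finset.sum_ite_eq' Finset.univ (1 : G) F, if_pos (Finset.mem_univ _)]
    rw [e1, ← Finset.sum_add_distrib, ← Finset.sum_add_distrib, ← Finset.sum_add_distrib]
    refine Finset.sum_congr rfl fun g _ => ?_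
    have hPA : (∃ x : G, x⁻¹ * g * x ∈ A) ↔ (∃ x : G, x⁻¹ * g * x ∈ E ∧ x⁻¹ * g * x ≠ 1) := by
      simp only [hA, Finset.mem_filter, Finset.mem_univ, true_and]
    rw [if_congr hPA rfl rfl]
    have hone : ∀ x : G, x⁻¹ * (1 : G) * x = 1 := fun x => by group
    by_cases hg1 : g = 1
    · subst hg1
      have n1 : ¬ orderOf (1 : G) = p := by
        rw [orderOf_one]; exact hp.out.one_lt.ne
      have n2 : ¬ InZ P (1 : G) := by
        intro h
        exact h 1 (by rw [hone]; exact Subgroup.one_mem _)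
      have n3 : ¬ ∃ x : G, x⁻¹ * (1 : G) * x ∈ E ∧ x⁻¹ * (1 : G) * x ≠ 1 := by
        rintro ⟨x, -, hx⟩
        exact hx (hone x)
      rw [if_pos rfl, if_neg n1, if_neg n2, if_neg n3]
      ring
    · have hconj : ∀ x : G, orderOf (x⁻¹ * g * x) = orderOf g := by
        intro x
        have : x⁻¹ * g * x = MulAut.conj x⁻¹ g := by simp
        rw [this, MulEquiv.orderOf_eq]
      rcases st.trichotomy hE g with h | h | h | h
      · exact absurd h hg1
      · have n2 : ¬ InZ P g := by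
          intro hz
          obtain ⟨x, hx⟩ := st.hP.exists_conj h
          exact hz x (Subgroup.le_normalizer hx)
        have n3 : ¬ ∃ x : G, x⁻¹ * g * x ∈ E ∧ x⁻¹ * g * x ≠ 1 := by
          rintro ⟨x, hx, -⟩
          apply st.reg_E hE hx
          rw [hconj, h]
        rw [if_neg hg1, if_pos h, if_neg n2, if_neg n3]
        ring
      · have n1 : ¬ orderOf g = p := by
          intro h'
          obtain ⟨x, hx, -⟩ := h
          apply st.reg_E hE hx
          rw [hconj, h']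
        have n2 : ¬ InZ P g := by
          intro hz
          obtain ⟨x, hx, -⟩ := h
          exact hz x (hE.le hx)
        rw [if_neg hg1, if_neg n1, if_neg n2, if_pos h]
        ring
      · have n1 : ¬ orderOf g = p := by
          intro h'
          obtain ⟨x, hx⟩ := st.hP.exists_conj h'
          exact h x (Subgroup.le_normalizer hx)
        have n3 : ¬ ∃ x : G, x⁻¹ * g * x ∈ E ∧ x⁻¹ * g * x ≠ 1 := by
          rintro ⟨x, hx, -⟩
          exact h x (hE.le hx)
        rw [if_neg hg1, if_neg n1, if_pos h, if_neg n3]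
        ring
  rw [h4, h2]
  push_cast
  linear_combination h3

end

end Cfsg.Agent.BR
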