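import Cfsg.Agent.BR.Data

/-!
Values of characters of perfect groups at involutions.
-/

set_option autoImplicit false

open scoped ComplexConjugate

namespace Cfsg.Agent.BR

open Cfsg Subgroup
open Cfsg.Agent.CharBase (oneIrr)

universe u

theorem ms_lemma (s : Multiset ℂ) (h : ∀ ω ∈ s, ω ^ 2 = 1) :
    ∃ c : ℕ, s.sum = (Multiset.card s : ℂ) - 2 * c ∧ s.prod = (-1) ^ c := by
  induction s using Multiset.induction_on with
  | empty => exact ⟨0, by simp, by simp⟩
  | cons a s ih =>
    obtain ⟨c, h1, h2⟩ := ih (fun ω hω => h ω (Multiset.mem_cons_of_mem hω))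
    have ha := h a (Multiset.mem_cons_self a s)
    rw [sq] at ha
    rcases mul_self_eq_one_iff.mp ha with h3 | h3
    · refine ⟨c, ?_, ?_⟩
      · rw [Multiset.sum_cons, Multiset.card_cons, h1, h3]; push_cast; ring
      · rw [Multiset.prod_cons, h2, h3, one_mul]
    · refine ⟨c + 1, ?_, ?_⟩
      · rw [Multiset.sum_cons, Multiset.card_cons, h1, h3]; push_cast; ring
      · rw [Multiset.prod_cons, h2, h3, pow_succ]; ring

theorem perfect_hom {G : Type u} [Group G] [Finite G] (hperf : commutator G = ⊤) (f : G →* ℂ)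
    (g : G) : f g = 1 := by
  have h := eq_one_of_perfect hperf (χ := ⟨f, Char.isIrrCharacter_of_hom f⟩)
    (H79.charDegree_eq (by simp))
  have h2 := congrFun (congrArg Subtype.val h) g
  exact h2

/-- in a perfect group, `χ(z) ≡ χ(1) mod 4` for an involution `z`. -/
theorem involution_value {G : Type u} [Group G] [Finite G] (hperf : commutator G = ⊤)
    (χ : IrrCharacter G) {z : G} (hz : z ^ 2 = 1) : ∃ k : ℕ, (χ : G → ℂ) z = (dg χ : ℂ) - 4 * k := by
  obtain ⟨d, ρ, hρ, hρχ, hd, -⟩ := H79.irr_exists_rep χ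
  set A : Matrix (Fin d) (Fin d) ℂ := LinearMap.toMatrix' (ρ z) with hA
  have hA2 : A ^ 2 = 1 := by
    rw [hA, sq, ← LinearMap.toMatrix'_mul, ← map_mul, ← sq, hz, map_one, LinearMap.toMatrix'_one]
  have htr : (χ : G → ℂ) z = A.trace := by
    rw [← hρχ, hA]
    unfold Representation.character
    rw [LinearMap.trace_eq_matrix_trace ℂ (Pi.basisFun ℂ (Fin d))]
    rfl
  have hdet : A.det = 1 := by
    have h := perfect_hom hperf ((LinearMap.det : ((Fin d → ℂ) →ₗ[ℂ] (Fin d → ℂ)) →* ℂ).comp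
      (ρ : G →* ((Fin d → ℂ) →ₗ[ℂ] (Fin d → ℂ)))) z
    rw [hA, LinearMap.det_toMatrix']
    exact h
  have hroots : ∀ ω ∈ A.charpoly.roots, ω ^ 2 = 1 := by
    intro ω hω
    have h1 : (ρ z).charpoly = A.charpoly := by
      rw [hA, ← LinearMap.charpoly_toMatrix (ρ z) (Pi.basisFun ℂ (Fin d))]
      rfl
    rw [← h1] at hω
    refine Char.endo_pow_eq_one_of_mem_roots ?_ hω
    rw [← map_pow, hz, map_one]
  obtain ⟨c, h1, h2⟩ := ms_lemma _ hroots
  have hcard : Multiset.card A.charpoly.roots = d := by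
    have h3 := Char.endo_card_roots (ρ z)
    have h4 : (ρ z).charpoly = A.charpoly := by
      rw [hA, ← LinearMap.charpoly_toMatrix (ρ z) (Pi.basisFun ℂ (Fin d))]
      rfl
    rw [h4] at h3
    rw [h3]
    simp
  rw [← Matrix.trace_eq_sum_roots_charpoly, hcard] at h1
  rw [← Matrix.det_eq_prod_roots_charpoly, hdet] at h2
  have hce : Even c := by
    by_contra hodd
    rw [Nat.not_even_iff_odd] at hodd
    rw [hodd.neg_one_pow] at h2
    norm_num at h2
  obtain ⟨k, hk⟩ := hce
  refine ⟨k, ?_⟩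
  rw [htr, h1]
  have h5 : dg χ = d := hd
  rw [h5, hk]
  push_cast
  ring

end Cfsg.Agent.BR
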