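import Cfsg.Agent.BR.Norm

/-!
The case of even inertial index.
-/

set_option autoImplicit false

open scoped ComplexConjugate

namespace Cfsg.Agent.BR

open Cfsg Subgroup
open Cfsg.Agent.CharBase (oneIrr)

universe u

section

variable {G : Type u} [Group G] [Fintype G] {p : ℕ} [hp : Fact p.Prime] {P : Subgroup G} {n : ℕ}
  (st : St p P n)

include st

theorem St.half_ne (he2 : Even (ind P)) : ¬ ind P ∣ ind P / 2 := by
  obtain ⟨k, hk⟩ := he2
  have he := st.he
  intro h
  have := Nat.le_of_dvd (by omega) h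
  omega

/-- a hom from a cyclic group of order `e` meeting `P` trivially. -/
theorem St.T_half (he2 : Even (ind P)) [Fintype (normalizer (P : Set G))] {x : G}
    (hx : x ∉ normalizer (P : Set G)) : st.T (ind P / 2) x = ind P := by
  have hle : Hx P x ≤ normalizer (P : Set G) := fun y hy => (mem_Hx.mp hy).1
  have hinf := st.Hx_inf hx
  have hcyc := st.cyc_of hle hinf
  have hcard := st.card_Hx hx
  rw [(st.T_nat (ind P / 2) x).2, hcard]
  intro y h h'
  -- a generator of `H_x`
  obtain ⟨g, hg⟩ := IsCyclic.exists_generator (α := Hx P x)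
  have hog : orderOf g = ind P := by
    rw [orderOf_eq_card_of_forall_mem_zpowers hg, hcard]
  have hymem : y ∈ Hx P x := mem_Hx.mpr ⟨h, h'⟩
  obtain ⟨i, hi⟩ := (Submonoid.mem_powers_iff _ _).mp
    (mem_powers_iff_mem_zpowers.mpr (hg ⟨y, hymem⟩))
  have hi' : (g : G) ^ i = y := by
    have := congrArg Subtype.val hi
    simpa using this
  -- two faithful characters of `H_x`
  set r : normalizer (P : Set G) := ⟨g, hle g.2⟩ with hr
  set s : normalizer (P : Set G) := ⟨x⁻¹ * g * x, (mem_Hx.mp g.2).2⟩ with hs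
  have hord : ∀ w : normalizer (P : Set G), orderOf (w : G) = ind P →
      (∀ k : ℕ, (w : G) ^ k ∈ P → (w : G) ^ k = 1) → orderOf (st.ρ w) = ind P := by
    intro w hw hk
    rw [← hw]
    apply Nat.dvd_antisymm
    · rw [Subgroup.orderOf_coe]
      exact orderOf_map_dvd st.ρ w
    · apply orderOf_dvd_of_pow_eq_one
      apply hk
      have h1 : st.ρ (w ^ orderOf (st.ρ w)) = 1 := by
        rw [map_pow, pow_orderOf_eq_one]
      have h2 := (st.hρ _).mp h1
      rwa [Subgroup.coe_pow] at h2
  have hgo : orderOf (g : G) = ind P := by rw [Subgroup.orderOf_coe, hog]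
  have hgk : ∀ k : ℕ, (g : G) ^ k ∈ P → (g : G) ^ k = 1 := by
    intro k hk
    refine hinf _ ?_ hk
    exact (Hx P x).pow_mem g.2 k
  have hconjpow : ∀ k : ℕ, (x⁻¹ * (g : G) * x) ^ k = x⁻¹ * (g : G) ^ k * x := by
    intro k
    have := conj_pow (a := x⁻¹) (b := (g : G)) (i := k)
    rw [inv_inv] at this
    exact this
  have h1 : orderOf (st.ρ r) = ind P := hord r hgo hgk
  have h2 : orderOf (st.ρ s) = ind P := by
    apply hord s
    · have : (s : G) = MulAut.conj x⁻¹ (g : G) := by simp [hs]
      rw [this, MulEquiv.orderOf_eq, hgo]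
    · intro k hk
      change (x⁻¹ * (g : G) * x) ^ k ∈ P at hk
      change (x⁻¹ * (g : G) * x) ^ k = 1
      rw [hconjpow] at hk ⊢
      have h3 : (g : G) ^ k = 1 := by
        by_contra hne
        have h4 : x⁻¹ * (g : G) ^ k * x ≠ 1 := by
          intro h5
          apply hne
          have : (g : G) ^ k = x * (x⁻¹ * (g : G) ^ k * x) * x⁻¹ := by group
          rw [this, h5]; group
        have h5 := st.hP.orderOf_eq hk h4
        have : x⁻¹ * (g : G) ^ k * x = MulAut.conj x⁻¹ ((g : G) ^ k) := by simp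
        rw [this, MulEquiv.orderOf_eq] at h5
        exact hne (hgk k (st.hP.mem_of_normalizer (hle ((Hx P x).pow_mem g.2 k)) h5))
      rw [h3]; group
  have e1 : lam st.ρ (ind P / 2) ⟨y, h⟩ = (-1) ^ i := by
    have : (⟨y, h⟩ : normalizer (P : Set G)) = r ^ i := by
      apply Subtype.ext
      rw [Subgroup.coe_pow]
      exact hi'.symm
    rw [this, lam_apply, map_pow, Units.val_pow_eq_pow_val, ← pow_mul, mul_comm, pow_mul,
      st.half_pow he2 h1]
  have e2 : lam st.ρ (ind P / 2) ⟨x⁻¹ * y * x, h'⟩ = (-1) ^ i := by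
    have : (⟨x⁻¹ * y * x, h'⟩ : normalizer (P : Set G)) = s ^ i := by
      apply Subtype.ext
      rw [Subgroup.coe_pow]
      change x⁻¹ * y * x = (x⁻¹ * (g : G) * x) ^ i
      rw [hconjpow, hi']
    rw [this, lam_apply, map_pow, Units.val_pow_eq_pow_val, ← pow_mul, mul_comm, pow_mul,
      st.half_pow he2 h2]
  rw [e1, e2]

/-- **`e` even**: `δ₀ = 1`, `t = n + 1` and `f = p - e`. -/
theorem St.even_case (he2 : Even (ind P)) : st.B.δ₀ = 1 ∧ st.B.Y.card = n + 1 ∧
    ∀ ψ ∈ st.B.Y, dg ψ + ind P = p := by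
  classical
  have := Fintype.ofFinite (normalizer (P : Set G))
  have h1 := st.norm_of_max (j := ind P / 2) (fun x hx => st.T_half he2 hx)
  have hn := st.hn
  have key : st.B.δ₀ = 1 ∧ st.B.Y.card = n + 1 := by
    rcases st.dich (st.half_ne he2) with ⟨χ, -, -, -, h⟩ | ⟨h0, h⟩
    · exfalso
      rw [h, CharBase.classInner_irr_self] at h1
      have : ((n + 1 : ℕ) : ℂ) = ((1 : ℕ) : ℂ) := by push_cast; exact h1.symm
      have : n + 1 = 1 := by exact_mod_cast this
      omega
    · refine ⟨h0, ?_⟩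
      rw [h, CharBase.classInner_sum_left] at h1
      rw [Finset.sum_congr rfl (g := fun _ => (1 : ℂ))] at h1
      · rw [Finset.sum_const, nsmul_eq_mul, mul_one] at h1
        exact_mod_cast h1
      · intro ψ hψ
        rw [CharBase.classInner_sum_right]
        simp only [CharBase.classInner_irr]
        rw [Finset.sum_ite_eq st.B.Y ψ, if_pos hψ]
  refine ⟨key.1, key.2, ?_⟩
  rcases st.hS.cases with ⟨-, -, m, hm1, hm2, hm3, -⟩ | ⟨h, -⟩
  · have hm : m = 1 := by
      rw [key.2] at hm3
      have : (n + 1) * m = (n + 1) * 1 := by rw [hm3]; ring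
      exact Nat.eq_of_mul_eq_mul_left (by omega) this
    intro ψ hψ
    rw [hm2 ψ hψ, hm, one_mul]
  · rw [key.1] at h
    exact absurd h (by norm_num)

/-- the only induced character containing exceptional characters is the one of the quadratic
character. -/
theorem St.even_irr (he2 : Even (ind P)) {j : ℕ} (hj : j < ind P) (hj0 : j ≠ 0)
    (hjh : j ≠ ind P / 2) : ∃ χ : IrrCharacter G, Phi st.ρ j = (χ : G → ℂ) := by
  classical
  have := Fintype.ofFinite P
  obtain ⟨hδ, hY, hf⟩ := st.even_case he2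
  have he := st.he
  rcases st.dich (not_dvd_of_lt st (Finset.mem_range.mpr hj) hj0) with ⟨χ, -, -, -, h⟩ | ⟨-, h⟩
  · exact ⟨χ, h⟩
  · exfalso
    obtain ⟨ψ, hψ⟩ := st.B.Y_nonempty (by have := st.hp3; omega)
    have hs := st.sum_inner (CharBase.irr_isClassFunction ψ)
    have h2 : ∑ x : P, conj ((ψ : G → ℂ) x) = (p : ℂ) * 1 := by
      rw [← map_sum, st.B.sum_Y hψ, hδ]
      simp only [map_add, map_mul, Complex.conj_natCast, map_intCast]
      have h3 : ((dg ψ + ind P : ℕ) : ℂ) = ((p : ℕ) : ℂ) := by rw [hf ψ hψ]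
      push_cast at h3 ⊢
      linear_combination h3
    rw [h2] at hs
    have hp0 : (p : ℂ) ≠ 0 := by exact_mod_cast hp.out.ne_zero
    have hs' := mul_left_cancel₀ hp0 hs
    choose m hm using fun j => CharBase.classInner_natCast (Phi_isChar st.ρ j)
      (CharBase.irr_isCharacter ψ)
    rw [Finset.sum_congr rfl (fun j _ => hm j)] at hs'
    have hs2 : ∑ j ∈ Finset.range (ind P), m j = 1 := by exact_mod_cast hs'
    have hone : ∀ k, Phi st.ρ k = ∑ ψ ∈ st.B.Y, (ψ : G → ℂ) → m k = 1 := by
      intro k hk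
      have h3 := hm k
      rw [hk, CharBase.classInner_sum_left] at h3
      simp only [CharBase.classInner_irr] at h3
      rw [Finset.sum_ite_eq' st.B.Y ψ, if_pos hψ] at h3
      exact_mod_cast h3.symm
    have hmj : m j = 1 := hone j h
    have hmh : m (ind P / 2) = 1 := by
      rcases st.dich (st.half_ne he2) with ⟨χ, -, -, -, h'⟩ | ⟨-, h'⟩
      · exfalso
        have := Fintype.ofFinite (normalizer (P : Set G))
        have h1 := st.norm_of_max (j := ind P / 2) (fun x hx => st.T_half he2 hx)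
        rw [h', CharBase.classInner_irr_self] at h1
        have h4 : ((n + 1 : ℕ) : ℂ) = ((1 : ℕ) : ℂ) := by push_cast; exact h1.symm
        have h5 : n + 1 = 1 := by exact_mod_cast h4
        have := st.hn
        omega
      · exact hone _ h'
    have h5 : ({j, ind P / 2} : Finset ℕ) ⊆ Finset.range (ind P) := by
      intro k hk
      rw [Finset.mem_insert, Finset.mem_singleton] at hk
      rw [Finset.mem_range]
      rcases hk with rfl | rfl
      · exact hj
      · omega
    have h6 := Finset.sum_le_sum_of_subset (f := m) h5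
    rw [hs2, Finset.sum_pair hjh, hmj, hmh] at h6
    omega

theorem St.lam_pow_eq {j k r : ℕ} (hj : ind P = r * j) (hkr : k ≡ 1 [MOD r])
    (w : normalizer (P : Set G)) : lam st.ρ j (w ^ k) = lam st.ρ j w := by
  set u : ℂˣ := (st.ρ w) ^ j with hu
  have h0 : lam st.ρ j (w ^ k) = ((u ^ k : ℂˣ) : ℂ) := by
    rw [lam_apply, map_pow, hu, Units.val_pow_eq_pow_val, Units.val_pow_eq_pow_val,
      Units.val_pow_eq_pow_val, ← pow_mul, ← pow_mul, mul_comm k j]
  have h1 : lam st.ρ j w = (u : ℂ) := by
    rw [lam_apply, hu, Units.val_pow_eq_pow_val]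
  have h2 : u ^ r = 1 := by
    rw [hu, ← pow_mul, mul_comm, ← hj, st.rho_pow]
  have h3 : orderOf u ∣ r := orderOf_dvd_of_pow_eq_one h2
  have h4 : u ^ k = u ^ 1 := pow_eq_pow_iff_modEq.mpr (hkr.of_dvd h3)
  rw [pow_one] at h4
  rw [h0, h1, h4]

/-- centralizers of noninvolutions of `E`. -/
theorem St.even_centralizer (he2 : Even (ind P)) {E : Subgroup G} (hE : IsE P n E) {y : G}
    (hy : y ∈ E) (hy1 : y ≠ 1) (hy2 : y ^ 2 ≠ 1) : centralizer ({y} : Set G) = E := by
  classical
  have := Fintype.ofFinite (normalizer (P : Set G))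
  have he := st.he
  apply le_antisymm
  · intro c hc
    have hcy : c⁻¹ * y * c = y := by
      have := Subgroup.mem_centralizer_iff.mp hc y (Set.mem_singleton y)
      rw [mul_assoc, this, inv_mul_cancel_left]
    have hcM : c ∈ normalizer (E : Set G) := by
      rw [← hE.ti y hy hy1, hcy]; exact hy
    by_contra hcE
    have hH := hE.dbl c hcM hcE
    have hcN : c ∉ normalizer (P : Set G) := fun h => hcE (hE.infM c hcM h)
    have hcyc := hE.cyc
    obtain ⟨g, hg⟩ := IsCyclic.exists_generator (α := E)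
    -- `c` acts as a power map
    have hgc : c⁻¹ * (g : G) * c ∈ E := (Subgroup.mem_normalizer_iff''.mp hcM g).mp g.2
    obtain ⟨k, hk⟩ := (Submonoid.mem_powers_iff _ _).mp
      (mem_powers_iff_mem_zpowers.mpr (hg ⟨_, hgc⟩))
    have hk' : (g : G) ^ k = c⁻¹ * (g : G) * c := by
      have := congrArg Subtype.val hk
      simpa using this
    have hact : ∀ w ∈ E, c⁻¹ * w * c = w ^ k := by
      intro w hw
      obtain ⟨i, hi⟩ := (Submonoid.mem_powers_iff _ _).mp
        (mem_powers_iff_mem_zpowers.mpr (hg ⟨w, hw⟩))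
      have hi' : (g : G) ^ i = w := by
        have := congrArg Subtype.val hi
        simpa using this
      have h1 := conj_pow (a := c⁻¹) (b := (g : G)) (i := i)
      rw [inv_inv] at h1
      rw [← hi', ← h1, ← hk', ← pow_mul, ← pow_mul, mul_comm]
    -- the order of `y`
    set r := orderOf y with hr
    have hrE : r ∣ ind P := by
      rw [← hE.card, hr, ← Subgroup.orderOf_mk y hy]
      exact orderOf_dvd_natCard _
    have hr0 : 0 < r := orderOf_pos y
    have hr3 : 3 ≤ r := by
      have h1 : r ≠ 1 := by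
        intro h
        rw [hr, orderOf_eq_one_iff] at h
        exact hy1 h
      have h2 : r ≠ 2 := by
        intro h
        apply hy2
        rw [← h, hr, pow_orderOf_eq_one]
      omega
    have hkr : k ≡ 1 [MOD r] := by
      have h1 : y ^ k = y ^ 1 := by rw [← hact y hy, hcy, pow_one]
      exact pow_eq_pow_iff_modEq.mp h1
    obtain ⟨j, hj⟩ := hrE
    have hj0 : j ≠ 0 := by
      rintro rfl
      rw [mul_zero] at hj
      omega
    have hjlt : j < ind P := by
      rw [hj]
      nlinarith [Nat.pos_of_ne_zero hj0]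
    have hjh : j ≠ ind P / 2 := by
      intro h
      obtain ⟨l, hl⟩ := he2
      have h1 : 2 * j = ind P := by omega
      have h2 : 3 * j ≤ r * j := Nat.mul_le_mul_right j hr3
      rw [← hj] at h2
      have := Nat.pos_of_ne_zero hj0
      omega
    obtain ⟨χ, hχ⟩ := st.even_irr he2 hjlt hj0 hjh
    have hT0 := st.T_zero hχ hcN
    have hcond : ∀ w : G, ∀ h : w ∈ normalizer (P : Set G),
        ∀ h' : c⁻¹ * w * c ∈ normalizer (P : Set G),
        lam st.ρ j ⟨w, h⟩ = lam st.ρ j ⟨c⁻¹ * w * c, h'⟩ := by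
      intro w h h'
      have hwE : w ∈ E := by rw [← hH]; exact mem_Hx.mpr ⟨h, h'⟩
      have h1 : (⟨c⁻¹ * w * c, h'⟩ : normalizer (P : Set G)) = ⟨w, h⟩ ^ k := by
        apply Subtype.ext
        rw [Subgroup.coe_pow]
        exact hact w hwE
      rw [h1, st.lam_pow_eq hj hkr]
    have hT1 := (st.T_nat j c).2 hcond
    rw [hT0, hH, hE.card] at hT1
    have : ind P = 0 := by exact_mod_cast hT1.symm
    omega
  · intro c hc
    rw [Subgroup.mem_centralizer_iff]
    intro z hz
    rw [Set.mem_singleton_iff.mp hz]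
    exact hE.comm y hy c hc

end

end Cfsg.Agent.BR
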