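import Cfsg.Agent.BR.IdentB
import Cfsg.Agent.CycG.PrinData
import Cfsg.Agent.Solv.Core

/-!
The Brauer-Reynolds theorem.
-/

set_option autoImplicit false

namespace Cfsg.Agent.BR

open Cfsg Subgroup

universe u v

/-- the two conclusions. -/
def Concl (p : ℕ) (X : Type u) [Group X] : Prop :=
  (∃ (F : Type) (_ : Field F) (_ : Fintype F), Fintype.card F = p ∧ 3 < p ∧
      Nonempty (X ≃* Matrix.ProjectiveSpecialLinearGroup (Fin 2) F)) ∨
    (∃ (m : ℕ) (F : Type) (_ : Field F) (_ : Fintype F), Fintype.card F = 2 ^ m ∧ p = 2 ^ m + 1 ∧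
      3 < p ∧ Nonempty (X ≃* Matrix.SpecialLinearGroup (Fin 2) F))

section

variable {G : Type u} [Group G] [Finite G] {p : ℕ} [hp : Fact p.Prime] {P : Subgroup G} {n : ℕ}

/-- the normalizer acts faithfully: `ind P ≤ p - 1`. -/
theorem ind_le (hP : Sp p P) : ind P ≤ p - 1 := by
  classical
  have := Fintype.ofFinite G
  obtain ⟨x, hx, hx1⟩ := exists_ne_one hP
  -- the conjugates of `x` under `N`
  let f : normalizer (P : Set G) ⧸ (centralizer (P : Set G)).subgroupOf (normalizer (P : Set G)) →
      {y : G // y ∈ P ∧ y ≠ 1} :=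
    Quotient.lift (s := QuotientGroup.leftRel _)
      (fun g : normalizer (P : Set G) => ⟨(g : G) * x * (g : G)⁻¹,
        (Subgroup.mem_normalizer_iff.mp g.2 x).mp hx, by
          intro h
          apply hx1
          have : x = (g : G)⁻¹ * ((g : G) * x * (g : G)⁻¹) * g := by group
          rw [this, h]; group⟩) (by
      intro a b hab
      have h1 : a⁻¹ * b ∈ (centralizer (P : Set G)).subgroupOf (normalizer (P : Set G)) :=
        QuotientGroup.leftRel_apply.mp hab
      rw [Subgroup.mem_subgroupOf] at h1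
      have h2 := Subgroup.mem_centralizer_iff.mp h1 x hx
      apply Subtype.ext
      change (a : G) * x * (a : G)⁻¹ = (b : G) * x * (b : G)⁻¹
      have h3 : x * ((a : G)⁻¹ * b) = (a : G)⁻¹ * b * x := h2
      have h4 : (a : G) * x * (a : G)⁻¹ = (a : G) * (x * ((a : G)⁻¹ * b)) * (b : G)⁻¹ := by group
      rw [h4, h3]; group)
  have hf : Function.Injective f := by
    intro a b
    refine Quotient.inductionOn₂' a b ?_
    intro a b hab
    have h1 : (a : G) * x * (a : G)⁻¹ = (b : G) * x * (b : G)⁻¹ := congrArg Subtype.val hab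
    apply QuotientGroup.eq.mpr
    rw [Subgroup.mem_subgroupOf]
    change (a : G)⁻¹ * b ∈ centralizer (P : Set G)
    rw [← hP.centralizer_eq hx hx1, Subgroup.mem_centralizer_iff]
    intro y hy
    rw [Set.mem_singleton_iff.mp hy]
    have h2 : x * ((a : G)⁻¹ * b) = (a : G)⁻¹ * ((a : G) * x * (a : G)⁻¹) * b := by group
    rw [h2, h1]; group
  have h1 := Nat.card_le_card_of_injective f hf
  have h2 : Nat.card {y : G // y ∈ P ∧ y ≠ 1} = p - 1 := by
    have h3 : Nat.card {y : P // y ≠ 1} = p - 1 := by
      have := Fintype.ofFinite P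
      rw [Nat.card_eq_fintype_card, Fintype.card_subtype_compl, Fintype.card_subtype_eq,
        ← Nat.card_eq_fintype_card, hP.card]
    rw [← h3]
    refine Nat.card_congr ⟨fun y => ⟨⟨y.1, y.2.1⟩, fun h => y.2.2 (congrArg Subtype.val h)⟩,
      fun y => ⟨y.1.1, y.1.2, fun h => y.2 (Subtype.ext h)⟩, fun _ => rfl, fun _ => rfl⟩
  rw [h2] at h1
  exact h1

theorem three_le (hP : Sp p P) (hperf : commutator G = ⊤) : 3 ≤ p := by
  have h1 := two_le_ind hP hperf
  have h2 := ind_le hP
  omega

/-- an abelian quotient of the normalizer modulo the centralizer. -/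
theorem one_le_n (hP : Sp p P) (hperf : commutator G = ⊤)
    (hD : (normalizer (P : Set G)).index = 1 + n * p) : 1 ≤ n := by
  by_contra hcon
  have hn : n = 0 := by omega
  rw [hn, zero_mul, add_zero, Subgroup.index_eq_one] at hD
  -- `G` acts on `P`
  have hPn : P.Normal := Subgroup.normalizer_eq_top_iff.mp hD
  let φ : G →* MulAut P := MulAut.conjNormal
  have hcyc : IsCyclic P := isCyclic_of_prime_card hP.card
  have hker : φ.ker = centralizer (P : Set G) := by
    ext g
    rw [MonoidHom.mem_ker, Subgroup.mem_centralizer_iff]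
    constructor
    · intro hg h hh
      have h1 : φ g ⟨h, hh⟩ = ⟨h, hh⟩ := by rw [hg]; rfl
      have h2 : g * h * g⁻¹ = h := by
        have := congrArg Subtype.val h1
        simpa [φ] using this
      calc h * g = (g * h * g⁻¹) * g := by rw [h2]
        _ = g * h := by group
    · intro hg
      ext ⟨h, hh⟩
      have h2 := hg h hh
      simp only [φ, MulAut.conjNormal_apply, MulAut.one_apply]
      rw [← h2]; group
  have habel : ∀ a b : MulAut P, a * b = b * a := by
    intro a b
    obtain ⟨e⟩ : Nonempty (MulAut P ≃* (ZMod (Nat.card P))ˣ) := ⟨IsCyclic.mulAutMulEquiv P⟩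
    apply e.injective
    rw [map_mul, map_mul, mul_comm]
  have h1 : φ.ker = ⊤ := by
    have h2 : commutator G ≤ φ.ker := by
      rw [commutator_def, Subgroup.commutator_le]
      intro a _ b _
      rw [MonoidHom.mem_ker, map_commutatorElement, commutatorElement_def, habel (φ a) (φ b)]
      group
    rw [hperf] at h2
    exact top_le_iff.mp h2
  rw [hker] at h1
  have h2 := two_le_ind hP hperf
  unfold ind at h2
  rw [h1, Subgroup.relIndex_top_left] at h2
  omega

/-- the case of trivial `p'`-core. -/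
theorem core_concl (hperf : commutator G = ⊤) (hP : Sp p P)
    (hD : (normalizer (P : Set G)).index = 1 + n * p) (hT : ¬ Third p n)
    (hO : pPrimeCore p G = ⊥) : Concl p G := by
  classical
  have := Fintype.ofFinite G
  obtain ⟨B⟩ := CycG.nonempty_data hP
  have hn := one_le_n hP hperf hD
  have hp3 := three_le hP hperf
  have hC := B.self_cent hP hp3 hperf hn hD hT hO
  obtain ⟨st⟩ := exists_st hP hC B hp3 hperf hn hD hT
  rcases st.final with ⟨F, hF, hF', h1, h2, h3⟩ | ⟨m, F, hF, hF', h1, h2, h3, h4⟩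
  · exact Or.inl ⟨F, hF, hF', h1, h2, h3⟩
  · refine Or.inr ⟨m, F, hF, hF', h3, h2, ?_, h4⟩
    have : 4 ≤ 2 ^ m := by
      calc 4 = 2 ^ 2 := by norm_num
        _ ≤ 2 ^ m := Nat.pow_le_pow_right (by norm_num) h1
    omega

/-- the case `C(P) = P`. -/
theorem cent_concl (hperf : commutator G = ⊤) (hP : Sp p P)
    (hD : (normalizer (P : Set G)).index = 1 + n * p) (hT : ¬ Third p n)
    (hC : centralizer (P : Set G) = P) : Concl p G := by
  classical
  have := Fintype.ofFinite G
  obtain ⟨B⟩ := CycG.nonempty_data hP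
  have hn := one_le_n hP hperf hD
  have hp3 := three_le hP hperf
  obtain ⟨st⟩ := exists_st hP hC B hp3 hperf hn hD hT
  rcases st.final with ⟨F, hF, hF', h1, h2, h3⟩ | ⟨m, F, hF, hF', h1, h2, h3, h4⟩
  · exact Or.inl ⟨F, hF, hF', h1, h2, h3⟩
  · refine Or.inr ⟨m, F, hF, hF', h3, h2, ?_, h4⟩
    have : 4 ≤ 2 ^ m := by
      calc 4 = 2 ^ 2 := by norm_num
        _ ≤ 2 ^ m := Nat.pow_le_pow_right (by norm_num) h1
    omega

end

section

variable {G : Type u} [Group G] [Finite G] {H : Type v} [Group H] [Finite H]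
  {p : ℕ} [hp : Fact p.Prime] {P : Subgroup G} {n : ℕ}

omit [Finite G] [Finite H] hp in
theorem perfect_map (hperf : commutator G = ⊤) (f : G →* H) (hf : Function.Surjective f) :
    commutator H = ⊤ := by
  rw [commutator_def, ← Subgroup.map_top_of_surjective f hf, ← Subgroup.map_commutator,
    ← commutator_def, hperf]

theorem Sp.map (hP : Sp p P) (f : G →* H) (hf : Function.Surjective f)
    (hk : (Nat.card f.ker).Coprime p) : Sp p (P.map f) := by
  constructor
  · have hinj : Function.Injective (f.comp P.subtype) := by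
      rw [injective_iff_map_eq_one]
      intro x hx
      by_contra hx1
      have h1 : (x : G) ∈ f.ker := hx
      have h2 : orderOf (x : G) = p := hP.orderOf_eq x.2 (fun h => hx1 (Subtype.ext h))
      have h3 : p ∣ Nat.card f.ker := by
        have := orderOf_dvd_natCard (⟨(x : G), h1⟩ : f.ker)
        rwa [Subgroup.orderOf_mk, h2] at this
      have h4 := Nat.Coprime.eq_one_of_dvd hk.symm h3
      exact hp.out.one_lt.ne' h4
    have h1 : P.map f = (f.comp P.subtype).range := by
      rw [MonoidHom.range_comp, Subgroup.range_subtype]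
    rw [h1, ← Nat.card_congr (MonoidHom.ofInjective hinj).toEquiv, hP.card]
  · intro h
    exact hP.idx (h.trans (Subgroup.index_map_dvd P hf))

theorem exists_index (hP : Sp p P) : ∃ n : ℕ, (normalizer (P : Set G)).index = 1 + n * p := by
  have h1 := card_sylow_modEq_one p G
  rw [hP.card_sylow] at h1
  have h2 : 1 ≤ (normalizer (P : Set G)).index := Nat.pos_of_ne_zero
    Subgroup.FiniteIndex.index_ne_zero
  obtain ⟨k, hk⟩ := (Nat.modEq_iff_dvd' h2).mp h1.symm
  exact ⟨k, by rw [mul_comm]; omega⟩

omit [Finite H] in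
theorem index_map_dvd' (f : G →* H) (hf : Function.Surjective f) :
    (normalizer ((P.map f : Subgroup H) : Set H)).index ∣ (normalizer (P : Set G)).index := by
  rw [← Subgroup.index_comap_of_surjective _ hf]
  apply Subgroup.index_dvd_of_le
  intro g hg
  rw [Subgroup.mem_comap, Subgroup.mem_normalizer_iff_map_conj_eq]
  rw [Subgroup.mem_normalizer_iff_map_conj_eq] at hg
  conv_rhs => rw [← hg]
  rw [Subgroup.map_map, Subgroup.map_map]
  congr 1
  ext x
  simp

/-- **Brauer-Reynolds**. -/
theorem main_concl (hperf : commutator G = ⊤) (hP : Sp p P)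
    (hD : (normalizer (P : Set G)).index = 1 + n * p) (hT : ¬ Third p n) :
    Concl p (G ⧸ pPrimeCore p G) := by
  have hsurj := QuotientGroup.mk'_surjective (pPrimeCore p G)
  have hk : (Nat.card (QuotientGroup.mk' (pPrimeCore p G)).ker).Coprime p := by
    rw [QuotientGroup.ker_mk']
    exact Solv.pPrimeCore_card_coprime p
  have hP' := hP.map (QuotientGroup.mk' (pPrimeCore p G)) hsurj hk
  have hperf' : commutator (G ⧸ pPrimeCore p G) = ⊤ :=
    perfect_map hperf (QuotientGroup.mk' (pPrimeCore p G)) hsurj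
  obtain ⟨n', hn'⟩ := exists_index hP'
  refine core_concl (n := n') hperf' hP' hn' ?_ (Solv.pPrimeCore_quotient_pPrimeCore p)
  intro hT'
  apply hT
  have h1 := index_map_dvd' (P := P) (QuotientGroup.mk' (pPrimeCore p G)) hsurj
  rw [hn', hD] at h1
  obtain ⟨k, hk'⟩ := h1
  exact third_mono hp.out.one_lt.le (h := by rw [hk', mul_comm]) hT'

end

end Cfsg.Agent.BR
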