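import Cfsg.Agent.BR.SelfCent
import Cfsg.Agent.Char.IndRep

/-!
The normalizer of a self-centralizing subgroup of prime order.
-/

set_option autoImplicit false

open scoped ComplexConjugate

namespace Cfsg.Agent.BR

open Cfsg Subgroup
open Cfsg.Agent.CharBase (oneIrr)

universe u

section

variable {G : Type u} [Group G] [Finite G] {p : ℕ} [hp : Fact p.Prime] {P : Subgroup G}

theorem card_N (hP : Sp p P) (hC : centralizer (P : Set G) = P) :
    Nat.card (normalizer (P : Set G)) = p * ind P := by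
  unfold ind
  rw [hC, ← hP.card]
  have h := Subgroup.relIndex_mul_relIndex ⊥ P (normalizer (P : Set G)) bot_le
    Subgroup.le_normalizer
  rw [Subgroup.relIndex_bot_left, Subgroup.relIndex_bot_left] at h
  exact h.symm

theorem card_G (hP : Sp p P) (hC : centralizer (P : Set G) = P) :
    Nat.card G = p * ind P * (normalizer (P : Set G)).index := by
  rw [← card_N hP hC, Subgroup.card_mul_index]

/-- an element commuting with a nontrivial element of `P` is in `P`. -/
theorem mem_P_of_comm (hP : Sp p P) (hC : centralizer (P : Set G) = P) {x y : G} (hx : x ∈ P)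
    (hx1 : x ≠ 1) (h : x * y = y * x) : y ∈ P := by
  rw [← hC, ← hP.centralizer_eq hx hx1, Subgroup.mem_centralizer_iff]
  intro z hz
  rw [Set.mem_singleton_iff.mp hz, h]

theorem orderOf_or (hP : Sp p P) (hC : centralizer (P : Set G) = P) (g : G) :
    orderOf g = p ∨ ¬ p ∣ orderOf g := by
  by_cases h : p ∣ orderOf g
  · left
    obtain ⟨k, hk⟩ := h
    have hk0 : k ≠ 0 := by
      rintro rfl
      rw [mul_zero] at hk
      exact (orderOf_pos g).ne' hk
    have h1 : orderOf (g ^ k) = p := by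
      rw [orderOf_pow' g hk0, hk, Nat.gcd_eq_right (Dvd.intro_left p rfl)]
      exact Nat.mul_div_cancel _ (Nat.pos_of_ne_zero hk0)
    obtain ⟨x, hx⟩ := hP.exists_conj h1
    have hx1 : x⁻¹ * g ^ k * x ≠ 1 := by
      intro h2
      have : g ^ k = x * (x⁻¹ * g ^ k * x) * x⁻¹ := by group
      rw [h2] at this
      have h3 : g ^ k = 1 := by rw [this]; group
      rw [h3, orderOf_one] at h1
      exact hp.out.one_lt.ne h1
    have hy : x⁻¹ * g * x ∈ P := by
      refine mem_P_of_comm hP hC hx hx1 ?_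
      have e1 : x⁻¹ * g ^ k * x * (x⁻¹ * g * x) = x⁻¹ * (g ^ k * g) * x := by group
      have e2 : x⁻¹ * g * x * (x⁻¹ * g ^ k * x) = x⁻¹ * (g * g ^ k) * x := by group
      rw [e1, e2, ← pow_succ, ← pow_succ']
    have hy1 : x⁻¹ * g * x ≠ 1 := by
      intro h2
      have : g = x * (x⁻¹ * g * x) * x⁻¹ := by group
      rw [h2] at this
      have h3 : g = 1 := by rw [this]; group
      rw [h3, orderOf_one] at hk
      exact hp.out.one_lt.ne' (Nat.eq_one_of_mul_eq_one_right hk.symm)
    have h4 := hP.orderOf_eq hy hy1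
    have : x⁻¹ * g * x = MulAut.conj x⁻¹ g := by simp
    rw [this, MulEquiv.orderOf_eq] at h4
    exact h4
  · exact Or.inr h

/-- elements of `N ∖ P` are `p`-regular. -/
theorem reg_of_notMem (hP : Sp p P) (hC : centralizer (P : Set G) = P) {y : G}
    (hy : y ∈ normalizer (P : Set G)) (hyP : y ∉ P) : ¬ p ∣ orderOf y := by
  rcases orderOf_or hP hC y with h | h
  · exact absurd (hP.mem_of_normalizer hy h) hyP
  · exact h

/-- the coset `P y` is a single `P`-class for `y ∈ N ∖ P`. -/
theorem coset_conj (hP : Sp p P) (hC : centralizer (P : Set G) = P) {y z : G}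
    (hy : y ∈ normalizer (P : Set G)) (hyP : y ∉ P) (hz : z * y⁻¹ ∈ P) :
    ∃ x ∈ P, z = x * y * x⁻¹ := by
  have hcomm : ∀ a ∈ P, a ≠ 1 → a * y ≠ y * a := by
    intro a ha ha1 h
    exact hyP (mem_P_of_comm hP hC ha ha1 h)
  -- the map x ↦ x y x⁻¹ y⁻¹ is injective on `P`
  let f : P → P := fun x => ⟨(x : G) * (y * (x : G)⁻¹ * y⁻¹),
    P.mul_mem x.2 ((Subgroup.mem_normalizer_iff.mp hy _).mp (P.inv_mem x.2))⟩
  have hPc : ∀ a ∈ P, ∀ b ∈ P, a * b = b * a := by
    intro a ha b hb
    have h1 : a ∈ centralizer (P : Set G) := by rw [hC]; exact ha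
    exact (Subgroup.mem_centralizer_iff.mp h1 b hb).symm
  have hf : Function.Injective f := by
    intro a b hab
    have h1 : (a : G) * (y * (a : G)⁻¹ * y⁻¹) = (b : G) * (y * (b : G)⁻¹ * y⁻¹) :=
      congrArg Subtype.val hab
    by_contra hne
    have h2 : (b : G)⁻¹ * a ≠ 1 := by
      intro h2
      exact hne (Subtype.ext (inv_mul_eq_one.mp h2).symm)
    refine hcomm _ (P.mul_mem (P.inv_mem b.2) a.2) h2 ?_
    have h3 : (a : G) * y * (a : G)⁻¹ = b * y * (b : G)⁻¹ := by
      have e1 : (a : G) * y * (a : G)⁻¹ = (a : G) * (y * (a : G)⁻¹ * y⁻¹) * y := by group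
      have e2 : (b : G) * y * (b : G)⁻¹ = (b : G) * (y * (b : G)⁻¹ * y⁻¹) * y := by group
      rw [e1, h1, e2]
    calc (b : G)⁻¹ * a * y = (b : G)⁻¹ * (a * y * (a : G)⁻¹) * a := by group
      _ = y * ((b : G)⁻¹ * a) := by rw [h3]; group
  have hsurj : Function.Surjective f := Finite.surjective_of_injective hf
  obtain ⟨x, hx⟩ := hsurj ⟨z * y⁻¹, hz⟩
  refine ⟨x, x.2, ?_⟩
  have h1 : (x : G) * (y * (x : G)⁻¹ * y⁻¹) = z * y⁻¹ := congrArg Subtype.val hx
  have : z = (z * y⁻¹) * y := by group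
  rw [this, ← h1]; group

/-- a faithful linear character of `N/P`. -/
theorem exists_rho (hP : Sp p P) (hC : centralizer (P : Set G) = P) :
    ∃ ρ : (normalizer (P : Set G)) →* ℂˣ, ∀ y : normalizer (P : Set G), ρ y = 1 ↔ (y : G) ∈ P := by
  have hcyc : IsCyclic P := isCyclic_of_prime_card hP.card
  set N := normalizer (P : Set G) with hN
  let α : N →* MulAut (P.subgroupOf N) := MulAut.conjNormal
  have hcycN : IsCyclic (P.subgroupOf N) :=
    isCyclic_of_surjective (Subgroup.subgroupOfEquivOfLe (Subgroup.le_normalizer (H := P))).symm.toMonoidHom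
      (Subgroup.subgroupOfEquivOfLe (Subgroup.le_normalizer (H := P))).symm.surjective
  have hcard : Nat.card (P.subgroupOf N) = p := by
    rw [Nat.card_congr (Subgroup.subgroupOfEquivOfLe (Subgroup.le_normalizer (H := P))).toEquiv,
      hP.card]
  let β : MulAut (P.subgroupOf N) ≃* (ZMod (Nat.card (P.subgroupOf N)))ˣ :=
    IsCyclic.mulAutMulEquiv _
  have : Fact (Nat.card (P.subgroupOf N)).Prime := by rw [hcard]; exact hp
  have hcyc2 : IsCyclic (ZMod (Nat.card (P.subgroupOf N)))ˣ := inferInstance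
  set m := Nat.card (ZMod (Nat.card (P.subgroupOf N)))ˣ with hm
  have hm0 : m ≠ 0 := Nat.card_pos.ne'
  have : NeZero m := ⟨hm0⟩
  have hroots : Nat.card (rootsOfUnity m ℂ) = m := by
    exact Complex.card_rootsOfUnity m
  let γ : (ZMod (Nat.card (P.subgroupOf N)))ˣ ≃* rootsOfUnity m ℂ :=
    mulEquivOfCyclicCardEq (by rw [hroots])
  refine ⟨(rootsOfUnity m ℂ).subtype.comp (γ.toMonoidHom.comp (β.toMonoidHom.comp α)), ?_⟩
  intro y
  have h1 : ((rootsOfUnity m ℂ).subtype.comp (γ.toMonoidHom.comp (β.toMonoidHom.comp α))) y = 1 ↔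
      α y = 1 := by
    simp only [MonoidHom.comp_apply, MulEquiv.coe_toMonoidHom, Subgroup.coe_subtype,
      OneMemClass.coe_eq_one]
    rw [EmbeddingLike.map_eq_one_iff, EmbeddingLike.map_eq_one_iff]
  rw [h1]
  constructor
  · intro h
    rw [← hC, Subgroup.mem_centralizer_iff]
    intro x hx
    have h2 := congrArg (fun f : MulAut (P.subgroupOf N) =>
      (((f ⟨⟨x, Subgroup.le_normalizer hx⟩, hx⟩ : P.subgroupOf N) : N) : G)) h
    simp only [α, MulAut.conjNormal_apply, MulAut.one_apply] at h2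
    have h3 : (y : G) * x * (y : G)⁻¹ = x := h2
    calc x * y = (y : G) * x * (y : G)⁻¹ * y := by rw [h3]
      _ = y * x := by group
  · intro h
    have hPc : ∀ a ∈ P, ∀ b ∈ P, a * b = b * a := by
      intro a ha b hb
      have h1 : a ∈ centralizer (P : Set G) := by rw [hC]; exact ha
      exact (Subgroup.mem_centralizer_iff.mp h1 b hb).symm
    ext x
    simp only [α, MulAut.conjNormal_apply, MulAut.one_apply]
    have h4 : (y : G) * ((x : N) : G) = ((x : N) : G) * (y : G) := hPc _ h _ x.2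
    have h3 : (y : G) * ((x : N) : G) * (y : G)⁻¹ = ((x : N) : G) := by
      rw [h4]; group
    exact h3

end

end Cfsg.Agent.BR
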