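import Cfsg.Agent.BR.PartB2
import Cfsg.Agent.H30.Permute

/-!
Group structure forced by the permutation character: the two-point stabilizers.
-/

set_option autoImplicit false

open scoped ComplexConjugate

namespace Cfsg.Agent.BR

open Cfsg Subgroup
open Cfsg.Agent.CharBase (oneIrr)

universe u

section

variable {G : Type u} [Group G] [Fintype G] {p : ℕ} [hp : Fact p.Prime] {P : Subgroup G} {n : ℕ}

/-- `N ∩ x N x⁻¹`. -/
def Hx (P : Subgroup G) (x : G) : Subgroup G where
  carrier := {y | y ∈ normalizer (P : Set G) ∧ x⁻¹ * y * x ∈ normalizer (P : Set G)}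
  one_mem' := ⟨one_mem _, by simp [Subgroup.one_mem]⟩
  mul_mem' := by
    rintro a b ⟨ha, ha'⟩ ⟨hb, hb'⟩
    refine ⟨Subgroup.mul_mem _ ha hb, ?_⟩
    have : x⁻¹ * (a * b) * x = (x⁻¹ * a * x) * (x⁻¹ * b * x) := by group
    rw [this]
    exact Subgroup.mul_mem _ ha' hb'
  inv_mem' := by
    rintro a ⟨ha, ha'⟩
    refine ⟨Subgroup.inv_mem _ ha, ?_⟩
    have : x⁻¹ * a⁻¹ * x = (x⁻¹ * a * x)⁻¹ := by group
    rw [this]
    exact Subgroup.inv_mem _ ha'

omit [Fintype G] in
theorem mem_Hx {x y : G} : y ∈ Hx P x ↔ y ∈ normalizer (P : Set G) ∧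
    x⁻¹ * y * x ∈ normalizer (P : Set G) := Iff.rfl

open Classical in
/-- number of conjugating elements into `N`. -/
theorem Phi_zero_card (ρ : normalizer (P : Set G) →* ℂˣ) (y : G) :
    (Nat.card (normalizer (P : Set G)) : ℂ) * Phi ρ 0 y =
      ((Finset.univ.filter (fun x : G => x⁻¹ * y * x ∈ normalizer (P : Set G))).card : ℂ) := by
  have h0 : (Nat.card (normalizer (P : Set G)) : ℂ) ≠ 0 := by exact_mod_cast Nat.card_pos.ne'
  unfold Phi indFun
  rw [← mul_assoc, mul_inv_cancel₀ h0, one_mul, Finset.card_filter, Nat.cast_sum]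
  refine Finset.sum_congr rfl fun x _ => ?_
  by_cases hx : x⁻¹ * y * x ∈ normalizer (P : Set G)
  · rw [if_pos hx, Char.extendByZero_of_mem _ _ hx, lam_apply, pow_zero, Nat.cast_one]
  · rw [if_neg hx, Char.extendByZero_of_notMem _ _ hx, Nat.cast_zero]

variable (st : St p P n)
include st

/-- a subgroup of `N` meeting `P` trivially has order at most `e`. -/
theorem St.card_le {K : Subgroup G} (hK : K ≤ normalizer (P : Set G))
    (hKP : ∀ x ∈ K, x ∈ P → x = 1) : Nat.card K ≤ ind P := by
  rw [← st.card_range]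
  have hfin : Finite st.ρ.range := Nat.finite_of_card_ne_zero (by
    rw [st.card_range]; exact (ind_pos P).ne')
  refine Nat.card_le_card_of_injective
    (fun k : K => (⟨st.ρ ⟨k, hK k.2⟩, ⟨_, rfl⟩⟩ : st.ρ.range)) ?_
  intro a b hab
  have h1 : st.ρ ⟨a, hK a.2⟩ = st.ρ ⟨b, hK b.2⟩ := congrArg Subtype.val hab
  have h2 : st.ρ (⟨a, hK a.2⟩ * ⟨b, hK b.2⟩⁻¹) = 1 := by
    rw [map_mul, map_inv, h1, mul_inv_cancel]
  have h3 := (st.hρ _).mp h2
  have h4 : (a : G) * (b : G)⁻¹ ∈ P := h3
  have h5 := hKP _ (K.mul_mem a.2 (K.inv_mem b.2)) h4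
  exact Subtype.ext (mul_inv_eq_one.mp h5)

/-- `ρ` is injective on subgroups meeting `P` trivially. -/
theorem St.rho_inj {K : Subgroup G} (hK : K ≤ normalizer (P : Set G))
    (hKP : ∀ x ∈ K, x ∈ P → x = 1) {a b : G} (ha : a ∈ K) (hb : b ∈ K)
    (h : st.ρ ⟨a, hK ha⟩ = st.ρ ⟨b, hK hb⟩) : a = b := by
  have h2 : st.ρ (⟨a, hK ha⟩ * ⟨b, hK hb⟩⁻¹) = 1 := by
    rw [map_mul, map_inv, h, mul_inv_cancel]
  have h3 := (st.hρ _).mp h2
  have h4 : a * b⁻¹ ∈ P := h3
  have h5 := hKP _ (K.mul_mem ha (K.inv_mem hb)) h4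
  exact mul_inv_eq_one.mp h5

theorem St.comm_of {K : Subgroup G} (hK : K ≤ normalizer (P : Set G))
    (hKP : ∀ x ∈ K, x ∈ P → x = 1) : ∀ a ∈ K, ∀ b ∈ K, a * b = b * a := by
  intro a ha b hb
  refine st.rho_inj hK hKP (K.mul_mem ha hb) (K.mul_mem hb ha) ?_
  have e1 : (⟨a * b, hK (K.mul_mem ha hb)⟩ : normalizer (P : Set G)) =
    ⟨a, hK ha⟩ * ⟨b, hK hb⟩ := rfl
  have e2 : (⟨b * a, hK (K.mul_mem hb ha)⟩ : normalizer (P : Set G)) =
    ⟨b, hK hb⟩ * ⟨a, hK ha⟩ := rfl
  rw [e1, e2, map_mul, map_mul, mul_comm]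

theorem St.Hx_inf {x : G} (hx : x ∉ normalizer (P : Set G)) :
    ∀ y ∈ Hx P x, y ∈ P → y = 1 := by
  intro y hy hyP
  by_contra hy1
  exact hx (st.hP.mem_normalizer_of_conj hyP hy1 hy.2)

theorem St.card_Hx_le {x : G} (hx : x ∉ normalizer (P : Set G)) : Nat.card (Hx P x) ≤ ind P :=
  st.card_le (fun _ hy => hy.1) (st.Hx_inf hx)

open Classical in
theorem St.cnt (y : G) (hy : y ∈ normalizer (P : Set G)) (hyP : y ∉ P) :
    (Finset.univ.filter (fun x : G => x⁻¹ * y * x ∈ normalizer (P : Set G))).card =
      Nat.card (normalizer (P : Set G)) * (n + 1) := by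
  have h1 := Phi_zero_card st.ρ y
  rw [st.Phi_zero_apply hy hyP] at h1
  exact_mod_cast h1.symm

open Classical in
theorem St.cnt_P (y : G) (hyP : y ∈ P) (hy1 : y ≠ 1) :
    (Finset.univ.filter (fun x : G => x⁻¹ * y * x ∈ normalizer (P : Set G))).card =
      Nat.card (normalizer (P : Set G)) := by
  have h1 := Phi_zero_card st.ρ y
  rw [Phi_P st.hP st.hρ 0 hyP hy1, mul_one] at h1
  exact_mod_cast h1.symm

theorem St.card_N' : Nat.card (normalizer (P : Set G)) = p * ind P := card_N st.hP st.hC

theorem St.card_G' : Nat.card G = p * ind P * (1 + n * p) := by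
  rw [card_G st.hP st.hC, st.hD]

open Classical in
theorem St.sum_Hx : ∑ x : G, Nat.card (Hx P x) =
    Nat.card (normalizer (P : Set G)) * (Nat.card (normalizer (P : Set G)) * (n + 1)) := by
  have e1 : ∀ x : G, Nat.card (Hx P x) = ∑ y : G,
      if y ∈ normalizer (P : Set G) ∧ x⁻¹ * y * x ∈ normalizer (P : Set G) then 1 else 0 := by
    intro x
    rw [Nat.card_eq_fintype_card, ← Finset.card_filter, Fintype.card_subtype]
    congr 1
    ext y
    simp only [Finset.mem_filter, Finset.mem_univ, true_and]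
    exact mem_Hx
  rw [Finset.sum_congr rfl (fun x _ => e1 x), Finset.sum_comm]
  have e2 : ∀ y : G, (∑ x : G, if y ∈ normalizer (P : Set G) ∧
      x⁻¹ * y * x ∈ normalizer (P : Set G) then 1 else 0) =
      (if y = 1 then Nat.card G - (Nat.card (normalizer (P : Set G))) else 0) +
      (if y ∈ normalizer (P : Set G) then Nat.card (normalizer (P : Set G)) * (n + 1) else 0) -
      (if y ∈ P then Nat.card (normalizer (P : Set G)) * n else 0) := by
    intro y
    by_cases hy : y ∈ normalizer (P : Set G)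
    · have e3 : (∑ x : G, if y ∈ normalizer (P : Set G) ∧
          x⁻¹ * y * x ∈ normalizer (P : Set G) then 1 else 0) =
          (Finset.univ.filter (fun x : G => x⁻¹ * y * x ∈ normalizer (P : Set G))).card := by
        rw [Finset.card_filter]
        exact Finset.sum_congr rfl fun x _ => by simp [hy]
      rw [e3, if_pos hy]
      by_cases hy1 : y = 1
      · subst hy1
        rw [if_pos rfl, if_pos P.one_mem]
        have e4 : (Finset.univ.filter (fun x : G => x⁻¹ * 1 * x ∈ normalizer (P : Set G))) =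
            Finset.univ := by
          rw [Finset.filter_true_of_mem]
          intro x _
          rw [mul_one, inv_mul_cancel]
          exact Subgroup.one_mem _
        rw [e4, Finset.card_univ, ← Nat.card_eq_fintype_card]
        have h1 : Nat.card (normalizer (P : Set G)) ≤ Nat.card G := Subgroup.card_le_card_group _
        have h2 : Nat.card (normalizer (P : Set G)) * (n + 1) =
          Nat.card (normalizer (P : Set G)) * n + Nat.card (normalizer (P : Set G)) := by ring
        omega
      · rw [if_neg hy1, zero_add]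
        by_cases hyP : y ∈ P
        · rw [if_pos hyP, st.cnt_P y hyP hy1]
          have h2 : Nat.card (normalizer (P : Set G)) * (n + 1) =
            Nat.card (normalizer (P : Set G)) * n + Nat.card (normalizer (P : Set G)) := by ring
          omega
        · rw [if_neg hyP, st.cnt y hy hyP]
          rfl
    · have hy1 : y ≠ 1 := by
        rintro rfl
        exact hy (Subgroup.one_mem _)
      have hyP : y ∉ P := fun h => hy (Subgroup.le_normalizer h)
      rw [if_neg hy, if_neg hy1, if_neg hyP]
      simp [hy]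
  -- pass to integers
  have hz : ((∑ y : G, ∑ x : G, if y ∈ normalizer (P : Set G) ∧
      x⁻¹ * y * x ∈ normalizer (P : Set G) then 1 else 0 : ℕ) : ℤ) =
      ∑ y : G, (((if y = 1 then ((Nat.card G : ℤ) - (Nat.card (normalizer (P : Set G)) : ℤ)) else 0) +
      (if y ∈ normalizer (P : Set G) then (Nat.card (normalizer (P : Set G)) : ℤ) * (n + 1) else 0) -
      (if y ∈ P then (Nat.card (normalizer (P : Set G)) : ℤ) * n else 0))) := by
    rw [Nat.cast_sum]
    refine Finset.sum_congr rfl fun y _ => ?_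
    rw [e2 y]
    have h1 : Nat.card (normalizer (P : Set G)) ≤ Nat.card G := Subgroup.card_le_card_group _
    by_cases hyP : y ∈ P
    · have hy : y ∈ normalizer (P : Set G) := Subgroup.le_normalizer hyP
      rw [if_pos hyP, if_pos hyP, if_pos hy, if_pos hy]
      have h2 : Nat.card (normalizer (P : Set G)) * n ≤
        (if y = 1 then Nat.card G - Nat.card (normalizer (P : Set G)) else 0) +
          Nat.card (normalizer (P : Set G)) * (n + 1) :=
        le_trans (Nat.mul_le_mul_left _ (Nat.le_succ n)) (Nat.le_add_left _ _)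
      rw [Nat.cast_sub h2]
      by_cases hy1 : y = 1
      · rw [if_pos hy1, if_pos hy1]
        push_cast [h1]
        ring
      · rw [if_neg hy1, if_neg hy1]
        push_cast
        ring
    · have hy1 : y ≠ 1 := by
        rintro rfl
        exact hyP P.one_mem
      rw [if_neg hyP, if_neg hyP, if_neg hy1, if_neg hy1]
      by_cases hy : y ∈ normalizer (P : Set G)
      · rw [if_pos hy, if_pos hy, Nat.sub_zero]; push_cast; ring
      · rw [if_neg hy, if_neg hy]; simp
  have hcN : ((Finset.univ.filter (fun y : G => y ∈ normalizer (P : Set G))).card : ℤ) =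
      Nat.card (normalizer (P : Set G)) := by
    rw [Nat.card_eq_fintype_card, Fintype.card_subtype]
  have hcP : ((Finset.univ.filter (fun y : G => y ∈ P)).card : ℤ) = p := by
    rw [← st.hP.card, Nat.card_eq_fintype_card, Fintype.card_subtype]
  rw [Finset.sum_sub_distrib, Finset.sum_add_distrib, Finset.sum_ite_eq' Finset.univ (1 : G),
    if_pos (Finset.mem_univ _), ← Finset.sum_filter, ← Finset.sum_filter, Finset.sum_const,
    Finset.sum_const, nsmul_eq_mul, nsmul_eq_mul, hcN, hcP, st.card_G', st.card_N'] at hz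
  rw [st.card_N']
  apply Nat.cast_injective (R := ℤ)
  rw [hz]
  push_cast
  ring

/-- **All two-point stabilizers have order `e`.** -/
theorem St.card_Hx {x : G} (hx : x ∉ normalizer (P : Set G)) : Nat.card (Hx P x) = ind P := by
  classical
  have h1 := st.sum_Hx
  have h2 : ∀ x : G, x ∈ normalizer (P : Set G) →
      Nat.card (Hx P x) = Nat.card (normalizer (P : Set G)) := by
    intro x hx
    congr 2
    ext y
    rw [mem_Hx]
    constructor
    · intro h; exact h.1
    · intro h
      exact ⟨h, Subgroup.mul_mem _ (Subgroup.mul_mem _ (Subgroup.inv_mem _ hx) h) hx⟩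
  have hcN : (Finset.univ.filter (fun y : G => y ∈ normalizer (P : Set G))).card =
      Nat.card (normalizer (P : Set G)) := by
    rw [Nat.card_eq_fintype_card, Fintype.card_subtype]
  have hcN' : (Finset.univ.filter (fun y : G => y ∉ normalizer (P : Set G))).card =
      Nat.card (normalizer (P : Set G)) * (n * p) := by
    have h3 := Finset.card_filter_add_card_filter_not (s := (Finset.univ : Finset G))
      (p := fun y : G => y ∈ normalizer (P : Set G))
    rw [hcN, Finset.card_univ, ← Nat.card_eq_fintype_card, st.card_G', ← st.card_N'] at h3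
    have h4 : Nat.card (normalizer (P : Set G)) * (1 + n * p) =
      Nat.card (normalizer (P : Set G)) + Nat.card (normalizer (P : Set G)) * (n * p) := by ring
    omega
  rw [← Finset.sum_filter_add_sum_filter_not Finset.univ
    (fun y : G => y ∈ normalizer (P : Set G))] at h1
  rw [Finset.sum_congr rfl (fun x hx => h2 x (Finset.mem_filter.mp hx).2), Finset.sum_const,
    smul_eq_mul, hcN] at h1
  have h5 : ∑ x ∈ Finset.univ.filter (fun y : G => y ∉ normalizer (P : Set G)),
      Nat.card (Hx P x) = ∑ x ∈ Finset.univ.filter (fun y : G => y ∉ normalizer (P : Set G)),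
      ind P := by
    rw [Finset.sum_const, smul_eq_mul, hcN']
    have h6 : Nat.card (normalizer (P : Set G)) * (n * p) * ind P =
      Nat.card (normalizer (P : Set G)) * (p * ind P) * n := by ring
    rw [h6, ← st.card_N']
    have h7 : Nat.card (normalizer (P : Set G)) * (Nat.card (normalizer (P : Set G)) * (n + 1)) =
      Nat.card (normalizer (P : Set G)) * Nat.card (normalizer (P : Set G)) +
        Nat.card (normalizer (P : Set G)) * Nat.card (normalizer (P : Set G)) * n := by ring
    omega
  have h8 := (Finset.sum_eq_sum_iff_of_le (fun x hx => st.card_Hx_le (Finset.mem_filter.mp hx).2)).mp h5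
  exact h8 x (Finset.mem_filter.mpr ⟨Finset.mem_univ _, hx⟩)

end

end Cfsg.Agent.BR
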