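import Cfsg.Agent.BR.GT

/-!
The two-point stabilizer `E`: it is a cyclic trivial intersection subgroup, with normalizer of
order `e (n+1)`.
-/

set_option autoImplicit false

open scoped ComplexConjugate

namespace Cfsg.Agent.BR

open Cfsg Subgroup Pointwise
open Cfsg.Agent.CharBase (oneIrr)

universe u

/-- properties of a two-point stabilizer. -/
structure IsE {G : Type u} [Group G] (P : Subgroup G) (n : ℕ) (E : Subgroup G) : Prop where
  le : E ≤ normalizer (P : Set G)
  card : Nat.card E = ind P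
  inf : ∀ x ∈ E, x ∈ P → x = 1
  comm : ∀ x ∈ E, ∀ y ∈ E, x * y = y * x
  cyc : IsCyclic E
  ti : ∀ y ∈ E, y ≠ 1 → ∀ g : G, g⁻¹ * y * g ∈ E ↔ g ∈ normalizer (E : Set G)
  cardM : Nat.card (normalizer (E : Set G)) = ind P * (n + 1)
  infM : ∀ g ∈ normalizer (E : Set G), g ∈ normalizer (P : Set G) → g ∈ E
  cj : ∀ y ∈ normalizer (P : Set G), y ∉ P → ∃ x ∈ P, x⁻¹ * y * x ∈ E
  dbl : ∀ c ∈ normalizer (E : Set G), c ∉ E → Hx P c = E

section

variable {G : Type u} [Group G] [Fintype G] {p : ℕ} [hp : Fact p.Prime] {P : Subgroup G} {n : ℕ}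
  (st : St p P n)

include st

/-- the centralizer in `N` of an element outside `P`. -/
theorem St.eq_of_comm {K L : Subgroup G} (hK : K ≤ normalizer (P : Set G))
    (hKc : Nat.card K = ind P)
    (hKP : ∀ x ∈ K, x ∈ P → x = 1) {y : G} (hy : y ∈ K) (hy1 : y ≠ 1)
    (hL : L ≤ normalizer (P : Set G)) (hLy : ∀ z ∈ L, z * y = y * z) : L ≤ K := by
  -- `C_N(y)`
  set C := centralizer ({y} : Set G) ⊓ normalizer (P : Set G) with hC
  have hyP : y ∉ P := fun h => hy1 (hKP y hy h)
  have hCP : ∀ x ∈ C, x ∈ P → x = 1 := by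
    intro x hx hxP
    by_contra hx1
    refine hyP (mem_P_of_comm st.hP st.hC hxP hx1 ?_)
    exact (Subgroup.mem_centralizer_iff.mp hx.1 y (Set.mem_singleton y)).symm
  have hKC : K ≤ C := by
    intro x hx
    refine Subgroup.mem_inf.mpr ⟨?_, hK hx⟩
    rw [Subgroup.mem_centralizer_iff]
    intro z hz
    rw [Set.mem_singleton_iff.mp hz]
    exact (st.comm_of hK hKP x hx y hy).symm
  have h1 : K = C := Subgroup.eq_of_le_of_card_ge hKC (by
    rw [hKc]
    exact st.card_le (fun x hx => hx.2) hCP)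
  rw [h1]
  intro z hz
  refine Subgroup.mem_inf.mpr ⟨?_, hL hz⟩
  rw [Subgroup.mem_centralizer_iff]
  intro w hw
  rw [Set.mem_singleton_iff.mp hw]
  exact (hLy z hz).symm

/-- surjectivity of `ρ` on a complement. -/
theorem St.exists_rho_eq {K : Subgroup G} (hK : K ≤ normalizer (P : Set G))
    (hKc : Nat.card K = ind P) (hKP : ∀ x ∈ K, x ∈ P → x = 1) {y : G}
    (hy : y ∈ normalizer (P : Set G)) : ∃ z ∈ K, z * y⁻¹ ∈ P := by
  have hfin : Finite st.ρ.range := Nat.finite_of_card_ne_zero (by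
    rw [st.card_range]; exact (ind_pos P).ne')
  let f : K → st.ρ.range := fun k => ⟨st.ρ ⟨k, hK k.2⟩, ⟨_, rfl⟩⟩
  have hf : Function.Injective f := by
    intro a b hab
    exact Subtype.ext (st.rho_inj hK hKP a.2 b.2 (congrArg Subtype.val hab))
  have hbij : Function.Bijective f := by
    have := Fintype.ofFinite K
    have := Fintype.ofFinite st.ρ.range
    rw [Fintype.bijective_iff_injective_and_card]
    refine ⟨hf, ?_⟩
    rw [← Nat.card_eq_fintype_card, ← Nat.card_eq_fintype_card, st.card_range, hKc]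
  obtain ⟨k, hk⟩ := hbij.2 ⟨st.ρ ⟨y, hy⟩, ⟨_, rfl⟩⟩
  refine ⟨k, k.2, ?_⟩
  have h1 : st.ρ ⟨k, hK k.2⟩ = st.ρ ⟨y, hy⟩ := congrArg Subtype.val hk
  have h2 : st.ρ (⟨k, hK k.2⟩ * ⟨y, hy⟩⁻¹) = 1 := by
    rw [map_mul, map_inv, h1, mul_inv_cancel]
  exact (st.hρ _).mp h2

theorem St.cyc_of {K : Subgroup G} (hK : K ≤ normalizer (P : Set G))
    (hKP : ∀ x ∈ K, x ∈ P → x = 1) : IsCyclic K := by
  let f : K →* ℂˣ := st.ρ.comp (Subgroup.inclusion hK)
  refine isCyclic_of_injective_ringHom ((Units.coeHom ℂ).comp f) ?_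
  intro a b hab
  exact Subtype.ext (st.rho_inj hK hKP a.2 b.2 (Units.ext hab))

theorem St.exists_E : ∃ E : Subgroup G, IsE P n E := by
  classical
  -- a point outside `N`
  have hne : ∃ x₀ : G, x₀ ∉ normalizer (P : Set G) := by
    by_contra hcon
    push Not at hcon
    have h1 : normalizer (P : Set G) = ⊤ := by
      rw [Subgroup.eq_top_iff']; exact hcon
    have h2 := st.hD
    rw [h1, Subgroup.index_top] at h2
    have := st.hn
    have := st.hp3
    have : 0 < n * p := by positivity
    omega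
  obtain ⟨x₀, hx₀⟩ := hne
  set E := Hx P x₀ with hE
  have hle : E ≤ normalizer (P : Set G) := fun y hy => hy.1
  have hcard : Nat.card E = ind P := st.card_Hx hx₀
  have hinf : ∀ x ∈ E, x ∈ P → x = 1 := st.Hx_inf hx₀
  have hcomm := st.comm_of hle hinf
  have hcyc := st.cyc_of hle hinf
  -- other two-point stabilizers containing an element of `E`
  have hHE : ∀ x : G, x ∉ normalizer (P : Set G) → ∀ y ∈ E, y ≠ 1 → y ∈ Hx P x → Hx P x = E := by
    intro x hx y hy hy1 hyx
    have h1 : Hx P x ≤ E := st.eq_of_comm hle hcard hinf hy hy1 (fun z hz => (mem_Hx.mp hz).1)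
      (fun z hz => st.comm_of (fun w hw => (mem_Hx.mp hw).1) (st.Hx_inf hx) z hz y hyx)
    exact Subgroup.eq_of_le_of_card_ge h1 (by rw [hcard, st.card_Hx hx])
  have he := st.he
  have hE1 : ∃ y ∈ E, y ≠ 1 := by
    have h1 : E ≠ ⊥ := by
      intro h
      rw [h, Subgroup.card_bot] at hcard
      omega
    obtain ⟨y, hy⟩ := E.bot_or_exists_ne_one.resolve_left h1
    exact ⟨y, hy⟩
  -- conjugates of `E` inside `N`
  have hinN : ∀ g : G, ∀ y ∈ E, y ≠ 1 → g⁻¹ * y * g ∈ E → ∀ z ∈ E, g⁻¹ * z * g ∈ E := by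
    intro g y hy hy1 hgy z hz
    have hgy1 : g⁻¹ * y * g ≠ 1 := by
      intro h
      apply hy1
      have : y = g * (g⁻¹ * y * g) * g⁻¹ := by group
      rw [this, h]; group
    -- first: `E^g ≤ N`
    have hN : ∀ w ∈ E, g⁻¹ * w * g ∈ normalizer (P : Set G) := by
      by_cases hg : g ∈ normalizer (P : Set G)
      · intro w hw
        exact Subgroup.mul_mem _ (Subgroup.mul_mem _ (Subgroup.inv_mem _ hg) (hle hw)) hg
      · have h1 := hHE g hg y hy hy1 ⟨hle hy, hle hgy⟩
        intro w hw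
        rw [← h1] at hw
        exact hw.2
    set K := E.map (MulAut.conj g⁻¹).toMonoidHom with hK
    have hKN : K ≤ normalizer (P : Set G) := by
      rintro _ ⟨w, hw, rfl⟩
      have : (MulAut.conj g⁻¹).toMonoidHom w = g⁻¹ * w * g := by simp
      rw [this]
      exact hN w hw
    have hKE : K ≤ E := by
      refine st.eq_of_comm hle hcard hinf hgy hgy1 hKN ?_
      rintro _ ⟨w, hw, rfl⟩
      have : (MulAut.conj g⁻¹).toMonoidHom w = g⁻¹ * w * g := by simp
      rw [this]
      have h2 := hcomm w hw y hy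
      calc g⁻¹ * w * g * (g⁻¹ * y * g) = g⁻¹ * (w * y) * g := by group
        _ = g⁻¹ * (y * w) * g := by rw [h2]
        _ = g⁻¹ * y * g * (g⁻¹ * w * g) := by group
    have h3 : (MulAut.conj g⁻¹).toMonoidHom z ∈ K := ⟨z, hz, rfl⟩
    have : (MulAut.conj g⁻¹).toMonoidHom z = g⁻¹ * z * g := by simp
    rw [this] at h3
    exact hKE h3
  have hnorm : ∀ g : G, (∀ z ∈ E, g⁻¹ * z * g ∈ E) → g ∈ normalizer (E : Set G) := by
    intro g hg
    rw [← inv_mem_iff, Subgroup.mem_normalizer_iff_map_conj_eq]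
    refine Subgroup.eq_of_le_of_card_ge ?_ ?_
    · rintro _ ⟨w, hw, rfl⟩
      have : (MulAut.conj g⁻¹).toMonoidHom w = g⁻¹ * w * g := by simp
      change (MulAut.conj g⁻¹).toMonoidHom w ∈ E
      rw [this]
      exact hg w hw
    · rw [Subgroup.card_map_of_injective (MulAut.conj g⁻¹).injective]
  have hti : ∀ y ∈ E, y ≠ 1 → ∀ g : G, g⁻¹ * y * g ∈ E ↔ g ∈ normalizer (E : Set G) := by
    intro y hy hy1 g
    constructor
    · intro h
      exact hnorm g (hinN g y hy hy1 h)
    · intro h
      exact (Subgroup.mem_normalizer_iff''.mp h y).mp hy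
  have hconj : ∀ y ∈ normalizer (P : Set G), y ∉ P → ∃ x ∈ P, x⁻¹ * y * x ∈ E := by
    intro y hy hyP
    obtain ⟨z, hz, hzy⟩ := st.exists_rho_eq hle hcard hinf hy
    obtain ⟨x, hx, hzx⟩ := coset_conj st.hP st.hC hy hyP hzy
    refine ⟨x⁻¹, P.inv_mem hx, ?_⟩
    rw [inv_inv, ← hzx]
    exact hz
  have hinfM : ∀ g ∈ normalizer (E : Set G), g ∈ normalizer (P : Set G) → g ∈ E := by
    intro g hg hgN
    obtain ⟨y, hy, hy1⟩ := hE1
    have h1 : g⁻¹ * y * g ∈ E := (Subgroup.mem_normalizer_iff''.mp hg y).mp hy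
    have h2 : g⁻¹ * y * g = y := by
      refine st.rho_inj hle hinf h1 hy ?_
      have e1 : (⟨g⁻¹ * y * g, hle h1⟩ : normalizer (P : Set G)) =
        ⟨g, hgN⟩⁻¹ * ⟨y, hle hy⟩ * ⟨g, hgN⟩ := rfl
      rw [e1, map_mul, map_mul, map_inv, mul_comm, ← mul_assoc, mul_inv_cancel, one_mul]
    have h3 : y * g = g * y := by
      calc y * g = g * (g⁻¹ * y * g) := by group
        _ = g * y := by rw [h2]
    have h4 : zpowers g ≤ E := by
      refine st.eq_of_comm hle hcard hinf hy hy1 ?_ ?_
      · rw [zpowers_le]; exact hgN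
      · intro z hz
        obtain ⟨k, rfl⟩ := hz
        have : Commute y g := h3
        exact (this.zpow_right k).symm
    exact h4 (mem_zpowers g)
  -- the order of the normalizer
  have hcardM : Nat.card (normalizer (E : Set G)) = ind P * (n + 1) := by
    obtain ⟨y, hy, hy1⟩ := hE1
    have hyP : y ∉ P := fun h => hy1 (hinf y hy h)
    have hL : {x : G | x⁻¹ * y * x ∈ normalizer (P : Set G)} =
        ((normalizer (E : Set G) : Set G)) * ((normalizer (P : Set G) : Set G)) := by
      ext x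
      constructor
      · intro hx
        rw [Set.mem_setOf_eq] at hx
        rw [Set.mem_mul]
        by_cases hxN : x ∈ normalizer (P : Set G)
        · exact ⟨1, Subgroup.one_mem _, x, hxN, one_mul x⟩
        · have h1 := hHE x hxN y hy hy1 ⟨hle hy, hx⟩
          set K := E.map (MulAut.conj x⁻¹).toMonoidHom with hK
          have hval : ∀ w, (MulAut.conj x⁻¹).toMonoidHom w = x⁻¹ * w * x := by
            intro w; simp
          have hKN : K ≤ normalizer (P : Set G) := by
            rintro _ ⟨w, hw, rfl⟩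
            rw [hval, ]
            have hw' : w ∈ Hx P x := by rw [h1]; exact hw
            exact hw'.2
          have hKc : Nat.card K = ind P := by
            rw [hK, Subgroup.card_map_of_injective (MulAut.conj x⁻¹).injective, hcard]
          have hKP : ∀ k ∈ K, k ∈ P → k = 1 := by
            rintro _ ⟨w, hw, rfl⟩ hk
            rw [hval] at hk ⊢
            by_contra hk1
            have h5 := st.hP.orderOf_eq hk hk1
            have h6 : orderOf w = p := by
              have : x⁻¹ * w * x = MulAut.conj x⁻¹ w := by simp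
              rw [this, MulEquiv.orderOf_eq] at h5
              exact h5
            have h7 := st.hP.mem_of_normalizer (hle hw) h6
            rw [hinf w hw h7] at hk1
            apply hk1; group
          -- `y` is conjugate into `K`
          obtain ⟨z, hz, hzy⟩ := st.exists_rho_eq hKN hKc hKP (hle hy)
          obtain ⟨g, hg, hzg⟩ := coset_conj st.hP st.hC (hle hy) hyP hzy
          -- z = g y g⁻¹ ∈ K = x⁻¹ E x
          obtain ⟨w, hw, hwz⟩ := hz
          rw [hval] at hwz
          have h8 : (x * g) ∈ normalizer (E : Set G) := by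
            rw [← inv_mem_iff, ← hti y hy hy1, inv_inv]
            have : x * g * y * (x * g)⁻¹ = w := by
              have h9 : x * (g * y * g⁻¹) * x⁻¹ = w := by
                rw [← hzg, ← hwz]; group
              rw [← h9]; group
            rw [this]
            exact hw
          exact ⟨x * g, h8, g⁻¹, Subgroup.le_normalizer (P.inv_mem hg), by group⟩
      · rintro ⟨m, hm, v, hv, rfl⟩
        change (m * v)⁻¹ * y * (m * v) ∈ normalizer (P : Set G)
        have h1 : m⁻¹ * y * m ∈ E := (Subgroup.mem_normalizer_iff''.mp hm y).mp hy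
        have : (m * v)⁻¹ * y * (m * v) = v⁻¹ * (m⁻¹ * y * m) * v := by group
        rw [this]
        exact Subgroup.mul_mem _ (Subgroup.mul_mem _ (Subgroup.inv_mem _ hv) (hle h1)) hv
    have h1 := H30.card_mul_card_inf (normalizer (E : Set G)) (normalizer (P : Set G)) _ hL
    have h2 : Nat.card ↥({x : G | x⁻¹ * y * x ∈ normalizer (P : Set G)}) =
        Nat.card (normalizer (P : Set G)) * (n + 1) := by
      rw [← st.cnt y (hle hy) hyP, Nat.card_eq_fintype_card, Fintype.card_subtype]
      congr 1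
    have h3 : normalizer (E : Set G) ⊓ normalizer (P : Set G) = E := by
      apply le_antisymm
      · rintro x ⟨hx, hx'⟩
        exact hinfM x hx hx'
      · exact le_inf Subgroup.le_normalizer hle
    rw [h2, h3, hcard] at h1
    have h4 : 0 < Nat.card (normalizer (P : Set G)) := Nat.card_pos
    apply Nat.eq_of_mul_eq_mul_right h4
    rw [← h1]; ring
  refine ⟨E, hle, hcard, hinf, hcomm, hcyc, hti, hcardM, hinfM, hconj, ?_⟩
  intro c hc hcE
  obtain ⟨y, hy, hy1⟩ := hE1
  refine hHE c (fun h => hcE (hinfM c hc h)) y hy hy1 ⟨hle hy, ?_⟩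
  exact hle ((Subgroup.mem_normalizer_iff''.mp hc y).mp hy)

end

end Cfsg.Agent.BR
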