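import Cfsg.Agent.BR.OddFinal
import Cfsg.Agent.S0731
import Cfsg.Agent.S0727
import Cfsg.Agent.S0265
import Cfsg.Agent.H14.SubField

/-!
Identification of the groups in the Brauer-Reynolds theorem.
-/

set_option autoImplicit false

namespace Cfsg.Agent.BR

open Cfsg Subgroup

universe u v

section Perm

variable {G : Type u} [Group G] [Finite G] {Ω : Type v} [MulAction G Ω] [Finite Ω]

/-- an element fixing three points is trivial. -/
theorem three_fixed [MulAction.IsPretransitive G Ω] (A : Subgroup G) (x : Ω)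
    (hAx : ∀ u ∈ A, u • x = x)
    (hn : ∀ g : G, g • x = x → ∀ u ∈ A, g⁻¹ * u * g ∈ A)
    (hreg : ∀ y z : Ω, y ≠ x → z ≠ x → ∃ u ∈ A, u • y = z)
    (hfree : ∀ u ∈ A, ∀ y : Ω, y ≠ x → u • y = y → u = 1)
    (hcent : ∀ u ∈ A, u ≠ 1 → ∀ g : G, g * u = u * g → g ∈ A) :
    ∀ g : G, ∀ a b c : Ω, a ≠ b → b ≠ c → a ≠ c → g • a = a → g • b = b → g • c = c → g = 1 := by
  -- the case `a = x`
  have key : ∀ g : G, ∀ b c : Ω, x ≠ b → b ≠ c → x ≠ c → g • x = x → g • b = b → g • c = c →
      g = 1 := by
    intro g b c hxb hbc hxc hgx hgb hgc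
    obtain ⟨u, hu, hub⟩ := hreg b c hxb.symm hxc.symm
    have hu1 : u ≠ 1 := by
      rintro rfl
      rw [one_smul] at hub
      exact hbc hub
    -- `g⁻¹ u⁻¹ g u` fixes `b`
    have h1 : (g⁻¹ * u⁻¹ * g) * u ∈ A := A.mul_mem (hn g hgx _ (A.inv_mem hu)) hu
    have h2 : ((g⁻¹ * u⁻¹ * g) * u) • b = b := by
      rw [mul_smul, hub, mul_smul, mul_smul, hgc]
      have h3 : u⁻¹ • c = b := by rw [← hub, inv_smul_smul]
      rw [h3]
      exact inv_smul_eq_iff.mpr hgb.symm
    have h3 := hfree _ h1 b hxb.symm h2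
    have h4 : g * u = u * g := by
      have h5 : u * g * (g⁻¹ * u⁻¹ * g * u) = u * g := by rw [h3, mul_one]
      have h6 : u * g * (g⁻¹ * u⁻¹ * g * u) = g * u := by group
      rw [← h6, h5]
    have h5 := hcent u hu hu1 g h4
    exact hfree g h5 b hxb.symm hgb
  intro g a b c hab hbc hac hga hgb hgc
  obtain ⟨h, hh⟩ := MulAction.exists_smul_eq G a x
  have h1 : h * g * h⁻¹ = 1 := by
    have hfix : ∀ y : Ω, g • y = y → (h * g * h⁻¹) • (h • y) = h • y := by
      intro y hy
      rw [mul_smul, inv_smul_smul, mul_smul, hy]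
    refine key _ (h • b) (h • c) ?_ ?_ ?_ ?_ (hfix b hgb) (hfix c hgc)
    · rw [← hh]; exact fun h' => hab (smul_left_cancel h h')
    · exact fun h' => hbc (smul_left_cancel h h')
    · rw [← hh]; exact fun h' => hac (smul_left_cancel h h')
    · have := hfix a hga
      rwa [hh] at this
  have : g = h⁻¹ * (h * g * h⁻¹) * h := by group
  rw [this, h1]; group

/-- 2-transitivity. -/
theorem two_trans [MulAction.IsPretransitive G Ω] (A : Subgroup G) (x : Ω)
    (hAx : ∀ u ∈ A, u • x = x)
    (hreg : ∀ y z : Ω, y ≠ x → z ≠ x → ∃ u ∈ A, u • y = z) :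
    MulAction.IsMultiplyPretransitive G Ω 2 := by
  rw [MulAction.is_two_pretransitive_iff]
  intro a b c d hab hcd
  obtain ⟨g, hg⟩ := MulAction.exists_smul_eq G a x
  obtain ⟨h, hh⟩ := MulAction.exists_smul_eq G c x
  have h1 : g • b ≠ x := by
    rw [← hg]; exact fun h' => hab (smul_left_cancel g h').symm
  have h2 : h • d ≠ x := by
    rw [← hh]; exact fun h' => hcd (smul_left_cancel h h').symm
  obtain ⟨u, hu, hub⟩ := hreg _ _ h1 h2
  refine ⟨h⁻¹ * (u * g), ?_, ?_⟩
  · rw [mul_smul, mul_smul, hg, hAx u hu, ← hh, inv_smul_smul]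
  · rw [mul_smul, mul_smul, hub, inv_smul_smul]

/-- 3-transitivity by counting. -/
theorem sharp_three (h3 : ∀ g : G, ∀ a b c : Ω, a ≠ b → b ≠ c → a ≠ c → g • a = a → g • b = b →
    g • c = c → g = 1) (hcard : Nat.card G = Nat.card Ω * (Nat.card Ω - 1) * (Nat.card Ω - 2)) :
    (∀ t : Fin 3 ↪ Ω, MulAction.stabilizer G t = ⊥) ∧ MulAction.IsMultiplyPretransitive G Ω 3 := by
  classical
  have := Fintype.ofFinite Ω
  have hst : ∀ t : Fin 3 ↪ Ω, MulAction.stabilizer G t = ⊥ := by
    intro t
    rw [eq_bot_iff]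
    intro g hg
    rw [MulAction.mem_stabilizer_iff] at hg
    have h1 : ∀ i, g • t i = t i := by
      intro i
      have := congrArg (fun f : Fin 3 ↪ Ω => f i) hg
      simpa using this
    rw [Subgroup.mem_bot]
    refine h3 g (t 0) (t 1) (t 2) ?_ ?_ ?_ (h1 0) (h1 1) (h1 2)
    · exact fun h => absurd (t.injective h) (by decide)
    · exact fun h => absurd (t.injective h) (by decide)
    · exact fun h => absurd (t.injective h) (by decide)
  refine ⟨hst, ?_⟩
  unfold MulAction.IsMultiplyPretransitive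
  have hcard' : Nat.card (Fin 3 ↪ Ω) = Nat.card G := by
    rw [hcard, Nat.card_eq_fintype_card, Fintype.card_embedding_eq, Fintype.card_fin,
      Nat.card_eq_fintype_card]
    simp only [Nat.descFactorial_succ, Nat.descFactorial_zero, mul_one, Nat.sub_zero]
    ring
  refine ⟨fun s t => ?_⟩
  have horb : Nat.card (MulAction.orbit G s) = Nat.card G := by
    rw [Nat.card_congr (MulAction.orbitEquivQuotientStabilizer G s), hst s]
    exact Nat.card_congr (QuotientGroup.quotientBot (G := G)).toEquiv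
  have htop : MulAction.orbit G s = Set.univ := by
    apply Set.eq_of_subset_of_ncard_le (Set.subset_univ _)
    rw [Set.ncard_univ, ← Nat.card_coe_set_eq, horb, hcard']
  have : t ∈ MulAction.orbit G s := by rw [htop]; exact Set.mem_univ t
  exact this

end Perm

section PGL

variable {F : Type v} [Field F] [Fintype F]

/-- `SL(2, F) ≅ PGL(2, F)` in characteristic two. -/
theorem sl_equiv_pgl {m : ℕ} (hF : Fintype.card F = 2 ^ m) :
    Nonempty (Matrix.SpecialLinearGroup (Fin 2) F ≃* Matrix.ProjGenLinGroup (Fin 2) F) := by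
  classical
  have h20 : (2 : F) = 0 := by
    obtain ⟨q, hqc, n, hq, hqn⟩ := FiniteField.card' F
    have h1 : q ∣ 2 ^ m := by
      rw [← hF, hqn]
      exact dvd_pow_self q n.pos.ne'
    have h2 : q = 2 := (Nat.prime_dvd_prime_iff_eq hq Nat.prime_two).mp (hq.dvd_of_dvd_pow h1)
    subst h2
    exact_mod_cast CharP.cast_eq_zero F 2
  let φ : Matrix.SpecialLinearGroup (Fin 2) F →* Matrix.ProjGenLinGroup (Fin 2) F :=
    (QuotientGroup.mk' (Subgroup.center (Matrix.GeneralLinearGroup (Fin 2) F))).comp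
      Matrix.SpecialLinearGroup.toGL
  have hinj : Function.Injective φ := by
    rw [injective_iff_map_eq_one]
    intro A hA
    have h1 : Matrix.SpecialLinearGroup.toGL A ∈
        Subgroup.center (Matrix.GeneralLinearGroup (Fin 2) F) :=
      (QuotientGroup.eq_one_iff _).mp hA
    rw [Matrix.GeneralLinearGroup.center_eq_range_scalar] at h1
    obtain ⟨a, ha⟩ := h1
    have hval : ∀ i j, (A : Matrix (Fin 2) (Fin 2) F) i j = if i = j then (a : F) else 0 := by
      intro i j
      have h3 := congrArg (fun M : Matrix.GeneralLinearGroup (Fin 2) F =>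
        (M : Matrix (Fin 2) (Fin 2) F) i j) ha
      simp only [Matrix.GeneralLinearGroup.coe_scalar, Matrix.scalar_apply,
        Matrix.diagonal_apply] at h3
      exact h3.symm
    have hdet := A.2
    rw [Matrix.det_fin_two, hval, hval, hval, hval] at hdet
    simp only [if_true, Fin.isValue, zero_ne_one, one_ne_zero, if_false, mul_zero,
      sub_zero] at hdet
    have ha1 : (a : F) = 1 := by
      have h4 : ((a : F) - 1) * ((a : F) - 1) = 0 := by
        linear_combination hdet - ((a : F) - 1) * h20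
      exact sub_eq_zero.mp (mul_self_eq_zero.mp h4)
    apply Matrix.SpecialLinearGroup.ext
    intro i j
    rw [hval, ha1, Matrix.SpecialLinearGroup.coe_one, Matrix.one_apply]
  have hcard := S0265.result (F := F) 2
  have hbij : Function.Bijective φ := by
    have h1 : Finite (Matrix.SpecialLinearGroup (Fin 2) F) := inferInstance
    have h2 : Finite (Matrix.ProjGenLinGroup (Fin 2) F) :=
      Nat.finite_of_card_ne_zero (by rw [hcard]; exact Nat.card_pos.ne')
    have := Fintype.ofFinite (Matrix.SpecialLinearGroup (Fin 2) F)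
    have := Fintype.ofFinite (Matrix.ProjGenLinGroup (Fin 2) F)
    rw [Fintype.bijective_iff_injective_and_card]
    refine ⟨hinj, ?_⟩
    rw [← Nat.card_eq_fintype_card, ← Nat.card_eq_fintype_card, hcard]
  exact ⟨MulEquiv.ofBijective φ hbij⟩

end PGL

end Cfsg.Agent.BR
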