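import Cfsg.Agent.BR.Ident

/-!
Identification with `PSL(2, p)`.
-/

set_option autoImplicit false

namespace Cfsg.Agent.BR

open Cfsg Subgroup

universe u v

section

variable {G : Type u} [Group G] [Fintype G] {p : ℕ} [hp : Fact p.Prime] {P : Subgroup G} {n : ℕ}
  (st : St p P n)

/-- the points: Sylow `p`-subgroups, with distinguished point `P`. -/
noncomputable def St.pt (st : St p P n) : Sylow p G := st.hP.syl

include st

theorem St.pt_coe : (st.pt : Subgroup G) = P := st.hP.syl_coe

theorem St.smul_pt_iff (g : G) : g • st.pt = st.pt ↔ g ∈ normalizer (P : Set G) := by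
  rw [Sylow.smul_eq_iff_mem_normalizer]
  have h : ((st.pt : Sylow p G) : Set G) = (P : Set G) :=
    congrArg (fun H : Subgroup G => (H : Set G)) st.pt_coe
  rw [h]

/-- a nontrivial element of `P` fixes only `P`. -/
theorem St.free_pt : ∀ u ∈ P, ∀ y : Sylow p G, y ≠ st.pt → u • y = y → u = 1 := by
  intro u hu y hy huy
  by_contra hu1
  apply hy
  rw [Sylow.smul_eq_iff_mem_normalizer] at huy
  have h1 : IsPGroup p (zpowers u) := by
    refine IsPGroup.of_card (n := 1) ?_
    rw [Nat.card_zpowers, st.hP.orderOf_eq hu hu1, pow_one]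
  have h2 := h1.inf_normalizer_sylow y
  have h3 : u ∈ zpowers u ⊓ normalizer (y : Set G) := ⟨mem_zpowers u, huy⟩
  rw [h2] at h3
  have h4 : P ≤ (y : Subgroup G) := by
    rw [← st.hP.zpowers_eq hu hu1, zpowers_le]
    exact h3.2
  apply Sylow.ext
  rw [st.pt_coe]
  have h5 := st.pt.3 y.2 (by rw [st.pt_coe]; exact h4)
  rw [st.pt_coe] at h5
  exact h5

theorem St.card_pts : Nat.card (Sylow p G) = 1 + n * p := by
  rw [st.hP.card_sylow, st.hD]

/-- for `n = 1`, `P` is regular on the other points. -/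
theorem St.reg_pt (hn : n = 1) : ∀ y z : Sylow p G, y ≠ st.pt → z ≠ st.pt → ∃ u ∈ P, u • y = z := by
  classical
  intro y z hy hz
  have := Fintype.ofFinite (Sylow p G)
  let f : P → {w : Sylow p G // w ≠ st.pt} := fun u => ⟨(u : G) • y, by
    intro h
    apply hy
    have h1 : (u : G)⁻¹ • st.pt = st.pt := by
      rw [st.smul_pt_iff]
      exact Subgroup.le_normalizer (P.inv_mem u.2)
    rw [← h, inv_smul_smul] at h1
    rw [h1, h]⟩
  have hf : Function.Injective f := by
    intro a b hab
    have h1 : (a : G) • y = (b : G) • y := congrArg Subtype.val hab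
    have h2 : ((b : G)⁻¹ * a) • y = y := by rw [mul_smul, h1, inv_smul_smul]
    have h3 := st.free_pt _ (P.mul_mem (P.inv_mem b.2) a.2) y hy h2
    exact Subtype.ext (inv_mul_eq_one.mp h3).symm
  have hcard : Nat.card P = Nat.card {w : Sylow p G // w ≠ st.pt} := by
    rw [st.hP.card, Nat.card_eq_fintype_card, Fintype.card_subtype_compl,
      Fintype.card_subtype_eq, ← Nat.card_eq_fintype_card, st.card_pts, hn]
    omega
  have hbij : Function.Bijective f := by
    have := Fintype.ofFinite P
    rw [Fintype.bijective_iff_injective_and_card]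
    refine ⟨hf, ?_⟩
    rw [← Nat.card_eq_fintype_card, ← Nat.card_eq_fintype_card, hcard]
  obtain ⟨u, hu⟩ := hbij.2 ⟨z, hz⟩
  exact ⟨u, u.2, congrArg Subtype.val hu⟩

theorem St.three_pts (hn : n = 1) : ∀ g : G, ∀ a b c : Sylow p G, a ≠ b → b ≠ c → a ≠ c →
    g • a = a → g • b = b → g • c = c → g = 1 := by
  refine three_fixed P st.pt ?_ ?_ (st.reg_pt hn) st.free_pt ?_
  · intro u hu
    rw [st.smul_pt_iff]
    exact Subgroup.le_normalizer hu
  · intro g hg u hu
    rw [st.smul_pt_iff] at hg
    exact (Subgroup.mem_normalizer_iff''.mp hg u).mp hu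
  · intro u hu hu1 g hg
    exact mem_P_of_comm st.hP st.hC hu hu1 hg.symm

/-- the normalizer is solvable. -/
theorem St.solvable_N : Group.IsSolvable (normalizer (P : Set G)) := by
  have h1 : Group.IsSolvable P := Group.isSolvable_of_comm fun a b =>
    Subtype.ext (st.P_comm a a.2 b b.2)
  refine Group.isSolvable_of_ker_le_range (Subgroup.inclusion (Subgroup.le_normalizer (H := P)))
    st.ρ ?_
  intro y hy
  exact ⟨⟨y, (st.hρ y).mp hy⟩, rfl⟩

/-- no regular normal subgroup. -/
theorem St.no_regular (N : Subgroup G) (hN : N.Normal)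
    (htr : MulAction.IsPretransitive N (Sylow p G)) :
    ∃ a : Sylow p G, MulAction.stabilizer N a ≠ ⊥ := by
  by_contra hcon
  push Not at hcon
  -- `G / N` is a quotient of `N_G(P)`
  have h1 : Function.Surjective ((QuotientGroup.mk' N).comp (normalizer (P : Set G)).subtype) := by
    intro q
    obtain ⟨g, rfl⟩ := QuotientGroup.mk'_surjective N q
    obtain ⟨m, hm⟩ := htr.exists_smul_eq st.pt (g • st.pt)
    have h2 : (m : G) • st.pt = g • st.pt := hm
    have h3 : (m : G)⁻¹ * g ∈ normalizer (P : Set G) := by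
      rw [← st.smul_pt_iff, mul_smul, ← h2, inv_smul_smul]
    refine ⟨⟨_, h3⟩, ?_⟩
    change (QuotientGroup.mk' N) ((m : G)⁻¹ * g) = (QuotientGroup.mk' N) g
    rw [map_mul]
    have h4 : (QuotientGroup.mk' N) ((m : G)⁻¹) = 1 := by
      rw [QuotientGroup.mk'_apply, QuotientGroup.eq_one_iff]
      exact N.inv_mem m.2
    rw [h4, one_mul]
  have hsol := st.solvable_N
  have h2 : Group.IsSolvable (G ⧸ N) := Group.isSolvable_of_surjective h1
  have h3 : commutator (G ⧸ N) = ⊤ := by
    rw [commutator_def, ← Subgroup.map_top_of_surjective (QuotientGroup.mk' N)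
      (QuotientGroup.mk'_surjective N), ← Subgroup.map_commutator, ← commutator_def, st.hperf]
  have h4 : N = ⊤ := by
    by_contra hne
    have : Nontrivial (G ⧸ N) := QuotientGroup.nontrivial_iff.mpr hne
    exact absurd h3 (Group.IsSolvable.commutator_lt_top_of_nontrivial (G ⧸ N)).ne
  -- an element of `P` in the stabilizer
  obtain ⟨x, hx, hx1⟩ := exists_ne_one st.hP
  have h5 : (⟨x, by rw [h4]; exact Subgroup.mem_top x⟩ : N) ∈ MulAction.stabilizer N st.pt := by
    rw [MulAction.mem_stabilizer_iff]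
    change x • st.pt = st.pt
    rw [st.smul_pt_iff]
    exact Subgroup.le_normalizer hx
  rw [hcon st.pt, Subgroup.mem_bot] at h5
  exact hx1 (congrArg Subtype.val h5)

theorem St.zass (hn : n = 1) : IsZassenhausGroup G (Sylow p G) := by
  classical
  have := Fintype.ofFinite (Sylow p G)
  have hp3 := st.hp3
  have he := st.he
  have hcard : 2 < Fintype.card (Sylow p G) := by
    rw [← Nat.card_eq_fintype_card, st.card_pts, hn]; omega
  obtain ⟨a, b, c, hab, hac, hbc⟩ := Fintype.two_lt_card_iff.mp hcard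
  refine ⟨⟨?_⟩, ?_, st.three_pts hn, ?_, ?_⟩
  · intro g₁ g₂ h
    have h1 : ∀ y : Sylow p G, (g₂⁻¹ * g₁) • y = y := by
      intro y
      rw [mul_smul, h, inv_smul_smul]
    have h2 := st.three_pts hn (g₂⁻¹ * g₁) a b c hab hbc hac (h1 a) (h1 b) (h1 c)
    exact (inv_mul_eq_one.mp h2).symm
  · refine two_trans P st.pt ?_ (st.reg_pt hn)
    intro u hu
    rw [st.smul_pt_iff]
    exact Subgroup.le_normalizer hu
  · -- a two-point stabilizer
    have hne : ∃ x₀ : G, x₀ ∉ normalizer (P : Set G) := by
      by_contra hcon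
      push Not at hcon
      have h1 : normalizer (P : Set G) = ⊤ := by
        rw [Subgroup.eq_top_iff']; exact hcon
      have h2 := st.hD
      rw [h1, Subgroup.index_top, hn] at h2
      omega
    obtain ⟨x₀, hx₀⟩ := hne
    have hc := st.card_Hx hx₀
    have h1 : Hx P x₀ ≠ ⊥ := by
      intro h
      rw [h, Subgroup.card_bot] at hc
      omega
    obtain ⟨y, hy, hy1⟩ := (Hx P x₀).bot_or_exists_ne_one.resolve_left h1
    refine ⟨y, hy1, st.pt, x₀ • st.pt, ?_, ?_, ?_⟩
    · intro h
      exact hx₀ ((st.smul_pt_iff x₀).mp h.symm)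
    · rw [st.smul_pt_iff]; exact (mem_Hx.mp hy).1
    · have h2 := (st.smul_pt_iff _).mpr (mem_Hx.mp hy).2
      rw [mul_smul, mul_smul] at h2
      exact (eq_inv_smul_iff.mp h2.symm).symm
  · exact st.no_regular

omit st in
/-- `q (q² - 1)` determines `q`. -/
theorem cube_inj {a b : ℕ} (ha : 1 ≤ a) (hb : 1 ≤ b)
    (h : a * ((a - 1) * (a + 1)) = b * ((b - 1) * (b + 1))) (ha2 : 2 ≤ a) : a = b := by
  obtain ⟨a, rfl⟩ : ∃ k, a = k + 1 := ⟨a - 1, by omega⟩
  obtain ⟨b, rfl⟩ : ∃ k, b = k + 1 := ⟨b - 1, by omega⟩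
  simp only [Nat.add_sub_cancel] at h
  rcases lt_trichotomy a b with hlt | heq | hgt
  · exfalso
    have h1 : (a + 1) * (a * (a + 1 + 1)) < (b + 1) * (b * (b + 1 + 1)) := by
      apply Nat.mul_lt_mul_of_lt_of_le (by omega)
      · exact Nat.mul_le_mul (by omega) (by omega)
      · have : 0 < b := by omega
        positivity
    omega
  · rw [heq]
  · exfalso
    have h1 : (b + 1) * (b * (b + 1 + 1)) < (a + 1) * (a * (a + 1 + 1)) := by
      apply Nat.mul_lt_mul_of_lt_of_le (by omega)
      · exact Nat.mul_le_mul (by omega) (by omega)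
      · have : 0 < a := by omega
        positivity
    omega

/-- **Case A**: `PSL(2, p)`. -/
theorem St.ident_A (hn : n = 1) (ht : 2 * ind P = p - 1) :
    ∃ (F : Type) (_ : Field F) (_ : Fintype F), Fintype.card F = p ∧ 3 < p ∧
      Nonempty (G ≃* Matrix.ProjectiveSpecialLinearGroup (Fin 2) F) := by
  classical
  have := Fintype.ofFinite (Sylow p G)
  have hp3 := st.hp3
  have he := st.he
  have hZ := st.zass hn
  have hcardG : 2 * Nat.card G = p * ((p - 1) * (p + 1)) := by
    rw [st.card_G', hn, ← ht]; ring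
  have hres := S0731.result hZ st.pt P (by
    intro u hu
    rw [MulAction.mem_stabilizer_iff, st.smul_pt_iff]
    exact Subgroup.le_normalizer hu) (by
    refine ⟨fun u hu g => ?_⟩
    rw [Subgroup.mem_subgroupOf] at hu ⊢
    have hg : (g : G) ∈ normalizer (P : Set G) := (st.smul_pt_iff _).mp g.2
    exact (Subgroup.mem_normalizer_iff.mp hg u).mp hu)
    ⟨⟨fun a b => Subtype.ext (st.P_comm a a.2 b b.2)⟩⟩ (by
    intro y z hy hz
    obtain ⟨u, hu, huy⟩ := st.reg_pt hn y z hy hz
    refine ⟨⟨u, hu⟩, huy, ?_⟩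
    intro v hv
    have h1 : (u⁻¹ * (v : G)) • y = y := by
      rw [mul_smul, hv, ← huy, inv_smul_smul]
    have h2 := st.free_pt _ (P.mul_mem (P.inv_mem hu) v.2) y hy h1
    exact Subtype.ext (inv_mul_eq_one.mp h2).symm)
  rcases hres with ⟨h3, hst⟩ | ⟨K, hK, hK', hchar, hiso⟩
  · exfalso
    -- `|G| = (p+1) p (p-1)`
    have hcard3 : 2 < Fintype.card (Sylow p G) := by
      rw [← Nat.card_eq_fintype_card, st.card_pts, hn]; omega
    obtain ⟨a, b, c, hab, hac, hbc⟩ := Fintype.two_lt_card_iff.mp hcard3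
    have htriple : Nonempty (Fin 3 ↪ Sylow p G) := by
      apply Function.Embedding.nonempty_of_card_le
      rw [Fintype.card_fin]; omega
    obtain ⟨t⟩ := htriple
    have horb : Nat.card (MulAction.orbit G t) = Nat.card G := by
      rw [Nat.card_congr (MulAction.orbitEquivQuotientStabilizer G t), hst t]
      exact Nat.card_congr (QuotientGroup.quotientBot (G := G)).toEquiv
    have htop : MulAction.orbit G t = Set.univ := by
      rw [Set.eq_univ_iff_forall]
      intro s
      exact h3.exists_smul_eq t s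
    rw [htop, Nat.card_congr (Equiv.Set.univ _), Nat.card_eq_fintype_card,
      Fintype.card_embedding_eq, Fintype.card_fin, ← Nat.card_eq_fintype_card, st.card_pts, hn] at horb
    simp only [Nat.descFactorial_succ, Nat.descFactorial_zero, mul_one, Nat.sub_zero,
      one_mul] at horb
    have e1 : 1 + p - 2 = p - 1 := by omega
    have e2 : 1 + p - 1 = p := by omega
    rw [e1, e2] at horb
    rw [← horb] at hcardG
    have h5 : 0 < p * ((p - 1) * (p + 1)) := by
      have : 0 < p - 1 := by omega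
      positivity
    have h6 : 2 * ((p - 1) * (p * (1 + p))) = 2 * (p * ((p - 1) * (p + 1))) := by ring
    omega
  · obtain ⟨φ⟩ := hiso
    have hodd : Odd (Fintype.card K) := by
      by_contra heven
      rw [Nat.not_odd_iff_even] at heven
      apply hchar
      have h1 : (2 : ℕ) ∣ Fintype.card K := heven.two_dvd
      obtain ⟨q, hqc, m, hq, hqn⟩ := FiniteField.card' K
      have h2 : q = 2 := by
        rw [hqn] at h1
        exact ((Nat.prime_dvd_prime_iff_eq Nat.prime_two hq).mp
          (Nat.prime_two.dvd_of_dvd_pow h1)).symm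
      subst h2
      exact ringChar.eq K 2
    have h1 := H14.SubField.card_PSL2_odd (F := K) hodd
    rw [← Nat.card_congr φ.toEquiv, hcardG] at h1
    have h2 : p = Fintype.card K := cube_inj (by omega) Fintype.card_pos h1 (by omega)
    exact ⟨K, hK, hK', h2.symm, by omega, ⟨φ⟩⟩

end

end Cfsg.Agent.BR
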