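import Cfsg.Agent.BR.IdentA

/-!
Identification with `SL(2, 2^m)`.
-/

set_option autoImplicit false

namespace Cfsg.Agent.BR

open Cfsg Subgroup

universe u v

section Abs

variable {G : Type u} [Group G] [Fintype G] {S : Subgroup G}

omit [Fintype G] in
/-- TI property from self-centralizing. -/
theorem ti_of_cent (hc : ∀ s ∈ S, s ≠ 1 → centralizer ({s} : Set G) = S) {s g : G} (hs : s ∈ S)
    (hs1 : s ≠ 1) (h : g⁻¹ * s * g ∈ S) : g ∈ normalizer (S : Set G) := by
  have h1 : g⁻¹ * s * g ≠ 1 := by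
    intro h'
    apply hs1
    have : s = g * (g⁻¹ * s * g) * g⁻¹ := by group
    rw [this, h']; group
  have h2 := hc _ h h1
  have h3 := hc s hs hs1
  rw [Subgroup.mem_normalizer_iff]
  intro y
  -- `y ∈ C(g⁻¹ s g) ↔ g y g⁻¹ ∈ C(s)`
  have h4 : y ∈ centralizer ({g⁻¹ * s * g} : Set G) ↔ g * y * g⁻¹ ∈ centralizer ({s} : Set G) := by
    rw [Subgroup.mem_centralizer_iff, Subgroup.mem_centralizer_iff]
    constructor
    · intro hy z hz
      rw [Set.mem_singleton_iff.mp hz]
      have h5 := hy (g⁻¹ * s * g) (Set.mem_singleton _)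
      have h6 : s * (g * y * g⁻¹) = g * ((g⁻¹ * s * g) * y) * g⁻¹ := by group
      rw [h6, h5]; group
    · intro hy z hz
      rw [Set.mem_singleton_iff.mp hz]
      have h5 := hy s (Set.mem_singleton _)
      have h6 : g⁻¹ * s * g * y = g⁻¹ * (s * (g * y * g⁻¹)) * g := by group
      rw [h6, h5]; group
  rw [h2, h3] at h4
  exact h4

/-- the abstract identification of `SL(2, 2^m)`. -/
theorem ident_sl {m : ℕ} (hm : 2 ≤ m) (hS : Nat.card S = 2 ^ m)
    (hG : Nat.card G = (2 ^ m + 1) * 2 ^ m * (2 ^ m - 1))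
    (ho : ∀ s ∈ S, s ≠ 1 → orderOf s = 2)
    (hc : ∀ s ∈ S, s ≠ 1 → centralizer ({s} : Set G) = S)
    (hj : ∀ g : G, orderOf g = 2 → ∃ x : G, x⁻¹ * g * x ∈ S)
    (hI : (Inv G).card * Nat.card S = Nat.card G) :
    ∃ (F : Type) (_ : Field F) (_ : Fintype F), Fintype.card F = 2 ^ m ∧
      Nonempty (G ≃* Matrix.SpecialLinearGroup (Fin 2) F) := by
  classical
  have hq4 : 4 ≤ 2 ^ m := by
    calc 4 = 2 ^ 2 := by norm_num
      _ ≤ 2 ^ m := Nat.pow_le_pow_right (by norm_num) hm
  set q := 2 ^ m with hq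
  have hqpos : 0 < q := by omega
  -- the Sylow subgroup
  have hidx : S.index = (q + 1) * (q - 1) := by
    have h1 := S.card_mul_index
    rw [hS, hG] at h1
    have h2 : q * S.index = q * ((q + 1) * (q - 1)) := by rw [h1]; ring
    exact Nat.eq_of_mul_eq_mul_left hqpos h2
  have hq2 : 2 ∣ q := dvd_pow_self 2 (by omega)
  have hnd : ¬ 2 ∣ S.index := by
    rw [hidx]
    intro h
    rcases (Nat.prime_two.dvd_mul).mp h with h | h
    · omega
    · omega
  obtain ⟨T, hT⟩ : ∃ T : Sylow 2 G, (T : Subgroup G) = S :=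
    ⟨(IsPGroup.of_card (n := m) hS).toSylow hnd, rfl⟩
  -- TI count
  have hInv : (Inv G).card = (q + 1) * (q - 1) := by
    have h2 : (Inv G).card * q = (q + 1) * (q - 1) * q := by rw [← hS, hI, hG, hS]; ring
    exact Nat.eq_of_mul_eq_mul_right hqpos h2
  have hN : (normalizer (S : Set G)).index = q + 1 := by
    have h1 := ti_sum (R := ℕ) (Finset.univ.filter (fun s : G => s ∈ S ∧ s ≠ 1))
      (normalizer (S : Set G)) (by
        intro a ha g
        rw [Finset.mem_filter] at ha
        rw [Finset.mem_filter]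
        constructor
        · rintro ⟨-, h, -⟩
          exact ti_of_cent hc ha.2.1 ha.2.2 h
        · intro hg
          refine ⟨Finset.mem_univ _, (Subgroup.mem_normalizer_iff''.mp hg a).mp ha.2.1, ?_⟩
          intro h'
          apply ha.2.2
          have : a = g * (g⁻¹ * a * g) * g⁻¹ := by group
          rw [this, h']; group) (fun _ => 1) (fun _ _ => rfl)
    rw [Finset.sum_const, Finset.sum_const, smul_eq_mul, mul_one, smul_eq_mul, mul_one] at h1
    have h2 : (Finset.univ.filter (fun g : G => ∃ x : G, x⁻¹ * g * x ∈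
        Finset.univ.filter (fun s : G => s ∈ S ∧ s ≠ 1))) = Inv G := by
      ext g
      unfold Inv
      rw [Finset.mem_filter, Finset.mem_filter]
      constructor
      · rintro ⟨-, x, hx⟩
        rw [Finset.mem_filter] at hx
        refine ⟨Finset.mem_univ _, ?_⟩
        have h3 := ho _ hx.2.1 hx.2.2
        have : x⁻¹ * g * x = MulAut.conj x⁻¹ g := by simp
        rwa [this, MulEquiv.orderOf_eq] at h3
      · rintro ⟨-, hg⟩
        obtain ⟨x, hx⟩ := hj g hg
        refine ⟨Finset.mem_univ _, x, ?_⟩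
        rw [Finset.mem_filter]
        refine ⟨Finset.mem_univ _, hx, ?_⟩
        intro h'
        have : g = 1 := by
          have : g = x * (x⁻¹ * g * x) * x⁻¹ := by group
          rw [this, h']; group
        rw [this, orderOf_one] at hg
        norm_num at hg
    have h3 : (Finset.univ.filter (fun s : G => s ∈ S ∧ s ≠ 1)).card = q - 1 := by
      have h4 : (Finset.univ.filter (fun s : G => s ∈ S ∧ s ≠ 1)) =
          (Finset.univ.filter (fun s : G => s ∈ S)).erase 1 := by
        ext s
        rw [Finset.mem_erase, Finset.mem_filter, Finset.mem_filter]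
        tauto
      rw [h4, Finset.card_erase_of_mem (by
        rw [Finset.mem_filter]; exact ⟨Finset.mem_univ _, S.one_mem⟩),
        ← Fintype.card_subtype, ← Nat.card_eq_fintype_card]
      exact congrArg (· - 1) hS
    rw [h2, h3, hInv] at h1
    -- `|N| (q+1)(q-1) = |G| (q-1)`
    have h5 := (normalizer (S : Set G)).card_mul_index
    have hNpos : 0 < Nat.card (normalizer (S : Set G)) := Nat.card_pos
    have hq1 : 0 < q - 1 := by omega
    have h6 : Nat.card (normalizer (S : Set G)) * (q - 1) * (q + 1) =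
        Nat.card (normalizer (S : Set G)) * (q - 1) * (normalizer (S : Set G)).index := by
      calc Nat.card (normalizer (S : Set G)) * (q - 1) * (q + 1)
          = Nat.card (normalizer (S : Set G)) * ((q + 1) * (q - 1)) := by ring
        _ = Nat.card G * (q - 1) := h1
        _ = _ := by rw [← h5]; ring
    exact (Nat.eq_of_mul_eq_mul_left (Nat.mul_pos hNpos hq1) h6).symm
  have hTS : ((T : Sylow 2 G) : Set G) = (S : Set G) :=
    congrArg (fun H : Subgroup G => (H : Set G)) hT
  have hΩ : Nat.card (Sylow 2 G) = q + 1 := by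
    rw [T.card_eq_index_normalizer, hTS, hN]
  -- the action
  have hsm : ∀ g : G, g • T = T ↔ g ∈ normalizer (S : Set G) := by
    intro g
    rw [Sylow.smul_eq_iff_mem_normalizer, hTS]
  have hfree : ∀ u ∈ S, ∀ y : Sylow 2 G, y ≠ T → u • y = y → u = 1 := by
    intro u hu y hy huy
    by_contra hu1
    apply hy
    rw [Sylow.smul_eq_iff_mem_normalizer] at huy
    have h1 : IsPGroup 2 (zpowers u) := by
      refine IsPGroup.of_card (n := 1) ?_
      rw [Nat.card_zpowers, ho u hu hu1, pow_one]
    have h2 := h1.inf_normalizer_sylow y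
    have h3 : u ∈ zpowers u ⊓ normalizer (y : Set G) := ⟨mem_zpowers u, huy⟩
    rw [h2] at h3
    obtain ⟨g, hg⟩ := MulAction.exists_smul_eq G T y
    have h4 : u ∈ ((g • T : Sylow 2 G) : Subgroup G) := by rw [hg]; exact h3.2
    rw [Sylow.coe_subgroup_smul, Subgroup.mem_pointwise_smul_iff_inv_smul_mem, hT] at h4
    have h5 : g⁻¹ * u * g ∈ S := by
      have h6 : (MulAut.conj g)⁻¹ • u = g⁻¹ * u * g := by
        simp [MulAut.smul_def]
      rwa [h6] at h4
    have h6 := ti_of_cent hc hu hu1 h5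
    rw [← hg]
    exact (hsm g).mpr h6
  have hreg : ∀ y z : Sylow 2 G, y ≠ T → z ≠ T → ∃ u ∈ S, u • y = z := by
    intro y z hy hz
    have := Fintype.ofFinite (Sylow 2 G)
    let f : S → {w : Sylow 2 G // w ≠ T} := fun u => ⟨(u : G) • y, by
      intro h
      apply hy
      have h1 : (u : G)⁻¹ • T = T := by
        rw [hsm]
        exact Subgroup.le_normalizer (S.inv_mem u.2)
      rw [← h, inv_smul_smul] at h1
      rw [h1, h]⟩
    have hf : Function.Injective f := by
      intro a b hab
      have h1 : (a : G) • y = (b : G) • y := congrArg Subtype.val hab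
      have h2 : ((b : G)⁻¹ * a) • y = y := by rw [mul_smul, h1, inv_smul_smul]
      have h3 := hfree _ (S.mul_mem (S.inv_mem b.2) a.2) y hy h2
      exact Subtype.ext (inv_mul_eq_one.mp h3).symm
    have hcard : Nat.card S = Nat.card {w : Sylow 2 G // w ≠ T} := by
      rw [hS, Nat.card_eq_fintype_card, Fintype.card_subtype_compl,
        Fintype.card_subtype_eq, ← Nat.card_eq_fintype_card, hΩ]
      omega
    have hbij : Function.Bijective f := by
      have := Fintype.ofFinite S
      rw [Fintype.bijective_iff_injective_and_card]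
      refine ⟨hf, ?_⟩
      rw [← Nat.card_eq_fintype_card, ← Nat.card_eq_fintype_card, hcard]
    obtain ⟨u, hu⟩ := hbij.2 ⟨z, hz⟩
    exact ⟨u, u.2, congrArg Subtype.val hu⟩
  have h3 : ∀ g : G, ∀ a b c : Sylow 2 G, a ≠ b → b ≠ c → a ≠ c →
      g • a = a → g • b = b → g • c = c → g = 1 := by
    refine three_fixed S T ?_ ?_ hreg hfree ?_
    · intro u hu
      rw [hsm]
      exact Subgroup.le_normalizer hu
    · intro g hg u hu
      rw [hsm] at hg
      exact (Subgroup.mem_normalizer_iff''.mp hg u).mp hu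
    · intro u hu hu1 g hg
      have h1 := hc u hu hu1
      have h2 : g ∈ centralizer ({u} : Set G) := by
        rw [Subgroup.mem_centralizer_iff]
        intro y hy
        rw [Set.mem_singleton_iff.mp hy]
        exact hg.symm
      rwa [h1] at h2
  -- pass to the permutation group
  have hft := Fintype.ofFinite (Sylow 2 G)
  let φ := MulAction.toPermHom G (Sylow 2 G)
  have hφ : ∀ (g : G) (a : Sylow 2 G), φ g a = g • a := fun g a => rfl
  have hcard3 : 2 < Fintype.card (Sylow 2 G) := by
    rw [← Nat.card_eq_fintype_card, hΩ]; omega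
  obtain ⟨a, b, c, hab, hac, hbc⟩ := Fintype.two_lt_card_iff.mp hcard3
  have hinj : Function.Injective φ := by
    rw [injective_iff_map_eq_one]
    intro g hg
    have h4 : ∀ y : Sylow 2 G, g • y = y := by
      intro y
      rw [← hφ, hg]; rfl
    exact h3 g a b c hab hbc hac (h4 a) (h4 b) (h4 c)
  have hcR : Nat.card φ.range = Nat.card (Sylow 2 G) * (Nat.card (Sylow 2 G) - 1) *
      (Nat.card (Sylow 2 G) - 2) := by
    rw [← Nat.card_congr (MonoidHom.ofInjective hinj).toEquiv, hG, hΩ]
    have e1 : q + 1 - 1 = q := by omega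
    have e2 : q + 1 - 2 = q - 1 := by omega
    rw [e1, e2]
  obtain ⟨hst, htr⟩ := sharp_three (G := φ.range) (Ω := Sylow 2 G) (by
    rintro ⟨g', g, rfl⟩ a b c hab hbc hac ha hb hc'
    have ha' : g • a = a := ha
    have hb' : g • b = b := hb
    have hc'' : g • c = c := hc'
    have := h3 g a b c hab hbc hac ha' hb' hc''
    apply Subtype.ext
    change φ g = 1
    rw [this, map_one]) hcR
  obtain ⟨F, hF, hF', hFc, ⟨ψ⟩⟩ := S0727.result (α := Sylow 2 G) (f := m) (by omega)
    (by rw [← Nat.card_eq_fintype_card, hΩ]) φ.range htr hst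
  obtain ⟨χ⟩ := sl_equiv_pgl (F := F) hFc
  exact ⟨F, hF, hF', hFc, ⟨((MonoidHom.ofInjective hinj).trans ψ).trans χ.symm⟩⟩

end Abs

section

variable {G : Type u} [Group G] [Fintype G] {p : ℕ} [hp : Fact p.Prime] {P : Subgroup G} {n : ℕ}
  (st : St p P n)

include st

/-- **Case B**: `SL(2, 2^m)` with `p = 2^m + 1`. -/
theorem St.ident_B (he2 : ind P = 2) {E : Subgroup G} (hE : IsE P n E) {τ : G} (hτE : τ ∈ E)
    (hτ2 : orderOf τ = 2) (hτ : ∀ y ∈ E, y ≠ 1 → y ^ 2 = 1 → y = τ)
    (hinv : ∀ s ∈ normalizer (E : Set G), s ∉ E → orderOf s = 2) :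
    ∃ (m : ℕ) (F : Type) (_ : Field F) (_ : Fintype F), 2 ≤ m ∧ p = 2 ^ m + 1 ∧
      Fintype.card F = 2 ^ m ∧ Nonempty (G ≃* Matrix.SpecialLinearGroup (Fin 2) F) := by
  classical
  have heven : Even (ind P) := by rw [he2]; exact even_two
  obtain ⟨hδ, hY, hf⟩ := st.even_case heven
  have hp3 := st.hp3
  have hn := st.hn
  have hYc := st.B.cardY
  rw [hY, he2] at hYc
  -- all nontrivial elements of `S = N(E)` are involutions
  have hE2 : ∀ y ∈ E, y ≠ 1 → orderOf y = 2 := by
    intro y hy hy1
    have h1 : orderOf y ∣ 2 := by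
      have := orderOf_dvd_natCard (⟨y, hy⟩ : E)
      rwa [hE.card, he2, Subgroup.orderOf_mk] at this
    rcases (Nat.dvd_prime Nat.prime_two).mp h1 with h | h
    · exact absurd (orderOf_eq_one_iff.mp h) hy1
    · exact h
  have ho : ∀ s ∈ normalizer (E : Set G), s ≠ 1 → orderOf s = 2 := by
    intro s hs hs1
    by_cases hsE : s ∈ E
    · exact hE2 s hsE hs1
    · exact hinv s hs hsE
  have hsq : ∀ s ∈ normalizer (E : Set G), s * s = 1 := by
    intro s hs
    by_cases hs1 : s = 1
    · rw [hs1, one_mul]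
    · have := pow_orderOf_eq_one s
      rwa [ho s hs hs1, pow_two] at this
  have hcomm : ∀ s ∈ normalizer (E : Set G), ∀ t ∈ normalizer (E : Set G), s * t = t * s := by
    intro s hs t ht
    have h1 := hsq s hs
    have h2 := hsq t ht
    have h3 := hsq (s * t) (Subgroup.mul_mem _ hs ht)
    have h4 : s⁻¹ = s := inv_eq_of_mul_eq_one_right h1
    have h5 : t⁻¹ = t := inv_eq_of_mul_eq_one_right h2
    have h6 : (s * t)⁻¹ = s * t := inv_eq_of_mul_eq_one_right h3
    rw [← h6, mul_inv_rev, h4, h5]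
  -- order
  have hcS : Nat.card (normalizer (E : Set G)) = p - 1 := by
    rw [hE.cardM, he2]; omega
  obtain ⟨m, hm⟩ : ∃ m : ℕ, Nat.card (normalizer (E : Set G)) = 2 ^ m := by
    rw [← IsPGroup.iff_card]
    intro s
    refine ⟨1, ?_⟩
    apply Subtype.ext
    rw [pow_one, Subgroup.coe_pow, pow_two]
    exact hsq s s.2
  have hpm : p = 2 ^ m + 1 := by omega
  have hm2 : 2 ≤ m := by
    by_contra hlt
    have : m = 0 ∨ m = 1 := by omega
    rcases this with rfl | rfl
    · rw [pow_zero] at hpm; omega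
    · rw [pow_one] at hpm; omega
  have hcard : Nat.card G = (2 ^ m + 1) * 2 ^ m * (2 ^ m - 1) := by
    rw [st.card_G', he2]
    have h1 : 2 * (n + 1) = 2 ^ m := by omega
    have h2 : 1 + n * p = (n + 1) * (2 ^ m - 1) := by
      have h3 : 2 ^ m - 1 = 2 * n + 1 := by omega
      rw [h3, hpm, ← h1]; ring
    rw [h2, ← hpm, ← h1]; ring
  have hS1 : centralizer ({τ} : Set G) = normalizer (E : Set G) :=
    st.centralizer_tau hE hτE hτ2 hτ
  have hcent : ∀ s ∈ normalizer (E : Set G), s ≠ 1 →
      centralizer ({s} : Set G) = normalizer (E : Set G) := by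
    intro s hs hs1
    symm
    apply Subgroup.eq_of_le_of_card_ge
    · intro t ht
      rw [Subgroup.mem_centralizer_iff]
      intro y hy
      rw [Set.mem_singleton_iff.mp hy]
      exact hcomm s hs t ht
    · obtain ⟨x, hx⟩ := st.inv_conj heven hE hτ (ho s hs hs1)
      rw [← hS1]
      -- conjugate centralizers
      refine Nat.card_le_card_of_injective
        (fun c : centralizer ({s} : Set G) => (⟨x⁻¹ * c * x, by
          rw [Subgroup.mem_centralizer_iff]
          intro y hy
          rw [Set.mem_singleton_iff.mp hy, ← hx]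
          have h1 := Subgroup.mem_centralizer_iff.mp c.2 s (Set.mem_singleton s)
          calc x⁻¹ * s * x * (x⁻¹ * (c : G) * x) = x⁻¹ * (s * c) * x := by group
            _ = x⁻¹ * (c * s) * x := by rw [h1]
            _ = _ := by group⟩ : centralizer ({τ} : Set G))) ?_
      intro a b hab
      have h1 : x⁻¹ * (a : G) * x = x⁻¹ * (b : G) * x := congrArg Subtype.val hab
      exact Subtype.ext (mul_left_cancel (mul_right_cancel h1))
  obtain ⟨F, hF, hF', hFc, hiso⟩ := ident_sl (S := normalizer (E : Set G)) hm2 hm hcard ho hcent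
    (by
      intro g hg
      obtain ⟨x, hx⟩ := st.inv_conj heven hE hτ hg
      exact ⟨x, by rw [hx]; exact Subgroup.le_normalizer hτE⟩)
    (st.card_Inv heven hE hτE hτ2 hτ)
  exact ⟨m, F, hF, hF', hm2, hpm, hFc, hiso⟩

/-- **Part B of the Brauer-Reynolds theorem**. -/
theorem St.final : (∃ (F : Type) (_ : Field F) (_ : Fintype F), Fintype.card F = p ∧ 3 < p ∧
      Nonempty (G ≃* Matrix.ProjectiveSpecialLinearGroup (Fin 2) F)) ∨
    (∃ (m : ℕ) (F : Type) (_ : Field F) (_ : Fintype F), 2 ≤ m ∧ p = 2 ^ m + 1 ∧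
      Fintype.card F = 2 ^ m ∧ Nonempty (G ≃* Matrix.SpecialLinearGroup (Fin 2) F)) := by
  classical
  have hYc := st.B.cardY
  rcases Nat.even_or_odd (ind P) with he2 | he2
  · obtain ⟨E, hE⟩ := st.exists_E
    obtain ⟨τ, hτE, hτ2, hτ⟩ := st.exists_tau he2 hE
    obtain ⟨h1, h2⟩ := st.even_final he2 hE hτE hτ2 hτ
    rcases h1 with h1 | h1
    · right
      exact st.ident_B h1 hE hτE hτ2 hτ h2
    · left
      obtain ⟨hδ, hY, hf⟩ := st.even_case he2
      refine st.ident_A h1 ?_
      rw [hY, h1] at hYc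
      omega
  · obtain ⟨h1, h2⟩ := st.odd_final he2
    left
    refine st.ident_A h2 ?_
    rw [h1] at hYc
    exact hYc

end

end Cfsg.Agent.BR
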