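import Cfsg.Agent.BR.Invol

/-!
The counting inequality for even inertial index.
-/

set_option autoImplicit false

open scoped ComplexConjugate

namespace Cfsg.Agent.BR

open Cfsg Subgroup
open Cfsg.Agent.CharBase (oneIrr)

universe u

/-- the arithmetic of the counting inequality. -/
theorem ineq_arith {p e t f ν I Z S SP SE SZ : ℚ} (he : 2 ≤ e) (ht : 2 ≤ t) (hte : t * e = p - 1)
    (hfe : f + e = p) (hf : 0 < f)
    (hD : t * f = 1 + (t - 1) * p) (hI : I * (e * t) = p * e * (t * f))
    (hone : t * (p * e * (t * f)) = t * (1 + t * f * (p - 1) + Z) + p * (t * f) * (e - 1))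
    (hS : t * S = t * (I + t * f * SP + SZ) + p * (t * f) * SE)
    (hSI : S = I * I)
    (hSP : SP ≤ (p - 1) * p) (hSZ : SZ ≤ Z * f) (hSE : SE ≤ (e - 2) * e + ν)
    (hν : ν ≤ e * (t - 1)) : (t - 2) * (e - 2) = 0 ∧ ν = e * (t - 1) := by
  have hp0 : 0 < p := by linarith
  have ht0 : (0 : ℚ) < t := by linarith
  have he0 : (0 : ℚ) < e := by linarith
  have hI' : I = p * f := by
    have h1 : (e * t) * I = (e * t) * (p * f) := by linear_combination hI
    exact mul_left_cancel₀ (by positivity) h1
  have hZ : Z = p * e * (t * f) - 1 - t * f * (p - 1) - p * f * (e - 1) := by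
    have h1 : t * Z = t * (p * e * (t * f) - 1 - t * f * (p - 1) - p * f * (e - 1)) := by
      linear_combination -hone
    exact mul_left_cancel₀ ht0.ne' h1
  have hS2 : S = I + t * f * SP + SZ + p * f * SE := by
    have h1 : t * S = t * (I + t * f * SP + SZ + p * f * SE) := by linear_combination hS
    exact mul_left_cancel₀ ht0.ne' h1
  -- upper bound
  have hub : S ≤ I + t * f * ((p - 1) * p) + Z * f + p * f * ((e - 2) * e + ν) := by
    rw [hS2]
    have h1 : t * f * SP ≤ t * f * ((p - 1) * p) := mul_le_mul_of_nonneg_left hSP (by positivity)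
    have h2 : p * f * SE ≤ p * f * ((e - 2) * e + ν) :=
      mul_le_mul_of_nonneg_left hSE (by positivity)
    linarith
  rw [hSI, hI', hZ] at hub
  -- substitute `p = t e + 1`, `f = t e + 1 - e`
  have hp' : p = t * e + 1 := by linarith
  have hf' : f = t * e + 1 - e := by linarith
  have key : f * p * ((e * (t - 1) - ν) + e * (t - 2) * (e - 2)) ≤ 0 := by
    have e1 : f * p * ((e * (t - 1) - ν) + e * (t - 2) * (e - 2)) =
        p * f * (p * f) - (p * f + t * f * ((p - 1) * p) +
        (p * e * (t * f) - 1 - t * f * (p - 1) - p * f * (e - 1)) * f +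
        p * f * ((e - 2) * e + ν)) := by
      rw [hp', hf']; ring
    rw [e1]
    linarith
  have h1 : (e * (t - 1) - ν) + e * (t - 2) * (e - 2) ≤ 0 := by
    by_contra hcon
    push Not at hcon
    have : 0 < f * p * ((e * (t - 1) - ν) + e * (t - 2) * (e - 2)) :=
      mul_pos (mul_pos hf hp0) hcon
    linarith
  have h2 : 0 ≤ (t - 2) * (e - 2) := mul_nonneg (by linarith) (by linarith)
  have h3 : 0 ≤ e * (t - 2) * (e - 2) := by
    have : e * (t - 2) * (e - 2) = e * ((t - 2) * (e - 2)) := by ring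
    rw [this]
    exact mul_nonneg he0.le h2
  have h4 : ν = e * (t - 1) := by linarith
  have h5 : e * ((t - 2) * (e - 2)) = 0 := by
    have : e * ((t - 2) * (e - 2)) = e * (t - 2) * (e - 2) := by ring
    rw [this]
    linarith
  exact ⟨(mul_eq_zero.mp h5).resolve_left he0.ne', h4⟩

section

variable {G : Type u} [Group G] [Fintype G] {p : ℕ} [hp : Fact p.Prime] {P : Subgroup G} {n : ℕ}
  (st : St p P n)

include st

/-- **`e` even**: `e = 2` or `n = 1`, and every element of `N(E) ∖ E` is an involution. -/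
theorem St.even_final (he2 : Even (ind P)) {E : Subgroup G} (hE : IsE P n E) {τ : G} (hτE : τ ∈ E)
    (hτ2 : orderOf τ = 2) (hτ : ∀ y ∈ E, y ≠ 1 → y ^ 2 = 1 → y = τ) :
    (ind P = 2 ∨ n = 1) ∧ ∀ s ∈ normalizer (E : Set G), s ∉ E → orderOf s = 2 := by
  classical
  obtain ⟨hδ, hY, hf⟩ := st.even_case he2
  have hp3 := st.hp3
  have he := st.he
  have hn := st.hn
  obtain ⟨ψ, hψ⟩ := st.B.Y_nonempty (by omega)
  have hfe := hf ψ hψ
  have htf : st.B.Y.card * dg ψ = 1 + n * p := by
    rcases st.hS.cases with ⟨-, h, -⟩ | ⟨h, -⟩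
    · exact h ψ hψ
    · rw [hδ] at h
      exact absurd h (by norm_num)
  rw [hY] at htf
  have hte := st.B.cardY
  rw [hY] at hte
  -- the sums
  have hs1 := st.sum_split hE (R := ℚ) (fun _ => 1) (fun _ _ => rfl)
  have hs2 := st.sum_split hE (R := ℚ) (fun g => ((NS g).card : ℚ))
    (fun g h => by rw [NS_conj])
  have hcP : (Finset.univ.filter (fun x : G => x ∈ P ∧ x ≠ 1)).card = p - 1 := by
    have h1 : Finset.univ.filter (fun x : G => x ∈ P ∧ x ≠ 1) =
        (Finset.univ.filter (fun x : G => x ∈ P)).erase 1 := by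
      ext x
      rw [Finset.mem_erase, Finset.mem_filter, Finset.mem_filter]
      tauto
    rw [h1, Finset.card_erase_of_mem (by
      rw [Finset.mem_filter]; exact ⟨Finset.mem_univ _, P.one_mem⟩), ← st.hP.card,
      Nat.card_eq_fintype_card, Fintype.card_subtype]
  have hcE : (Finset.univ.filter (fun x : G => x ∈ E ∧ x ≠ 1)).card = ind P - 1 := by
    have h1 : Finset.univ.filter (fun x : G => x ∈ E ∧ x ≠ 1) =
        (Finset.univ.filter (fun x : G => x ∈ E)).erase 1 := by
      ext x
      rw [Finset.mem_erase, Finset.mem_filter, Finset.mem_filter]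
      tauto
    rw [h1, Finset.card_erase_of_mem (by
      rw [Finset.mem_filter]; exact ⟨Finset.mem_univ _, E.one_mem⟩), ← hE.card,
      Nat.card_eq_fintype_card, Fintype.card_subtype]
  have hp1' : ((p - 1 : ℕ) : ℚ) = (p : ℚ) - 1 := by
    rw [Nat.cast_sub hp.out.one_lt.le]; simp
  have he1' : ((ind P - 1 : ℕ) : ℚ) = (ind P : ℚ) - 1 := by
    rw [Nat.cast_sub (by omega)]; simp
  -- bounds
  have hSP : ∑ x ∈ Finset.univ.filter (fun x : G => x ∈ P ∧ x ≠ 1), ((NS x).card : ℚ) ≤
      ((p : ℚ) - 1) * p := by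
    have h1 := Finset.sum_le_card_nsmul (Finset.univ.filter (fun x : G => x ∈ P ∧ x ≠ 1))
      (fun x => ((NS x).card : ℚ)) p (by
        intro x hx
        rw [Finset.mem_filter] at hx
        have h2 := NS_card_le x
        rw [st.hP.centralizer_eq hx.2.1 hx.2.2, st.hC, st.hP.card] at h2
        exact_mod_cast h2)
    rw [hcP, nsmul_eq_mul, hp1'] at h1
    exact h1
  have hSZ : ∑ z ∈ Finset.univ.filter (fun z : G => InZ P z), ((NS z).card : ℚ) ≤
      ((Finset.univ.filter (fun z : G => InZ P z)).card : ℚ) * (dg ψ : ℚ) := by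
    have h1 := Finset.sum_le_card_nsmul (Finset.univ.filter (fun z : G => InZ P z))
      (fun x => ((NS x).card : ℚ)) (dg ψ) (by
        intro x hx
        rw [Finset.mem_filter] at hx
        have h2 := NS_card_le x
        have h3 := Nat.le_of_dvd (dg_pos ψ) (st.centralizer_dvd hδ hψ hx.2)
        exact_mod_cast h2.trans h3)
    rw [nsmul_eq_mul] at h1
    exact h1
  have hτ1 : τ ≠ 1 := by
    rintro rfl
    rw [orderOf_one] at hτ2
    norm_num at hτ2
  have hSE : ∑ x ∈ Finset.univ.filter (fun x : G => x ∈ E ∧ x ≠ 1), ((NS x).card : ℚ) ≤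
      ((ind P : ℚ) - 2) * ind P + (NS τ).card := by
    have hτm : τ ∈ Finset.univ.filter (fun x : G => x ∈ E ∧ x ≠ 1) := by
      rw [Finset.mem_filter]; exact ⟨Finset.mem_univ _, hτE, hτ1⟩
    rw [← Finset.add_sum_erase _ _ hτm]
    have h1 := Finset.sum_le_card_nsmul
      ((Finset.univ.filter (fun x : G => x ∈ E ∧ x ≠ 1)).erase τ)
      (fun x => ((NS x).card : ℚ)) (ind P) (by
        intro x hx
        rw [Finset.mem_erase, Finset.mem_filter] at hx
        have h2 := NS_card_le x
        have h3 : x ^ 2 ≠ 1 := fun h => hx.1 (hτ x hx.2.2.1 hx.2.2.2 h)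
        rw [st.even_centralizer he2 hE hx.2.2.1 hx.2.2.2 h3, hE.card] at h2
        exact_mod_cast h2)
    rw [Finset.card_erase_of_mem hτm, hcE, nsmul_eq_mul] at h1
    have h2 : ((ind P - 1 - 1 : ℕ) : ℚ) = (ind P : ℚ) - 2 := by
      rw [Nat.sub_sub, Nat.cast_sub (by omega)]
      norm_num
    rw [h2] at h1
    linarith
  -- the involutions at `τ`
  have hsub := st.NS_tau_subset hE hτE hτ2 hτ
  have hcard : ((Finset.univ.filter (fun s : G => s ∈ normalizer (E : Set G))) \
      (Finset.univ.filter (fun s : G => s ∈ E))).card = ind P * n := by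
    rw [Finset.card_sdiff_of_subset]
    · have h1 : (Finset.univ.filter (fun s : G => s ∈ normalizer (E : Set G))).card =
          ind P * (n + 1) := by
        rw [← hE.cardM, Nat.card_eq_fintype_card, Fintype.card_subtype]
      have h2 : (Finset.univ.filter (fun s : G => s ∈ E)).card = ind P := by
        rw [← hE.card, Nat.card_eq_fintype_card, Fintype.card_subtype]
      rw [h1, h2]
      have : ind P * (n + 1) = ind P * n + ind P := by ring
      omega
    · intro s hs
      rw [Finset.mem_filter] at hs ⊢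
      exact ⟨hs.1, Subgroup.le_normalizer hs.2⟩
  have hν := Finset.card_le_card hsub
  rw [hcard] at hν
  have hI := st.card_Inv he2 hE hτE hτ2 hτ
  rw [hE.cardM, st.card_G'] at hI
  have hNS1 : NS (1 : G) = Inv G := by
    ext s
    rw [mem_NS, mul_one]
    simp [Inv]
  -- assemble
  have e1 : ((n : ℚ) + 1) * (dg ψ : ℚ) = 1 + n * p := by exact_mod_cast htf
  have e2 : ((n : ℚ) + 1) * (ind P : ℚ) = p - 1 := by
    rw [← hp1']; exact_mod_cast hte
  have e3 : (dg ψ : ℚ) + ind P = p := by exact_mod_cast hfe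
  have e4 : ((Inv G).card : ℚ) * ((ind P : ℚ) * (n + 1)) = p * ind P * (1 + n * p) := by
    exact_mod_cast hI
  have e5 : ∑ g : G, ((NS g).card : ℚ) = (Inv G).card * (Inv G).card := by
    exact_mod_cast sum_NS (G := G)
  have e6 : ∑ g : G, (1 : ℚ) = p * ind P * (1 + n * p) := by
    rw [Finset.sum_const, Finset.card_univ, ← Nat.card_eq_fintype_card, st.card_G']
    push_cast
    ring
  rw [e6] at hs1
  simp only [Finset.sum_const, nsmul_eq_mul, mul_one] at hs1
  rw [hcP, hcE, hp1', he1'] at hs1
  have hfin := ineq_arith (p := p) (e := ind P) (t := (n : ℚ) + 1) (f := dg ψ)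
    (ν := (NS τ).card) (I := (Inv G).card)
    (Z := (Finset.univ.filter (fun z : G => InZ P z)).card)
    (S := ∑ g : G, ((NS g).card : ℚ))
    (SP := ∑ x ∈ Finset.univ.filter (fun x : G => x ∈ P ∧ x ≠ 1), ((NS x).card : ℚ))
    (SE := ∑ x ∈ Finset.univ.filter (fun x : G => x ∈ E ∧ x ≠ 1), ((NS x).card : ℚ))
    (SZ := ∑ z ∈ Finset.univ.filter (fun z : G => InZ P z), ((NS z).card : ℚ))
    (by exact_mod_cast he) (by have : (1 : ℚ) ≤ n := by exact_mod_cast hn
                               linarith)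
    e2 e3 (by exact_mod_cast dg_pos ψ) (by rw [e1]; ring) (by rw [e1]; exact e4)
    (by rw [e1]; linear_combination hs1)
    (by rw [e1, hs2, hNS1]) e5 hSP hSZ hSE
    (by have : ((NS τ).card : ℚ) ≤ ind P * n := by exact_mod_cast hν
        linarith)
  obtain ⟨h1, h2⟩ := hfin
  constructor
  · rcases mul_eq_zero.mp h1 with h | h
    · right
      have : (n : ℚ) = 1 := by linarith
      exact_mod_cast this
    · left
      have : (ind P : ℚ) = 2 := by linarith
      exact_mod_cast this
  · have h3 : (NS τ).card = ind P * n := by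
      have : ((NS τ).card : ℚ) = ((ind P * n : ℕ) : ℚ) := by rw [h2]; push_cast; ring
      exact_mod_cast this
    have h4 := Finset.eq_of_subset_of_card_le hsub (by rw [hcard, h3])
    intro s hs hsE
    have h5 : s ∈ NS τ := by
      rw [h4, Finset.mem_sdiff, Finset.mem_filter, Finset.mem_filter]
      exact ⟨⟨Finset.mem_univ _, hs⟩, fun h => hsE h.2⟩
    exact (mem_NS.mp h5).1

end

end Cfsg.Agent.BR
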