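import Cfsg.Agent.BR.Even

/-!
Counting involutions when the inertial index is even.
-/

set_option autoImplicit false

open scoped ComplexConjugate

namespace Cfsg.Agent.BR

open Cfsg Subgroup
open Cfsg.Agent.CharBase (oneIrr)

universe u

section Nn

variable {G : Type u} [Group G] [Fintype G]

open Classical in
/-- the involutions `s` such that `s g` is an involution. -/
noncomputable def NS (g : G) : Finset G :=
  Finset.univ.filter (fun s : G => orderOf s = 2 ∧ orderOf (s * g) = 2)

open Classical in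
/-- the involutions. -/
noncomputable def Inv (G : Type u) [Group G] [Fintype G] : Finset G :=
  Finset.univ.filter (fun s : G => orderOf s = 2)

theorem mem_NS {g s : G} : s ∈ NS g ↔ orderOf s = 2 ∧ orderOf (s * g) = 2 := by
  unfold NS
  rw [Finset.mem_filter]
  exact ⟨fun h => h.2, fun h => ⟨Finset.mem_univ _, h⟩⟩

theorem sum_NS : ∑ g : G, (NS g).card = (Inv G).card * (Inv G).card := by
  classical
  have h1 : ∀ g : G, (NS g).card = ∑ s ∈ Inv G, if orderOf (s * g) = 2 then 1 else 0 := by
    intro g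
    rw [← Finset.card_filter]
    congr 1
    ext s
    rw [mem_NS]
    simp [Inv]
  rw [Finset.sum_congr rfl (fun g _ => h1 g), Finset.sum_comm]
  have h2 : ∀ s ∈ Inv G, (∑ g : G, if orderOf (s * g) = 2 then 1 else 0) = (Inv G).card := by
    intro s _
    have h3 : (∑ g : G, if orderOf (s * g) = 2 then 1 else 0) =
        ∑ g : G, if orderOf g = 2 then 1 else 0 :=
      Fintype.sum_equiv (Equiv.mulLeft s) _ _ (fun g => rfl)
    rw [h3, ← Finset.card_filter]
    rfl
  rw [Finset.sum_congr rfl h2, Finset.sum_const, smul_eq_mul]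

theorem NS_inv {g s : G} (h : s ∈ NS g) : s * g * s⁻¹ = g⁻¹ := by
  rw [mem_NS] at h
  have h1 : s * s = 1 := by
    have := pow_orderOf_eq_one s
    rwa [h.1, pow_two] at this
  have h2 : (s * g) * (s * g) = 1 := by
    have := pow_orderOf_eq_one (s * g)
    rwa [h.2, pow_two] at this
  have h3 : s⁻¹ = s := inv_eq_of_mul_eq_one_right h1
  rw [h3]
  apply eq_inv_of_mul_eq_one_left
  rw [← h2]
  group

/-- the number of such involutions is at most the order of the centralizer. -/
theorem NS_card_le (g : G) : (NS g).card ≤ Nat.card (centralizer ({g} : Set G)) := by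
  classical
  rcases Finset.eq_empty_or_nonempty (NS g) with h | ⟨s₀, hs₀⟩
  · rw [h, Finset.card_empty]
    exact Nat.zero_le _
  · rw [Nat.card_eq_fintype_card, Fintype.card_subtype]
    refine Finset.card_le_card_of_injOn (fun s => s₀⁻¹ * s) ?_ ?_
    · intro s hs
      have hs' : s ∈ NS g := hs
      have h1 := NS_inv hs'
      have h2 := NS_inv hs₀
      rw [Finset.mem_coe, Finset.mem_filter]
      refine ⟨Finset.mem_univ _, ?_⟩
      rw [Subgroup.mem_centralizer_iff]
      intro y hy
      rw [Set.mem_singleton_iff.mp hy]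
      have h3 : s * g = g⁻¹ * s := by rw [← h1]; group
      have h4 : g * s₀⁻¹ = s₀⁻¹ * g⁻¹ := by
        rw [← h2]; group
      calc g * (s₀⁻¹ * s) = (g * s₀⁻¹) * s := by group
        _ = s₀⁻¹ * (g⁻¹ * s) := by rw [h4]; group
        _ = s₀⁻¹ * s * g := by rw [← h3]; group
    · intro a _ b _ hab
      exact mul_left_cancel hab

theorem NS_conj (g h : G) : (NS (h * g * h⁻¹)).card = (NS g).card := by
  classical
  symm
  refine Finset.card_bij (fun s _ => h * s * h⁻¹) ?_ ?_ ?_
  · intro s hs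
    rw [mem_NS] at hs ⊢
    have e1 : h * s * h⁻¹ = MulAut.conj h s := by simp
    have e2 : h * s * h⁻¹ * (h * g * h⁻¹) = MulAut.conj h (s * g) := by simp
    rw [e2, e1, MulEquiv.orderOf_eq, MulEquiv.orderOf_eq]
    exact hs
  · intro a _ b _ hab
    exact mul_left_cancel (mul_right_cancel hab)
  · intro s hs
    refine ⟨h⁻¹ * s * h, ?_, by group⟩
    rw [mem_NS] at hs ⊢
    have e1 : h⁻¹ * s * h = MulAut.conj h⁻¹ s := by simp
    have e2 : h⁻¹ * s * h * g = MulAut.conj h⁻¹ (s * (h * g * h⁻¹)) := by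
      simp [mul_assoc]
    rw [e2, e1, MulEquiv.orderOf_eq, MulEquiv.orderOf_eq]
    exact hs

end Nn

section

variable {G : Type u} [Group G] [Fintype G] {p : ℕ} [hp : Fact p.Prime] {P : Subgroup G} {n : ℕ}
  (st : St p P n)

include st

theorem St.exists_tau (he2 : Even (ind P)) {E : Subgroup G} (hE : IsE P n E) :
    ∃ τ ∈ E, orderOf τ = 2 ∧ ∀ y ∈ E, y ≠ 1 → y ^ 2 = 1 → y = τ := by
  classical
  have hcyc := hE.cyc
  have hd : 2 ∣ Nat.card E := by rw [hE.card]; exact he2.two_dvd
  obtain ⟨τ, hτ⟩ := exists_prime_orderOf_dvd_card' 2 hd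
  have hτ' : orderOf (τ : G) = 2 := by rw [Subgroup.orderOf_coe]; exact hτ
  refine ⟨τ, τ.2, hτ', ?_⟩
  intro y hy hy1 hy2
  by_contra hne
  have := Fintype.ofFinite E
  have h1 := IsCyclic.card_pow_eq_one_le (α := E) (n := 2) (by norm_num)
  have h2 : ({1, τ, ⟨y, hy⟩} : Finset E) ⊆ Finset.univ.filter (fun a : E => a ^ 2 = 1) := by
    intro a ha
    rw [Finset.mem_filter]
    refine ⟨Finset.mem_univ _, ?_⟩
    rw [Finset.mem_insert, Finset.mem_insert, Finset.mem_singleton] at ha
    rcases ha with rfl | rfl | rfl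
    · exact one_pow 2
    · have := pow_orderOf_eq_one a
      rwa [hτ] at this
    · apply Subtype.ext
      rw [Subgroup.coe_pow]
      exact hy2
  have h3 := Finset.card_le_card h2
  have hτ1 : τ ≠ 1 := by
    rintro rfl
    rw [orderOf_one] at hτ
    norm_num at hτ
  have h4 : ({1, τ, ⟨y, hy⟩} : Finset E).card = 3 := by
    rw [Finset.card_insert_of_notMem, Finset.card_insert_of_notMem, Finset.card_singleton]
    · rw [Finset.mem_singleton]
      intro h
      exact hne (congrArg Subtype.val h).symm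
    · rw [Finset.mem_insert, Finset.mem_singleton, not_or]
      refine ⟨hτ1.symm, ?_⟩
      intro h
      exact hy1 (congrArg Subtype.val h).symm
  rw [h4] at h3
  have h5 : (Finset.univ.filter (fun a : E => a ^ 2 = 1)).card ≤ 2 := h1
  omega

/-- every involution is conjugate to `τ`. -/
theorem St.inv_conj (he2 : Even (ind P)) {E : Subgroup G} (hE : IsE P n E) {τ : G}
    (hτ : ∀ y ∈ E, y ≠ 1 → y ^ 2 = 1 → y = τ) {g : G} (hg : orderOf g = 2) :
    ∃ x : G, x⁻¹ * g * x = τ := by
  obtain ⟨hδ, hY, hf⟩ := st.even_case he2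
  have hp3 := st.hp3
  have hconj : ∀ x : G, orderOf (x⁻¹ * g * x) = orderOf g := by
    intro x
    have : x⁻¹ * g * x = MulAut.conj x⁻¹ g := by simp
    rw [this, MulEquiv.orderOf_eq]
  rcases st.trichotomy hE g with h | h | ⟨x, hx, hx1⟩ | h
  · rw [h, orderOf_one] at hg
    norm_num at hg
  · omega
  · refine ⟨x, hτ _ hx hx1 ?_⟩
    have := pow_orderOf_eq_one (x⁻¹ * g * x)
    rwa [hconj, hg] at this
  · exfalso
    obtain ⟨ψ, hψ⟩ := st.B.Y_nonempty (by omega)
    have h1 := st.centralizer_dvd hδ hψ h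
    have h2 : 2 ∣ Nat.card (centralizer ({g} : Set G)) := by
      have hgc : g ∈ centralizer ({g} : Set G) := by
        rw [Subgroup.mem_centralizer_iff]
        intro y hy
        rw [Set.mem_singleton_iff.mp hy]
      have := orderOf_dvd_natCard (⟨g, hgc⟩ : centralizer ({g} : Set G))
      rwa [Subgroup.orderOf_mk, hg] at this
    have h3 := h2.trans h1
    have h4 := hf ψ hψ
    have h5 : Odd p := hp.out.odd_of_ne_two (by omega)
    obtain ⟨a, ha⟩ := h3
    obtain ⟨b, hb⟩ := he2
    obtain ⟨c, hc⟩ := h5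
    omega

theorem St.centralizer_tau {E : Subgroup G} (hE : IsE P n E) {τ : G} (hτE : τ ∈ E)
    (hτ2 : orderOf τ = 2) (hτ : ∀ y ∈ E, y ≠ 1 → y ^ 2 = 1 → y = τ) :
    centralizer ({τ} : Set G) = normalizer (E : Set G) := by
  have hτ1 : τ ≠ 1 := by
    rintro rfl
    rw [orderOf_one] at hτ2
    norm_num at hτ2
  ext c
  rw [← hE.ti τ hτE hτ1]
  constructor
  · intro hc
    have h1 := Subgroup.mem_centralizer_iff.mp hc τ (Set.mem_singleton τ)
    rw [mul_assoc, h1, inv_mul_cancel_left]
    exact hτE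
  · intro hc
    have h2 : orderOf (c⁻¹ * τ * c) = 2 := by
      have : c⁻¹ * τ * c = MulAut.conj c⁻¹ τ := by simp
      rw [this, MulEquiv.orderOf_eq, hτ2]
    have h1 : c⁻¹ * τ * c = τ := by
      apply hτ _ hc
      · intro h
        rw [h, orderOf_one] at h2
        norm_num at h2
      · rw [← h2, pow_orderOf_eq_one]
    rw [Subgroup.mem_centralizer_iff]
    intro y hy
    rw [Set.mem_singleton_iff.mp hy]
    calc τ * c = c * (c⁻¹ * τ * c) := by group
      _ = c * τ := by rw [h1]

theorem St.card_Inv (he2 : Even (ind P)) {E : Subgroup G} (hE : IsE P n E) {τ : G} (hτE : τ ∈ E)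
    (hτ2 : orderOf τ = 2) (hτ : ∀ y ∈ E, y ≠ 1 → y ^ 2 = 1 → y = τ) :
    (Inv G).card * Nat.card (normalizer (E : Set G)) = Nat.card G := by
  classical
  have h1 : Inv G = Finset.univ.filter (fun x : G => IsConj τ x) := by
    ext g
    unfold Inv
    rw [Finset.mem_filter, Finset.mem_filter]
    constructor
    · rintro ⟨-, hg⟩
      obtain ⟨x, hx⟩ := st.inv_conj he2 hE hτ hg
      refine ⟨Finset.mem_univ _, isConj_iff.mpr ⟨x, ?_⟩⟩
      rw [← hx]; group
    · rintro ⟨-, hg⟩
      obtain ⟨x, hx⟩ := isConj_iff.mp hg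
      refine ⟨Finset.mem_univ _, ?_⟩
      have : g = MulAut.conj x τ := by rw [← hx]; simp
      rw [this, MulEquiv.orderOf_eq, hτ2]
  rw [h1, CharBase.card_filter_isConj, ← st.centralizer_tau hE hτE hτ2 hτ, Subgroup.index_mul_card]

/-- the involutions counted at `τ` lie in `N(E) ∖ E`. -/
theorem St.NS_tau_subset {E : Subgroup G} (hE : IsE P n E) {τ : G} (hτE : τ ∈ E)
    (hτ2 : orderOf τ = 2) (hτ : ∀ y ∈ E, y ≠ 1 → y ^ 2 = 1 → y = τ) [DecidableEq G]
    [DecidablePred (· ∈ normalizer (E : Set G))] [DecidablePred (· ∈ E)] :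
    NS τ ⊆ (Finset.univ.filter (fun s : G => s ∈ normalizer (E : Set G))) \
      (Finset.univ.filter (fun s : G => s ∈ E)) := by
  intro s hs
  have h1 := NS_inv hs
  have hττ : τ⁻¹ = τ := by
    apply inv_eq_of_mul_eq_one_right
    have := pow_orderOf_eq_one τ
    rwa [hτ2, pow_two] at this
  rw [Finset.mem_sdiff, Finset.mem_filter, Finset.mem_filter]
  refine ⟨⟨Finset.mem_univ _, ?_⟩, ?_⟩
  · rw [← st.centralizer_tau hE hτE hτ2 hτ, Subgroup.mem_centralizer_iff]
    intro y hy
    rw [Set.mem_singleton_iff.mp hy]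
    rw [hττ] at h1
    calc τ * s = (s * τ * s⁻¹) * s := by rw [h1]
      _ = s * τ := by group
  · rintro ⟨-, hsE⟩
    rw [mem_NS] at hs
    have h2 : s = τ := by
      apply hτ s hsE
      · intro h
        rw [h, orderOf_one] at hs
        norm_num at hs
      · have := pow_orderOf_eq_one s
        rwa [hs.1] at this
    rw [h2] at hs
    have h3 : τ * τ = 1 := by
      have := pow_orderOf_eq_one τ
      rwa [hτ2, pow_two] at this
    rw [h3, orderOf_one] at hs
    norm_num at hs

end

end Cfsg.Agent.BR
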