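import Cfsg.Agent.BR.Count

/-!
The norm of the induced characters (Mackey's formula by hand), `e` even: `δ₀ = 1`, `t = n + 1`.
-/

set_option autoImplicit false

open scoped ComplexConjugate

namespace Cfsg.Agent.BR

open Cfsg Subgroup
open Cfsg.Agent.CharBase (oneIrr)

universe u

section

variable {G : Type u} [Group G] [Fintype G] {p : ℕ} [hp : Fact p.Prime] {P : Subgroup G} {n : ℕ}
  (st : St p P n)

/-- the contribution of `x` to the norm. -/
noncomputable def St.T (st : St p P n) (j : ℕ) [Fintype (normalizer (P : Set G))] (x : G) : ℂ :=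
  ∑ y : normalizer (P : Set G), lam st.ρ j y *
    conj (extendByZero (normalizer (P : Set G)) (lam st.ρ j) (x⁻¹ * (y : G) * x))

theorem St.norm_eq (j : ℕ) [Fintype (normalizer (P : Set G))] :
    (Nat.card (normalizer (P : Set G)) : ℂ) ^ 2 * classInner (Phi st.ρ j) (Phi st.ρ j) =
      ∑ x : G, st.T j x := by
  have hN0 : (Nat.card (normalizer (P : Set G)) : ℂ) ≠ 0 := by exact_mod_cast Nat.card_pos.ne'
  rw [Phi_inner st.ρ j (Phi_isClass st.ρ j)]
  unfold St.T
  rw [Finset.sum_comm]
  have h1 : ∀ y : normalizer (P : Set G), conj (Phi st.ρ j y) =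
      (Nat.card (normalizer (P : Set G)) : ℂ)⁻¹ * ∑ x : G,
        conj (extendByZero (normalizer (P : Set G)) (lam st.ρ j) (x⁻¹ * (y : G) * x)) := by
    intro y
    unfold Phi indFun
    rw [map_mul, map_sum, map_inv₀, Complex.conj_natCast]
  simp_rw [h1]
  have h2 : ∀ y : normalizer (P : Set G), lam st.ρ j y *
      ((Nat.card (normalizer (P : Set G)) : ℂ)⁻¹ * ∑ x : G,
        conj (extendByZero (normalizer (P : Set G)) (lam st.ρ j) (x⁻¹ * (y : G) * x))) =
      (Nat.card (normalizer (P : Set G)) : ℂ)⁻¹ * ∑ x : G, lam st.ρ j y *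
        conj (extendByZero (normalizer (P : Set G)) (lam st.ρ j) (x⁻¹ * (y : G) * x)) := by
    intro y
    rw [← Finset.mul_sum]
    ring
  rw [Finset.sum_congr rfl (fun y _ => h2 y), ← Finset.mul_sum]
  field_simp

theorem lam_conj_mul (ρ : normalizer (P : Set G) →* ℂˣ) (j : ℕ) (y : normalizer (P : Set G)) :
    lam ρ j y * conj (lam ρ j y) = 1 :=
  Char.linChar_mul_conj (lam_isChar ρ j) (by rw [lam_apply, map_one]; simp) y

theorem St.T_mem (j : ℕ) [Fintype (normalizer (P : Set G))] {x : G}
    (hx : x ∈ normalizer (P : Set G)) : st.T j x = Nat.card (normalizer (P : Set G)) := by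
  unfold St.T
  rw [Finset.sum_congr rfl (g := fun _ => (1 : ℂ))]
  · rw [Finset.sum_const, Finset.card_univ, ← Nat.card_eq_fintype_card, nsmul_eq_mul, mul_one]
  · intro y _
    have h1 : x⁻¹ * (y : G) * x ∈ normalizer (P : Set G) :=
      Subgroup.mul_mem _ (Subgroup.mul_mem _ (Subgroup.inv_mem _ hx) y.2) hx
    rw [Char.extendByZero_of_mem _ _ h1]
    have h2 : (⟨x⁻¹ * (y : G) * x, h1⟩ : normalizer (P : Set G)) = ⟨x, hx⟩⁻¹ * y * ⟨x, hx⟩ := rfl
    have h3 : lam st.ρ j ⟨x⁻¹ * (y : G) * x, h1⟩ = lam st.ρ j y := by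
      rw [h2, lam_apply, lam_apply]
      congr 2
      rw [map_mul, map_mul, map_inv, mul_comm, ← mul_assoc, mul_inv_cancel, one_mul]
    rw [h3, lam_conj_mul]

/-- the contributions are natural numbers, and equal to `|H_x|` when the two linear characters
agree. -/
theorem St.T_nat (j : ℕ) [Fintype (normalizer (P : Set G))] (x : G) :
    (∃ m : ℕ, st.T j x = m) ∧
    ((∀ y : G, ∀ h : y ∈ normalizer (P : Set G), ∀ h' : x⁻¹ * y * x ∈ normalizer (P : Set G),
      lam st.ρ j ⟨y, h⟩ = lam st.ρ j ⟨x⁻¹ * y * x, h'⟩) → st.T j x = Nat.card (Hx P x)) := by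
  classical
  have := Fintype.ofFinite (Hx P x)
  -- the linear character of `H_x`
  set κ : Hx P x → ℂ := fun y => lam st.ρ j ⟨y, y.2.1⟩ * conj (lam st.ρ j ⟨x⁻¹ * y * x, y.2.2⟩)
    with hκ
  have hκmul : ∀ a b : Hx P x, κ (a * b) = κ a * κ b := by
    intro a b
    rw [hκ]
    have e1 : (⟨(a * b : Hx P x), (a * b : Hx P x).2.1⟩ : normalizer (P : Set G)) =
      ⟨a, a.2.1⟩ * ⟨b, b.2.1⟩ := rfl
    have e2 : (⟨x⁻¹ * ((a * b : Hx P x) : G) * x, (a * b : Hx P x).2.2⟩ :
        normalizer (P : Set G)) = ⟨x⁻¹ * a * x, a.2.2⟩ * ⟨x⁻¹ * b * x, b.2.2⟩ := by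
      apply Subtype.ext
      change x⁻¹ * ((a : G) * b) * x = x⁻¹ * a * x * (x⁻¹ * b * x)
      group
    change lam st.ρ j ⟨(a * b : Hx P x), _⟩ * conj (lam st.ρ j ⟨x⁻¹ * ((a * b : Hx P x) : G) * x, _⟩) =
      _
    rw [e1, e2, lam_mul, lam_mul, map_mul]
    ring
  have hT : st.T j x = ∑ y : Hx P x, κ y := by
    unfold St.T
    have h1 : ∑ y : normalizer (P : Set G), lam st.ρ j y *
        conj (extendByZero (normalizer (P : Set G)) (lam st.ρ j) (x⁻¹ * (y : G) * x)) =
        ∑ y ∈ Finset.univ.filter (fun y : normalizer (P : Set G) =>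
          x⁻¹ * (y : G) * x ∈ normalizer (P : Set G)), lam st.ρ j y *
        conj (extendByZero (normalizer (P : Set G)) (lam st.ρ j) (x⁻¹ * (y : G) * x)) := by
      rw [Finset.sum_filter]
      refine Finset.sum_congr rfl fun y _ => ?_
      split_ifs with h
      · rfl
      · rw [Char.extendByZero_of_notMem _ _ h, map_zero, mul_zero]
    rw [h1]
    refine (Finset.sum_bij (fun (y : Hx P x) _ =>
      (⟨y, y.2.1⟩ : normalizer (P : Set G))) ?_ ?_ ?_ ?_).symm
    · intro y _
      rw [Finset.mem_filter]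
      exact ⟨Finset.mem_univ _, y.2.2⟩
    · intro a _ b _ hab
      exact Subtype.ext (congrArg (fun z : normalizer (P : Set G) => (z : G)) hab)
    · intro y hy
      rw [Finset.mem_filter] at hy
      exact ⟨⟨y, y.2, hy.2⟩, Finset.mem_univ _, rfl⟩
    · intro y _
      rw [hκ]
      change _ = lam st.ρ j ⟨y, y.2.1⟩ *
        conj (extendByZero (normalizer (P : Set G)) (lam st.ρ j) (x⁻¹ * (y : G) * x))
      rw [Char.extendByZero_of_mem _ _ y.2.2]
  have hall : (∀ y : Hx P x, κ y = 1) → st.T j x = Nat.card (Hx P x) := by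
    intro h
    rw [hT, Finset.sum_congr rfl (fun y _ => h y), Finset.sum_const, Finset.card_univ,
      ← Nat.card_eq_fintype_card, nsmul_eq_mul, mul_one]
  constructor
  · by_cases h : ∀ y : Hx P x, κ y = 1
    · exact ⟨_, hall h⟩
    · push Not at h
      obtain ⟨z, hz⟩ := h
      refine ⟨0, ?_⟩
      rw [hT, Nat.cast_zero]
      have h1 : ∑ y : Hx P x, κ y = κ z * ∑ y : Hx P x, κ y := by
        rw [Finset.mul_sum]
        refine (Fintype.sum_equiv (Equiv.mulLeft z) _ _ ?_).symm
        intro y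
        simp only [Equiv.coe_mulLeft]
        rw [hκmul]
      have h2 : (κ z - 1) * ∑ y : Hx P x, κ y = 0 := by
        rw [sub_mul, one_mul, ← h1, sub_self]
      exact (mul_eq_zero.mp h2).resolve_left (sub_ne_zero.mpr hz)
  · intro h
    apply hall
    intro y
    rw [hκ]
    change lam st.ρ j ⟨y, y.2.1⟩ * conj (lam st.ρ j ⟨x⁻¹ * y * x, y.2.2⟩) = 1
    rw [← h y y.2.1 y.2.2, lam_conj_mul]

include st

/-- if the induced character is irreducible, then the contributions outside `N` vanish. -/
theorem St.T_zero {j : ℕ} [Fintype (normalizer (P : Set G))] {χ : IrrCharacter G}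
    (hχ : Phi st.ρ j = (χ : G → ℂ)) {x : G} (hx : x ∉ normalizer (P : Set G)) : st.T j x = 0 := by
  classical
  have h1 := st.norm_eq j
  rw [hχ, CharBase.classInner_irr_self, mul_one] at h1
  choose m hm using fun x => (st.T_nat j x).1
  have h2 : ∑ x : G, m x = Nat.card (normalizer (P : Set G)) ^ 2 := by
    rw [Finset.sum_congr rfl (fun x _ => hm x)] at h1
    exact_mod_cast h1.symm
  have hcN : (Finset.univ.filter (fun y : G => y ∈ normalizer (P : Set G))).card =
      Nat.card (normalizer (P : Set G)) := by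
    rw [Nat.card_eq_fintype_card, Fintype.card_subtype]
  rw [← Finset.sum_filter_add_sum_filter_not Finset.univ
    (fun y : G => y ∈ normalizer (P : Set G))] at h2
  have h3 : ∀ y ∈ Finset.univ.filter (fun y : G => y ∈ normalizer (P : Set G)),
      m y = Nat.card (normalizer (P : Set G)) := by
    intro y hy
    have h4 := st.T_mem j (Finset.mem_filter.mp hy).2
    rw [hm] at h4
    exact_mod_cast h4
  rw [Finset.sum_congr rfl h3, Finset.sum_const, smul_eq_mul, hcN] at h2
  have h5 : ∑ y ∈ Finset.univ.filter (fun y : G => y ∉ normalizer (P : Set G)), m y = 0 := by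
    have : Nat.card (normalizer (P : Set G)) * Nat.card (normalizer (P : Set G)) =
      Nat.card (normalizer (P : Set G)) ^ 2 := by ring
    omega
  have h6 := (Finset.sum_eq_zero_iff.mp h5) x (Finset.mem_filter.mpr ⟨Finset.mem_univ _, hx⟩)
  rw [hm, h6, Nat.cast_zero]

/-- the norm when all contributions are maximal. -/
theorem St.norm_of_max {j : ℕ} [Fintype (normalizer (P : Set G))]
    (h : ∀ x : G, x ∉ normalizer (P : Set G) → st.T j x = ind P) :
    classInner (Phi st.ρ j) (Phi st.ρ j) = (n : ℂ) + 1 := by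
  classical
  have h1 := st.norm_eq j
  have hN0 : (Nat.card (normalizer (P : Set G)) : ℂ) ≠ 0 := by exact_mod_cast Nat.card_pos.ne'
  have hcN : ((Finset.univ.filter (fun y : G => y ∈ normalizer (P : Set G))).card : ℂ) =
      Nat.card (normalizer (P : Set G)) := by
    rw [Nat.card_eq_fintype_card, Fintype.card_subtype]
  have hcN' : (Finset.univ.filter (fun y : G => y ∉ normalizer (P : Set G))).card =
      Nat.card (normalizer (P : Set G)) * (n * p) := by
    have h3 := Finset.card_filter_add_card_filter_not (s := (Finset.univ : Finset G))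
      (p := fun y : G => y ∈ normalizer (P : Set G))
    have hcN'' : (Finset.univ.filter (fun y : G => y ∈ normalizer (P : Set G))).card =
      Nat.card (normalizer (P : Set G)) := by exact_mod_cast hcN
    rw [hcN'', Finset.card_univ, ← Nat.card_eq_fintype_card, st.card_G', ← st.card_N'] at h3
    have h4 : Nat.card (normalizer (P : Set G)) * (1 + n * p) =
      Nat.card (normalizer (P : Set G)) + Nat.card (normalizer (P : Set G)) * (n * p) := by ring
    omega
  rw [← Finset.sum_filter_add_sum_filter_not Finset.univ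
    (fun y : G => y ∈ normalizer (P : Set G)),
    Finset.sum_congr rfl (fun x hx => st.T_mem j (Finset.mem_filter.mp hx).2),
    Finset.sum_congr (s₁ := Finset.univ.filter (fun y : G => y ∉ normalizer (P : Set G))) rfl
      (fun x hx => h x (Finset.mem_filter.mp hx).2), Finset.sum_const, Finset.sum_const,
    nsmul_eq_mul, nsmul_eq_mul, hcN, hcN'] at h1
  apply mul_left_cancel₀ (pow_ne_zero 2 hN0)
  rw [h1]
  have h5 : (Nat.card (normalizer (P : Set G)) : ℂ) = p * ind P := by
    rw [st.card_N']; push_cast; ring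
  push_cast
  rw [h5]
  ring

/-- `ρ` of a generator of a complement is a primitive `e`-th root of unity. -/
theorem St.half_pow (he2 : Even (ind P)) {u : ℂˣ} (hu : orderOf u = ind P) :
    (u : ℂ) ^ (ind P / 2) = -1 := by
  obtain ⟨k, hk⟩ := he2
  have he := st.he
  have hk' : ind P / 2 = k := by omega
  rw [hk']
  have h1 : ((u : ℂ) ^ k) ^ 2 = 1 := by
    rw [← pow_mul, ← Units.val_pow_eq_pow_val]
    have : k * 2 = orderOf u := by rw [hu, hk]; ring
    rw [this, pow_orderOf_eq_one, Units.val_one]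
  rw [sq] at h1
  rcases mul_self_eq_one_iff.mp h1 with h | h
  · exfalso
    have h2 : u ^ k = 1 := by
      apply Units.ext
      rw [Units.val_pow_eq_pow_val, h, Units.val_one]
    have h3 := orderOf_dvd_of_pow_eq_one h2
    rw [hu, hk] at h3
    have := Nat.le_of_dvd (by omega) h3
    omega
  · exact h

end

end Cfsg.Agent.BR
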