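import Cfsg.Agent.BR.Ineq
import Cfsg.Agent.BR.Det

/-!
The case of odd inertial index: `δ₀ = 1` is impossible.
-/

set_option autoImplicit false

open scoped ComplexConjugate

namespace Cfsg.Agent.BR

open Cfsg Subgroup
open Cfsg.Agent.CharBase (oneIrr)

universe u

section

variable {G : Type u} [Group G] [Fintype G] {p : ℕ} [hp : Fact p.Prime] {P : Subgroup G} {n : ℕ}
  (st : St p P n)

include st

theorem St.not_isConj_inv (he2 : Odd (ind P)) {π : G} (hπ : π ∈ P) (hπ1 : π ≠ 1) :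
    ¬ IsConj π π⁻¹ := by
  intro h
  obtain ⟨g, hg⟩ := isConj_iff.mp h
  have hgN : g ∈ normalizer (P : Set G) := by
    rw [← inv_mem_iff, ← st.hP.conj_iff hπ hπ1, inv_inv, hg]
    exact P.inv_mem hπ
  -- `g²` commutes with `π`
  have h2 : π * (g * g) = (g * g) * π := by
    have h3 : g * π = π⁻¹ * g := by rw [← hg]; group
    have h4 : g * π⁻¹ = π * g := by
      have : g * π⁻¹ * g⁻¹ = π := by
        have h5 : g * π⁻¹ * g⁻¹ = (g * π * g⁻¹)⁻¹ := by group
        rw [h5, hg, inv_inv]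
      calc g * π⁻¹ = g * π⁻¹ * g⁻¹ * g := by group
        _ = π * g := by rw [this]
    calc π * (g * g) = (π * g) * g := by group
      _ = g * (π⁻¹ * g) := by rw [← h4]; group
      _ = (g * g) * π := by rw [← h3]; group
  have h3 : g * g ∈ P := mem_P_of_comm st.hP st.hC hπ hπ1 h2
  have h4 : st.ρ ⟨g, hgN⟩ ^ 2 = 1 := by
    rw [sq, ← map_mul]
    exact (st.hρ _).mpr h3
  have h5 := st.rho_pow ⟨g, hgN⟩
  have h6 : orderOf (st.ρ ⟨g, hgN⟩) ∣ Nat.gcd 2 (ind P) :=
    Nat.dvd_gcd (orderOf_dvd_of_pow_eq_one h4) (orderOf_dvd_of_pow_eq_one h5)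
  have h7 : Nat.gcd 2 (ind P) = 1 := Nat.coprime_two_left.mpr he2
  rw [h7, Nat.dvd_one, orderOf_eq_one_iff] at h6
  have hgP : g ∈ P := (st.hρ _).mp h6
  have hPc : ∀ a ∈ P, ∀ b ∈ P, a * b = b * a := by
    intro a ha b hb
    have h1 : a ∈ centralizer (P : Set G) := by rw [st.hC]; exact ha
    exact (Subgroup.mem_centralizer_iff.mp h1 b hb).symm
  rw [hPc g hgP π hπ, mul_inv_cancel_right] at hg
  have h8 : π ^ 2 = 1 := by
    rw [sq]
    nth_rewrite 2 [hg]
    exact mul_inv_cancel π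
  have h9 := orderOf_dvd_of_pow_eq_one h8
  rw [st.hP.orderOf_eq hπ hπ1] at h9
  have := Nat.le_of_dvd (by norm_num) h9
  have := st.hp3
  omega

/-- the product of two involutions is not a nontrivial element of `P`. -/
theorem St.no_inv_prod (he2 : Odd (ind P)) {s t π : G} (hs : s * s = 1) (ht : t * t = 1)
    (hπ : π ∈ P) (hπ1 : π ≠ 1) (h : s * t = π) : False := by
  apply st.not_isConj_inv he2 hπ hπ1
  rw [isConj_iff]
  refine ⟨s, ?_⟩
  have hs' : s⁻¹ = s := inv_eq_of_mul_eq_one_right hs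
  have ht' : t⁻¹ = t := inv_eq_of_mul_eq_one_right ht
  rw [← h, mul_inv_rev, ht', hs']
  calc s * (s * t) * s = (s * s) * (t * s) := by group
    _ = t * s := by rw [hs, one_mul]

theorem St.sum_Y_pi {π : G} (hπ : π ∈ P) (hπ1 : π ≠ 1) :
    ∑ ξ ∈ st.B.Y, (ξ : G → ℂ) π = st.B.δ₀ := by
  classical
  have := Fintype.ofFinite (IrrCharacter G)
  obtain ⟨ψ, hψ⟩ := st.B.Y_nonempty (by have := st.hp3; omega)
  have h1 := CharBase.sum_degree_mul (G := G) π
  rw [if_neg hπ1] at h1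
  have h0 : ∑ χ : IrrCharacter G, (χ : G → ℂ) 1 * (χ : G → ℂ) π =
      ∑ χ ∈ st.B.X ∪ st.B.Y, (χ : G → ℂ) 1 * (χ : G → ℂ) π := by
    symm
    refine Finset.sum_subset (Finset.subset_univ _) fun χ _ hχ => ?_
    rw [Finset.mem_union, not_or] at hχ
    rw [st.B.out st.hC χ hχ.1 hχ.2 π hπ hπ1, mul_zero]
  rw [h0, Finset.sum_union st.B.disj,
    Finset.sum_congr rfl (fun χ hχ => by rw [st.B.val_one hχ hπ hπ1, dg_eq]),
    Finset.sum_congr (s₁ := st.B.Y) rfl (fun ξ hξ => by rw [dg_eq, st.B.dg_Y hξ hψ]),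
    ← Finset.mul_sum] at h1
  have h2 := st.B.degEq hψ
  have h3 : ∑ χ ∈ st.B.X, (dg χ : ℂ) * (st.B.δ χ : ℂ) + (st.B.δ₀ : ℂ) * (dg ψ : ℂ) = 0 := by
    have h4 : ((∑ χ ∈ st.B.X, st.B.δ χ * (dg χ : ℤ) + st.B.δ₀ * (dg ψ : ℤ) : ℤ) : ℂ) = 0 := by
      rw [h2]; simp
    push_cast at h4
    rw [← h4]
    congr 1
    exact Finset.sum_congr rfl fun χ _ => by ring
  have h4 : (dg ψ : ℂ) * (∑ ξ ∈ st.B.Y, (ξ : G → ℂ) π) = (dg ψ : ℂ) * st.B.δ₀ := by
    linear_combination h1 - h3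
  have h5 : (dg ψ : ℂ) ≠ 0 := by exact_mod_cast (dg_pos ψ).ne'
  exact mul_left_cancel₀ h5 h4

theorem St.sum_Y_conj {π : G} (hπ : π ∈ P) (hπ1 : π ≠ 1) :
    ∑ ξ ∈ st.B.Y, (ξ : G → ℂ) π * conj ((ξ : G → ℂ) π) = (p : ℂ) - ind P := by
  classical
  have := Fintype.ofFinite (IrrCharacter G)
  have h1 := CharBase.column_orthogonality_of_isConj (G := G) (IsConj.refl π)
  rw [st.hP.centralizer_eq hπ hπ1, st.hC, st.hP.card] at h1
  have h0 : ∑ χ : IrrCharacter G, (χ : G → ℂ) π * conj ((χ : G → ℂ) π) =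
      ∑ χ ∈ st.B.X ∪ st.B.Y, (χ : G → ℂ) π * conj ((χ : G → ℂ) π) := by
    symm
    refine Finset.sum_subset (Finset.subset_univ _) fun χ _ hχ => ?_
    rw [Finset.mem_union, not_or] at hχ
    rw [st.B.out st.hC χ hχ.1 hχ.2 π hπ hπ1, zero_mul]
  rw [h0, Finset.sum_union st.B.disj] at h1
  have h2 : ∑ χ ∈ st.B.X, (χ : G → ℂ) π * conj ((χ : G → ℂ) π) = ind P := by
    rw [Finset.sum_congr rfl (g := fun _ => (1 : ℂ))]
    · rw [Finset.sum_const, st.B.cardX, nsmul_eq_mul, mul_one]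
    · intro χ hχ
      rw [st.B.val_one hχ hπ hπ1, map_intCast]
      rcases st.B.sgn χ hχ with h | h <;> rw [h] <;> norm_num
  rw [h2] at h1
  linear_combination h1

theorem St.sum_Y_sq (he2 : Odd (ind P)) {π : G} (hπ : π ∈ P) (hπ1 : π ≠ 1) :
    ∑ ξ ∈ st.B.Y, (ξ : G → ℂ) π * (ξ : G → ℂ) π = -(ind P : ℂ) := by
  classical
  have := Fintype.ofFinite (IrrCharacter G)
  have h1 := CharBase.column_orthogonality_of_not_isConj (G := G) (st.not_isConj_inv he2 hπ hπ1)
  have hinv : ∀ χ : IrrCharacter G, conj ((χ : G → ℂ) π⁻¹) = (χ : G → ℂ) π := by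
    intro χ
    rw [CharBase.irr_inv, Complex.conj_conj]
  rw [Finset.sum_congr rfl (fun χ _ => by rw [hinv χ])] at h1
  have h0 : ∑ χ : IrrCharacter G, (χ : G → ℂ) π * (χ : G → ℂ) π =
      ∑ χ ∈ st.B.X ∪ st.B.Y, (χ : G → ℂ) π * (χ : G → ℂ) π := by
    symm
    refine Finset.sum_subset (Finset.subset_univ _) fun χ _ hχ => ?_
    rw [Finset.mem_union, not_or] at hχ
    rw [st.B.out st.hC χ hχ.1 hχ.2 π hπ hπ1, zero_mul]
  rw [h0, Finset.sum_union st.B.disj] at h1
  have h2 : ∑ χ ∈ st.B.X, (χ : G → ℂ) π * (χ : G → ℂ) π = ind P := by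
    rw [Finset.sum_congr rfl (g := fun _ => (1 : ℂ))]
    · rw [Finset.sum_const, st.B.cardX, nsmul_eq_mul, mul_one]
    · intro χ hχ
      rw [st.B.val_one hχ hπ hπ1]
      rcases st.B.sgn χ hχ with h | h <;> rw [h] <;> norm_num
  rw [h2] at h1
  linear_combination h1

/-- for `e` odd, `t` is even. -/
theorem St.even_t (he2 : Odd (ind P)) : Even st.B.Y.card := by
  have h1 := st.B.cardY
  have hp3 := st.hp3
  have h2 : Odd p := hp.out.odd_of_ne_two (by omega)
  have h3 : Even (st.B.Y.card * ind P) := by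
    rw [h1]
    obtain ⟨k, hk⟩ := h2
    exact ⟨k, by omega⟩
  rcases Nat.even_mul.mp h3 with h | h
  · exact h
  · exact absurd h (Nat.not_even_iff_odd.mpr he2)

theorem St.two_le_t (he2 : Odd (ind P)) : 2 ≤ st.B.Y.card := by
  have h1 := st.even_t he2
  have h2 := Finset.card_pos.mpr (st.B.Y_nonempty (by have := st.hp3; omega))
  obtain ⟨k, hk⟩ := h1
  omega

theorem St.Phi_conj {j : ℕ} (hj : j ≤ ind P) (g : G) :
    Phi st.ρ (ind P - j) g = conj (Phi st.ρ j g) := by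
  unfold Phi
  rw [← Char.indFun_conjC]
  congr 1
  funext y
  have h1 : conj (lam st.ρ j y) = (lam st.ρ j y)⁻¹ := by
    have h2 := lam_conj_mul st.ρ j y
    exact eq_inv_of_mul_eq_one_right h2
  rw [h1]
  have h2 : lam st.ρ (ind P - j) y * lam st.ρ j y = 1 := by
    rw [lam_apply, lam_apply, ← pow_add, Nat.sub_add_cancel hj, ← Units.val_pow_eq_pow_val,
      st.rho_pow, Units.val_one]
  exact eq_inv_of_mul_eq_one_left h2

theorem St.norm_Y : classInner (∑ ψ ∈ st.B.Y, (ψ : G → ℂ)) (∑ ψ ∈ st.B.Y, (ψ : G → ℂ)) =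
    (st.B.Y.card : ℂ) := by
  classical
  rw [CharBase.classInner_sum_left, Finset.sum_congr rfl (g := fun _ => (1 : ℂ))]
  · rw [Finset.sum_const, nsmul_eq_mul, mul_one]
  · intro ψ hψ
    rw [CharBase.classInner_sum_right]
    simp only [CharBase.classInner_irr]
    rw [Finset.sum_ite_eq st.B.Y ψ, if_pos hψ]

theorem St.mult_symm (he2 : Odd (ind P)) {ψ : IrrCharacter G} (hψ : ψ ∈ st.B.Y) {j : ℕ}
    (hj0 : j ≠ 0) (hj : j < ind P) :
    classInner (Phi st.ρ (ind P - j)) (ψ : G → ℂ) = classInner (Phi st.ρ j) (ψ : G → ℂ) := by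
  classical
  have h1 : ¬ ind P ∣ j := not_dvd_of_lt st (Finset.mem_range.mpr hj) hj0
  have h2 : ¬ ind P ∣ ind P - j :=
    not_dvd_of_lt st (Finset.mem_range.mpr (by omega)) (by omega)
  have ht := st.two_le_t he2
  have hnorm : classInner (Phi st.ρ (ind P - j)) (Phi st.ρ (ind P - j)) =
      classInner (Phi st.ρ j) (Phi st.ρ j) := by
    unfold classInner
    congr 1
    refine Finset.sum_congr rfl fun g _ => ?_
    rw [st.Phi_conj hj.le, Complex.conj_conj, mul_comm]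
  have hX : ∀ χ ∈ st.B.X, classInner (χ : G → ℂ) (ψ : G → ℂ) = 0 := by
    intro χ hχ
    apply CharBase.classInner_irr_of_ne
    rintro rfl
    exact Finset.disjoint_left.mp st.B.disj hχ hψ
  have hne : (1 : ℂ) ≠ (st.B.Y.card : ℂ) := by
    intro h
    have : (1 : ℕ) = st.B.Y.card := by exact_mod_cast h
    omega
  rcases st.dich h1 with ⟨χ, hχ, -, -, h⟩ | ⟨-, h⟩
  · rcases st.dich h2 with ⟨χ', hχ', -, -, h'⟩ | ⟨-, h'⟩
    · rw [h, h', hX χ hχ, hX χ' hχ']
    · exfalso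
      rw [h, h', CharBase.classInner_irr_self, st.norm_Y] at hnorm
      exact hne hnorm.symm
  · rcases st.dich h2 with ⟨χ', hχ', -, -, h'⟩ | ⟨-, h'⟩
    · exfalso
      rw [h, h', CharBase.classInner_irr_self, st.norm_Y] at hnorm
      exact hne hnorm
    · rw [h, h']

/-- **`e` odd**: `δ₀ = -1`. -/
theorem St.odd_delta (he2 : Odd (ind P)) : st.B.δ₀ = -1 := by
  classical
  rcases st.B.sgn₀ with hδ | hδ
  swap
  · exact hδ
  exfalso
  have := Fintype.ofFinite P
  have hp3 := st.hp3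
  obtain ⟨ψ, hψ⟩ := st.B.Y_nonempty (by omega)
  obtain ⟨E, hE⟩ := st.exists_E
  obtain ⟨hD, m, hm1, hm2, hm3⟩ : st.B.Y.card * dg ψ = 1 + n * p ∧ ∃ m, 1 ≤ m ∧
      dg ψ + ind P = m * p ∧ st.B.Y.card * m = n + 1 := by
    rcases st.hS.cases with ⟨-, h1, m, h2, h3, h4, -⟩ | ⟨h, -⟩
    · exact ⟨h1 ψ hψ, m, h2, h3 ψ hψ, h4⟩
    · rw [hδ] at h
      exact absurd h (by norm_num)
  -- `m` is even
  have hmeven : Even m := by
    choose c hc using fun j => CharBase.classInner_natCast (Phi_isChar st.ρ j)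
      (CharBase.irr_isCharacter ψ)
    have hs := st.sum_inner (CharBase.irr_isClassFunction ψ)
    have h2 : ∑ x : P, conj ((ψ : G → ℂ) x) = (p : ℂ) * m := by
      rw [← map_sum, st.B.sum_Y hψ, hδ]
      simp only [map_add, map_mul, Complex.conj_natCast, map_intCast]
      have h3 : ((dg ψ + ind P : ℕ) : ℂ) = ((m * p : ℕ) : ℂ) := by rw [hm2]
      push_cast at h3 ⊢
      linear_combination h3
    rw [h2] at hs
    have hp0 : (p : ℂ) ≠ 0 := by exact_mod_cast hp.out.ne_zero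
    have hs' := mul_left_cancel₀ hp0 hs
    rw [Finset.sum_congr rfl (fun j _ => hc j)] at hs'
    have hs2 : ∑ j ∈ Finset.range (ind P), c j = m := by exact_mod_cast hs'
    have hc0 : c 0 = 0 := by
      have h3 := hc 0
      rw [st.inner_zero_Y hψ] at h3
      exact_mod_cast h3.symm
    have h0m : 0 ∈ Finset.range (ind P) := Finset.mem_range.mpr (ind_pos P)
    rw [← Finset.add_sum_erase _ _ h0m, hc0, zero_add] at hs2
    have hsum : (((∑ j ∈ (Finset.range (ind P)).erase 0, c j : ℕ)) : ZMod 2) = 0 := by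
      rw [Nat.cast_sum]
      refine Finset.sum_involution (fun j _ => ind P - j) ?_ ?_ ?_ ?_
      · intro j hj
        rw [Finset.mem_erase, Finset.mem_range] at hj
        have h3 := st.mult_symm he2 hψ hj.1 hj.2
        rw [hc, hc] at h3
        have h4 : c (ind P - j) = c j := by exact_mod_cast h3
        rw [h4, ← two_mul]
        have : (2 : ZMod 2) = 0 := rfl
        rw [this, zero_mul]
      · intro j hj _ h
        rw [Finset.mem_erase, Finset.mem_range] at hj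
        obtain ⟨k, hk⟩ := he2
        omega
      · intro j hj
        rw [Finset.mem_erase, Finset.mem_range] at hj ⊢
        omega
      · intro j hj
        rw [Finset.mem_erase, Finset.mem_range] at hj
        omega
    rw [hs2] at hsum
    exact (ZMod.natCast_eq_zero_iff_even).mp hsum
  -- the group has even order
  have hDeven : Even (1 + n * p) := by
    rw [← hD]
    exact (st.even_t he2).mul_right _
  have hGeven : 2 ∣ Nat.card G := by
    rw [st.card_G']
    exact (hDeven.mul_left _).two_dvd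
  obtain ⟨z, hz⟩ := exists_prime_orderOf_dvd_card' 2 hGeven
  have hzZ : InZ P z := by
    rcases st.trichotomy hE z with h | h | ⟨x, hx, hx1⟩ | h
    · rw [h, orderOf_one] at hz
      norm_num at hz
    · omega
    · exfalso
      have h1 : orderOf (x⁻¹ * z * x) = 2 := by
        have : x⁻¹ * z * x = MulAut.conj x⁻¹ z := by simp
        rw [this, MulEquiv.orderOf_eq, hz]
      have h2 : 2 ∣ Nat.card E := by
        have := orderOf_dvd_natCard (⟨_, hx⟩ : E)
        rwa [Subgroup.orderOf_mk, h1] at this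
      rw [hE.card] at h2
      obtain ⟨k, hk⟩ := he2
      omega
    · exact h
  have h1 := st.centralizer_dvd hδ hψ hzZ
  have h2 : 2 ∣ Nat.card (centralizer ({z} : Set G)) := by
    have hgc : z ∈ centralizer ({z} : Set G) := by
      rw [Subgroup.mem_centralizer_iff]
      intro y hy
      rw [Set.mem_singleton_iff.mp hy]
    have := orderOf_dvd_natCard (⟨z, hgc⟩ : centralizer ({z} : Set G))
    rwa [Subgroup.orderOf_mk, hz] at this
  have h3 := h2.trans h1
  obtain ⟨a, ha⟩ := h3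
  obtain ⟨b, hb⟩ := he2
  obtain ⟨c, hc⟩ := hmeven
  have h4 : m * p = 2 * (c * p) := by rw [hc]; ring
  omega

end

end Cfsg.Agent.BR
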