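import Cfsg.Agent.BR.OddI

/-!
The case of odd inertial index: `t = 2` and `n = 1`.
-/

set_option autoImplicit false

open scoped ComplexConjugate

namespace Cfsg.Agent.BR

open Cfsg Subgroup
open Cfsg.Agent.CharBase (oneIrr)

universe u

theorem final_arith {a n : ℕ} (ha : 0 < a) (hn : 1 ≤ n)
    (h : 4 * (a * n) + 2 ≤ 2 * (a * (n + 1) + 1)) : n = 1 := by
  by_contra hne
  have h1 : 2 ≤ n := by omega
  have h2 : a * 2 ≤ a * n := Nat.mul_le_mul_left a h1
  have h3 : a * (n + 1) = a * n + a := by ring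
  omega

section

variable {G : Type u} [Group G] [Fintype G] {p : ℕ} [hp : Fact p.Prime] {P : Subgroup G} {n : ℕ}
  (st : St p P n)

include st

theorem St.ne_one_of_Y {ψ : IrrCharacter G} (hψ : ψ ∈ st.B.Y) : ψ ≠ oneIrr G := by
  rintro rfl
  exact Finset.disjoint_left.mp st.B.disj st.B.one_mem hψ

theorem St.sum_G_zero {ψ : IrrCharacter G} (hψ : ψ ∈ st.B.Y) : ∑ g : G, (ψ : G → ℂ) g = 0 := by
  have h1 := CharBase.classInner_irr_of_ne (st.ne_one_of_Y hψ)
  unfold classInner at h1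
  simp only [CharBase.oneIrr_apply, map_one, mul_one] at h1
  have hG0 : (Nat.card G : ℂ) ≠ 0 := by exact_mod_cast Nat.card_pos.ne'
  exact (mul_eq_zero.mp h1).resolve_left (inv_ne_zero hG0)

theorem St.sum_G_sq (ψ : IrrCharacter G) :
    ∑ g : G, (ψ : G → ℂ) g * conj ((ψ : G → ℂ) g) = Nat.card G := by
  have h1 := CharBase.classInner_irr_self ψ
  unfold classInner at h1
  have hG0 : (Nat.card G : ℂ) ≠ 0 := by exact_mod_cast Nat.card_pos.ne'
  field_simp at h1
  exact h1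

open Classical in
theorem St.sum_P_hash {ψ : IrrCharacter G} (hψ : ψ ∈ st.B.Y) :
    ∑ x ∈ Finset.univ.filter (fun x : G => x ∈ P ∧ x ≠ 1), (ψ : G → ℂ) x =
      st.B.δ₀ * ind P := by
  have := Fintype.ofFinite P
  have h1 := st.B.sum_Y hψ
  rw [sum_P_split (fun x : P => (ψ : G → ℂ) x)] at h1
  have h2 : (ψ : G → ℂ) ((1 : P) : G) = (dg ψ : ℂ) := by rw [← dg_eq]; rfl
  rw [h2] at h1
  rw [← add_left_cancel h1]
  refine Finset.sum_bij' (fun x hx => ⟨x, (Finset.mem_filter.mp hx).2.1⟩) (fun x _ => (x : G))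
    ?_ ?_ ?_ ?_ ?_
  · intro x hx
    rw [Finset.mem_erase]
    refine ⟨fun h => (Finset.mem_filter.mp hx).2.2 ?_, Finset.mem_univ _⟩
    exact congrArg Subtype.val h
  · intro x hx
    rw [Finset.mem_filter]
    refine ⟨Finset.mem_univ _, x.2, fun h => (Finset.mem_erase.mp hx).1 ?_⟩
    exact Subtype.ext h
  · intro x _; rfl
  · intro x _; rfl
  · intro x _; rfl

/-- an involution is off the conjugates of `N` when `e` is odd. -/
theorem St.inv_InZ (he2 : Odd (ind P)) {z : G} (hz : orderOf z = 2) : InZ P z := by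
  obtain ⟨E, hE⟩ := st.exists_E
  have hp3 := st.hp3
  rcases st.trichotomy hE z with h | h | ⟨x, hx, hx1⟩ | h
  · rw [h, orderOf_one] at hz
    norm_num at hz
  · omega
  · exfalso
    have h1 : orderOf (x⁻¹ * z * x) = 2 := by
      have : x⁻¹ * z * x = MulAut.conj x⁻¹ z := by simp
      rw [this, MulEquiv.orderOf_eq, hz]
    have h2 : 2 ∣ Nat.card E := by
      have := orderOf_dvd_natCard (⟨_, hx⟩ : E)
      rwa [Subgroup.orderOf_mk, h1] at this
    rw [hE.card] at h2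
    obtain ⟨k, hk⟩ := he2
    omega
  · exact h

open Classical in
/-- the relation at an involution. -/
theorem St.inv_relation (he2 : Odd (ind P)) {ψ : IrrCharacter G} (hψ : ψ ∈ st.B.Y) {z : G}
    (hz : orderOf z = 2) {w : ℤ} (hw : (ψ : G → ℂ) z = w) :
    1 - (∑ χ ∈ st.B.X.filter (fun χ => st.B.δ χ = -1), (χ : G → ℂ) z ^ 2) / ((p - 1 : ℕ) : ℂ) -
      (w : ℂ) ^ 2 / (ind P : ℂ) = 0 := by
  classical
  have := Fintype.ofFinite (IrrCharacter G)
  have hzZ := st.inv_InZ he2 hz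
  have hδ := st.odd_delta he2
  obtain ⟨hf, -, -⟩ := st.case_I he2
  obtain ⟨π, hπ, hπ1⟩ := exists_ne_one st.hP
  have h1 := H79.card_pairs z z π⁻¹
  rw [inv_inv] at h1
  have hz2 : z * z = 1 := by
    have := pow_orderOf_eq_one z
    rwa [hz, pow_two] at this
  have h2 : ((Finset.univ : Finset (G × G)).filter
      (fun q => q.1 * z * q.1⁻¹ * (q.2 * z * q.2⁻¹) = π⁻¹)) = ∅ := by
    rw [Finset.filter_eq_empty_iff]
    intro q _ hq
    refine st.no_inv_prod he2 ?_ ?_ (P.inv_mem hπ) (inv_ne_one.mpr hπ1) hq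
    · calc q.1 * z * q.1⁻¹ * (q.1 * z * q.1⁻¹) = q.1 * (z * z) * q.1⁻¹ := by group
        _ = 1 := by rw [hz2]; group
    · calc q.2 * z * q.2⁻¹ * (q.2 * z * q.2⁻¹) = q.2 * (z * z) * q.2⁻¹ := by group
        _ = 1 := by rw [hz2]; group
  rw [h2, Finset.card_empty, Nat.cast_zero] at h1
  have hG0 : (Nat.card G : ℂ) ≠ 0 := by exact_mod_cast Nat.card_pos.ne'
  have h3 := (mul_eq_zero.mp h1.symm).resolve_left hG0
  have h0 : ∑ χ : IrrCharacter G, (χ : G → ℂ) z * (χ : G → ℂ) z * (χ : G → ℂ) π / (χ : G → ℂ) 1 =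
      ∑ χ ∈ st.B.X ∪ st.B.Y,
        (χ : G → ℂ) z * (χ : G → ℂ) z * (χ : G → ℂ) π / (χ : G → ℂ) 1 := by
    symm
    refine Finset.sum_subset (Finset.subset_univ _) fun χ _ hχ => ?_
    rw [Finset.mem_union, not_or] at hχ
    rw [st.B.out st.hC χ hχ.1 hχ.2 π hπ hπ1, mul_zero, zero_div]
  rw [h0, Finset.sum_union st.B.disj] at h3
  rw [← h3]
  have e1 : ∑ χ ∈ st.B.X, (χ : G → ℂ) z * (χ : G → ℂ) z * (χ : G → ℂ) π / (χ : G → ℂ) 1 =
      1 - (∑ χ ∈ st.B.X.filter (fun χ => st.B.δ χ = -1), (χ : G → ℂ) z ^ 2) /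
        ((p - 1 : ℕ) : ℂ) := by
    rw [Finset.sum_filter, Finset.sum_div]
    have e0 : (1 : ℂ) = ∑ χ ∈ st.B.X, if χ = oneIrr G then 1 else 0 := by
      rw [Finset.sum_ite_eq' st.B.X (oneIrr G) (fun _ => (1 : ℂ)), if_pos st.B.one_mem]
    rw [e0, ← Finset.sum_sub_distrib]
    refine Finset.sum_congr rfl fun χ hχ => ?_
    rw [st.B.val_one hχ hπ hπ1]
    by_cases h1 : χ = oneIrr G
    · subst h1
      rw [if_pos rfl, if_neg, st.B.δ_one st.hP, CharBase.oneIrr_apply, CharBase.oneIrr_apply]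
      · norm_num
      · rw [st.B.δ_one st.hP]; norm_num
    · rw [if_neg h1]
      rcases st.B.sgn χ hχ with h2 | h2
      · have h3 : ¬ st.B.δ χ = -1 := by rw [h2]; norm_num
        rw [if_neg h3, st.pos_Z hχ h2 h1 hzZ]
        norm_num
      · rw [if_pos h2, h2, dg_eq, st.hS.neg χ hχ h2]
        push_cast
        ring
  have e2 : ∑ χ ∈ st.B.Y, (χ : G → ℂ) z * (χ : G → ℂ) z * (χ : G → ℂ) π / (χ : G → ℂ) 1 =
      - ((w : ℂ) ^ 2 / (ind P : ℂ)) := by
    have e3 : ∀ ξ ∈ st.B.Y, (ξ : G → ℂ) z * (ξ : G → ℂ) z * (ξ : G → ℂ) π / (ξ : G → ℂ) 1 =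
        (w : ℂ) ^ 2 / (ind P : ℂ) * (ξ : G → ℂ) π := by
      intro ξ hξ
      rw [st.B.Y_eq hξ hψ (st.reg_of_Z hzZ), hw, dg_eq, hf ξ hξ]
      ring
    rw [Finset.sum_congr rfl e3, ← Finset.mul_sum, st.sum_Y_pi hπ hπ1, hδ]
    push_cast
    ring
  rw [e1, e2]
  ring

open Classical in
/-- **`e` odd**: `t = 2` and `n = 1`. -/
theorem St.odd_final (he2 : Odd (ind P)) : st.B.Y.card = 2 ∧ n = 1 := by
  have hp3 := st.hp3
  have he := st.he
  have hn := st.hn
  obtain ⟨E, hE⟩ := st.exists_E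
  obtain ⟨ψ, hψ⟩ := st.B.Y_nonempty (by omega)
  have hδ := st.odd_delta he2
  obtain ⟨hf, ha, hb⟩ := st.case_I he2
  have ht2 := st.two_le_t he2
  have hteven := st.even_t he2
  have hp0 : (p : ℂ) ≠ 0 := by exact_mod_cast hp.out.ne_zero
  have hn0 : (n : ℂ) + 1 ≠ 0 := by exact_mod_cast (by omega : n + 1 ≠ 0)
  set t := st.B.Y.card with ht
  set e := ind P with hedef
  -- the integer values
  have hex : ∀ z : G, ∃ w : ℤ, InZ P z → (ψ : G → ℂ) z = w ∧
      (∃ N₁ : ℕ, (t : ℤ) * N₁ = (1 + n * p) * (1 - w)) ∧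
      (∃ N₂ : ℕ, (t : ℤ) * N₂ = (1 + n * p) * (1 + (t - 1) * w)) := by
    intro z
    by_cases h : InZ P z
    · obtain ⟨w, hw⟩ := st.psi_Z he2 hψ h
      exact ⟨w, fun _ => hw⟩
    · exact ⟨0, fun h' => absurd h' h⟩
  choose w hw using hex
  set Z := Finset.univ.filter (fun z : G => InZ P z) with hZ
  have hmemZ : ∀ z, z ∈ Z ↔ InZ P z := by
    intro z; rw [hZ, Finset.mem_filter]; exact ⟨fun h => h.2, fun h => ⟨Finset.mem_univ _, h⟩⟩
  -- first moment
  have hE0 : ∀ x ∈ Finset.univ.filter (fun x : G => x ∈ E ∧ x ≠ 1), (ψ : G → ℂ) x = 0 := by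
    intro x hx
    rw [Finset.mem_filter] at hx
    exact st.psi_N he2 hψ (hE.le hx.2.1) (fun h => hx.2.2 (hE.inf x hx.2.1 h))
  have hm1 : ∑ z ∈ Z, w z = (e : ℤ) * (n * p) := by
    have h1 := st.sum_split hE (R := ℂ) (fun g => (ψ : G → ℂ) g) (CharBase.irr_isClassFunction ψ)
    rw [st.sum_G_zero hψ, Finset.sum_eq_zero hE0, st.sum_P_hash hψ, hδ, dg_eq, hf ψ hψ] at h1
    have h2 : ∑ z ∈ Z, (ψ : G → ℂ) z = ((∑ z ∈ Z, w z : ℤ) : ℂ) := by
      push_cast
      exact Finset.sum_congr rfl fun z hz => (hw z ((hmemZ z).mp hz)).1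
    rw [h2] at h1
    have h3 : ((∑ z ∈ Z, w z : ℤ) : ℂ) = (((e : ℤ) * (n * p) : ℤ) : ℂ) := by
      apply mul_left_cancel₀ hn0
      push_cast at h1 ⊢
      linear_combination -h1
    exact_mod_cast h3
  have hwconj : ∀ z ∈ Z, (ψ : G → ℂ) z * conj ((ψ : G → ℂ) z) = ((w z ^ 2 : ℤ) : ℂ) := by
    intro z hz
    rw [(hw z ((hmemZ z).mp hz)).1, map_intCast]
    push_cast; ring
  have hm2 : ∑ z ∈ Z, w z ^ 2 = (e : ℤ) ^ 2 * (n * p) := by
    have h1 := st.sum_split hE (R := ℂ) (fun g => (ψ : G → ℂ) g * conj ((ψ : G → ℂ) g))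
      (fun g h => by rw [CharBase.irr_isClassFunction ψ g h])
    have hE0' : ∑ x ∈ Finset.univ.filter (fun x : G => x ∈ E ∧ x ≠ 1),
        (ψ : G → ℂ) x * conj ((ψ : G → ℂ) x) = 0 :=
      Finset.sum_eq_zero (fun x hx => by rw [hE0 x hx, zero_mul])
    rw [st.sum_G_sq ψ, hE0', st.psi_sq he2 hψ, dg_eq, hf ψ hψ, Complex.conj_natCast, st.card_G'] at h1
    have h2 : ∑ z ∈ Z, (ψ : G → ℂ) z * conj ((ψ : G → ℂ) z) =
        ((∑ z ∈ Z, w z ^ 2 : ℤ) : ℂ) := by
      rw [Int.cast_sum]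
      exact Finset.sum_congr rfl hwconj
    rw [h2] at h1
    have h3 : ((∑ z ∈ Z, w z ^ 2 : ℤ) : ℂ) = (((e : ℤ) ^ 2 * (n * p) : ℤ) : ℂ) := by
      apply mul_left_cancel₀ hn0
      push_cast at h1 ⊢
      linear_combination -h1
    exact_mod_cast h3
  have hnp : 0 < n * p := by positivity
  have hD : (0 : ℤ) < 1 + n * p := by
    have : (0 : ℤ) < ((n * p : ℕ) : ℤ) := by exact_mod_cast hnp
    push_cast at this
    linarith
  -- bounds
  have hle1 : ∀ z ∈ Z, w z ≤ 1 := by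
    intro z hz
    obtain ⟨-, ⟨N₁, h1⟩, -⟩ := hw z ((hmemZ z).mp hz)
    by_contra hcon
    push Not at hcon
    have : (1 + (n : ℤ) * p) * (1 - w z) < 0 := mul_neg_of_pos_of_neg hD (by linarith)
    have h2 : (0 : ℤ) ≤ (t : ℤ) * N₁ := by positivity
    linarith
  have hge : ∀ z ∈ Z, 0 ≤ 1 + ((t : ℤ) - 1) * w z := by
    intro z hz
    obtain ⟨-, -, ⟨N₂, h1⟩⟩ := hw z ((hmemZ z).mp hz)
    by_contra hcon
    push Not at hcon
    have : (1 + (n : ℤ) * p) * (1 + ((t : ℤ) - 1) * w z) < 0 := mul_neg_of_pos_of_neg hD hcon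
    have h2 : (0 : ℤ) ≤ (t : ℤ) * N₂ := by positivity
    linarith
  -- `t = 2`
  have htwo : t = 2 := by
    by_contra hne
    have ht3 : 3 ≤ t := by omega
    have hge0 : ∀ z ∈ Z, 0 ≤ w z := by
      intro z hz
      by_contra hcon
      push Not at hcon
      have h1 := hge z hz
      have h2 : ((t : ℤ) - 1) * w z ≤ ((t : ℤ) - 1) * (-1) :=
        mul_le_mul_of_nonneg_left (by omega) (by omega)
      have h3 : (3 : ℤ) ≤ t := by exact_mod_cast ht3
      linarith
    have hsq : ∀ z ∈ Z, w z ^ 2 = w z := by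
      intro z hz
      have h1 := hge0 z hz
      have h2 := hle1 z hz
      interval_cases (w z) <;> norm_num
    rw [Finset.sum_congr rfl hsq, hm1] at hm2
    have h1 : (e : ℤ) * (n * p) * ((e : ℤ) - 1) = 0 := by linear_combination -hm2
    have h2 : (0 : ℤ) < (e : ℤ) * (n * p) := by
      have h3 : 0 < e * (n * p) := Nat.mul_pos (by omega) hnp
      exact_mod_cast h3
    rcases mul_eq_zero.mp h1 with h | h
    · linarith
    · have h3 : (e : ℤ) = 1 := by linarith
      have : e = 1 := by exact_mod_cast h3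
      omega
  refine ⟨htwo, ?_⟩
  have hte : 2 * e = p - 1 := by
    have := st.B.cardY
    rw [← ht, htwo] at this
    exact this
  have hpe : (p : ℤ) = 2 * e + 1 := by omega
  have ha0 : 0 < st.B.a := by
    rcases Nat.eq_zero_or_pos st.B.a with h | h
    · rw [h] at ha; omega
    · exact h
  by_cases hDodd : Odd (1 + n * p)
  · -- `|G|` odd
    exfalso
    have hsq : ∀ z ∈ Z, w z ^ 2 = 1 := by
      intro z hz
      obtain ⟨-, ⟨N₁, h1⟩, -⟩ := hw z ((hmemZ z).mp hz)
      have h2 := hle1 z hz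
      have h3 := hge z hz
      rw [htwo] at h1 h3
      have h4 : -1 ≤ w z := by
        push_cast at h3
        linarith
      have h5 : w z ≠ 0 := by
        intro h0
        rw [h0] at h1
        obtain ⟨k, hk⟩ := hDodd
        have h6 : (2 : ℤ) * N₁ = ((1 + n * p : ℕ) : ℤ) := by
          push_cast at h1 ⊢
          linarith
        rw [hk] at h6
        omega
      have h6 : w z = 1 ∨ w z = -1 := by omega
      rcases h6 with h | h <;> rw [h] <;> norm_num
    rw [Finset.sum_congr rfl hsq, Finset.sum_const, nsmul_eq_mul, mul_one] at hm2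
    -- the class count
    have h1 := st.sum_split hE (R := ℚ) (fun _ => 1) (fun _ _ => rfl)
    have hcP : (Finset.univ.filter (fun x : G => x ∈ P ∧ x ≠ 1)).card = p - 1 := by
      have h1 : Finset.univ.filter (fun x : G => x ∈ P ∧ x ≠ 1) =
          (Finset.univ.filter (fun x : G => x ∈ P)).erase 1 := by
        ext x
        rw [Finset.mem_erase, Finset.mem_filter, Finset.mem_filter]
        tauto
      rw [h1, Finset.card_erase_of_mem (by
        rw [Finset.mem_filter]; exact ⟨Finset.mem_univ _, P.one_mem⟩), ← st.hP.card,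
        Nat.card_eq_fintype_card, Fintype.card_subtype]
    have hcE : (Finset.univ.filter (fun x : G => x ∈ E ∧ x ≠ 1)).card = e - 1 := by
      have h1 : Finset.univ.filter (fun x : G => x ∈ E ∧ x ≠ 1) =
          (Finset.univ.filter (fun x : G => x ∈ E)).erase 1 := by
        ext x
        rw [Finset.mem_erase, Finset.mem_filter, Finset.mem_filter]
        tauto
      rw [h1, Finset.card_erase_of_mem (by
        rw [Finset.mem_filter]; exact ⟨Finset.mem_univ _, E.one_mem⟩), hedef, ← hE.card,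
        Nat.card_eq_fintype_card, Fintype.card_subtype]
    have e6 : ∑ g : G, (1 : ℚ) = p * e * (1 + n * p) := by
      rw [Finset.sum_const, Finset.card_univ, ← Nat.card_eq_fintype_card, st.card_G']
      push_cast
      ring
    rw [e6] at h1
    simp only [Finset.sum_const, nsmul_eq_mul, mul_one] at h1
    rw [hcP, hcE, Nat.cast_sub hp.out.one_lt.le, Nat.cast_sub (by omega : 1 ≤ e)] at h1
    have hZc : ((Finset.univ.filter (fun z : G => InZ P z)).card : ℚ) = (e : ℚ) ^ 2 * (n * p) := by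
      exact_mod_cast hm2
    rw [hZc] at h1
    have ha' : (st.B.a : ℚ) * (n + 1) = e - 1 := by
      have : ((st.B.a * (n + 1) + 1 : ℕ) : ℚ) = e := by rw [ha]
      push_cast at this
      linarith
    have hpq : (p : ℚ) = 2 * e + 1 := by exact_mod_cast hpe
    have hn1 : (n : ℚ) + 1 ≠ 0 := by positivity
    -- `(n+1) (e D + e + 1) = p D`
    have h2 : ((n : ℚ) + 1) * (e * (1 + n * p) + e + 1) = p * (1 + n * p) := by
      have h3 : (st.B.a : ℚ) * (((n : ℚ) + 1) * (((n : ℚ) + 1) * (e * (1 + n * p) + e + 1))) =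
          (st.B.a : ℚ) * (((n : ℚ) + 1) * (p * (1 + n * p))) := by
        have h4 : (st.B.a : ℚ) * (((n : ℚ) + 1) * (((n : ℚ) + 1) * (e * (1 + n * p) + e + 1))) =
            (st.B.a * (n + 1)) * (((n : ℚ) + 1) * (e * (1 + n * p) + e + 1)) := by ring
        have h5 : (st.B.a : ℚ) * (((n : ℚ) + 1) * (p * (1 + n * p))) =
            (st.B.a * (n + 1)) * (p * (1 + n * p)) := by ring
        rw [h4, h5, ha']
        push_cast at h1
        rw [hpq] at h1 ⊢
        linear_combination h1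
      have h6 : (st.B.a : ℚ) ≠ 0 := by exact_mod_cast ha0.ne'
      exact mul_left_cancel₀ hn1 (mul_left_cancel₀ h6 h3)
    have hn2 : 2 ≤ n := by
      rcases Nat.lt_or_ge n 2 with h | h
      · exfalso
        have hn1 : n = 1 := by omega
        rw [hn1, one_mul] at hDodd
        have : Odd p := hp.out.odd_of_ne_two (by omega)
        obtain ⟨k, hk⟩ := hDodd
        obtain ⟨l, hl⟩ := this
        omega
      · exact h
    have hn2' : (2 : ℚ) ≤ n := by exact_mod_cast hn2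
    have he1 : (2 : ℚ) ≤ e := by exact_mod_cast he
    rw [hpq] at h2
    have h7 : (0 : ℚ) < 1 + n * (2 * e + 1) := by positivity
    nlinarith [mul_nonneg (by linarith : (0 : ℚ) ≤ (n : ℚ) - 2)
      (by positivity : (0 : ℚ) ≤ (e : ℚ) * (1 + n * (2 * e + 1)) + e + 1)]
  · -- `|G|` even
    rw [Nat.not_odd_iff_even] at hDodd
    have hGeven : 2 ∣ Nat.card G := by
      rw [st.card_G']
      exact (hDodd.mul_left _).two_dvd
    obtain ⟨z, hz⟩ := exists_prime_orderOf_dvd_card' 2 hGeven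
    have hzZ := st.inv_InZ he2 hz
    have hz2 : z ^ 2 = 1 := by rw [← hz, pow_orderOf_eq_one]
    have hwz := (hw z hzZ).1
    have hrel := st.inv_relation he2 hψ hz hwz
    -- odd value
    have hwodd : Odd (w z) := by
      obtain ⟨k, hk⟩ := involution_value st.hperf ψ hz2
      rw [hwz, hf ψ hψ] at hk
      have h1 : w z = (e : ℤ) - 4 * k := by exact_mod_cast hk
      obtain ⟨l, hl⟩ := he2
      exact ⟨(l : ℤ) - 2 * k, by rw [h1]; push_cast [hl]; omega⟩
    have hwsq : 1 ≤ w z ^ 2 := by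
      have : w z ≠ 0 := by
        rintro h
        rw [h] at hwodd
        exact absurd hwodd (by decide)
      have := sq_pos_of_ne_zero (R := ℤ) this
      linarith
    -- values of the negative characters
    have hneg : ∀ χ : IrrCharacter G, ∃ v : ℤ, χ ∈ st.B.X → st.B.δ χ = -1 →
        (χ : G → ℂ) z = v ∧ 4 ≤ v ^ 2 := by
      intro χ
      obtain ⟨k, hk⟩ := involution_value st.hperf χ hz2
      refine ⟨(dg χ : ℤ) - 4 * k, fun hχ hδχ => ⟨by rw [hk]; push_cast; ring, ?_⟩⟩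
      have h1 := st.hS.neg χ hχ hδχ
      rw [h1, ← hte]
      obtain ⟨l, hl⟩ := he2
      rw [hl]
      have h2 : (((2 * (2 * l + 1) : ℕ) : ℤ) - 4 * k) = 2 * (2 * ((l : ℤ) - k) + 1) := by
        push_cast; ring
      rw [h2]
      have h3 : (1 : ℤ) ≤ (2 * ((l : ℤ) - k) + 1) ^ 2 := by
        have h4 : (2 * ((l : ℤ) - k) + 1) ≠ 0 := by omega
        have := sq_pos_of_ne_zero (R := ℤ) h4
        linarith
      nlinarith
    choose v hv using hneg
    set XB := st.B.X.filter (fun χ => st.B.δ χ = -1) with hXB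
    have hsumv : ∑ χ ∈ XB, (χ : G → ℂ) z ^ 2 = ((∑ χ ∈ XB, v χ ^ 2 : ℤ) : ℂ) := by
      push_cast
      refine Finset.sum_congr rfl fun χ hχ => ?_
      rw [hXB, Finset.mem_filter] at hχ
      rw [(hv χ hχ.1 hχ.2).1]
    rw [hsumv] at hrel
    have he0 : (e : ℂ) ≠ 0 := by exact_mod_cast (by omega : e ≠ 0)
    have hp1 : ((p - 1 : ℕ) : ℂ) = 2 * e := by rw [← hte]; push_cast; ring
    rw [hp1, ← hedef] at hrel
    have hint : (∑ χ ∈ XB, v χ ^ 2) + 2 * w z ^ 2 = 2 * (e : ℤ) := by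
      have h1 : (((∑ χ ∈ XB, v χ ^ 2) + 2 * w z ^ 2 : ℤ) : ℂ) = ((2 * (e : ℤ) : ℤ) : ℂ) := by
        field_simp at hrel
        push_cast at hrel ⊢
        linear_combination -hrel
      exact_mod_cast h1
    have hXBcard : XB.card = st.B.b := by
      have := Fintype.ofFinite (IrrCharacter G)
      unfold Data.b
      rw [Nat.card_eq_fintype_card, Fintype.card_subtype]
      congr 1
      ext χ
      simp [hXB]
    have hlow : 4 * (st.B.b : ℤ) ≤ ∑ χ ∈ XB, v χ ^ 2 := by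
      have h1 := Finset.card_nsmul_le_sum XB (fun χ => v χ ^ 2) 4 (by
        intro χ hχ
        rw [hXB, Finset.mem_filter] at hχ
        exact (hv χ hχ.1 hχ.2).2)
      rw [hXBcard, nsmul_eq_mul] at h1
      linarith
    have h8 : 4 * (st.B.a * n : ℤ) + 2 ≤ 2 * (e : ℤ) := by
      have : (st.B.b : ℤ) = st.B.a * n := by exact_mod_cast hb
      linarith
    have h9 : 4 * (st.B.a * n) + 2 ≤ 2 * (st.B.a * (n + 1) + 1) := by
      rw [ha]
      exact_mod_cast h8
    exact final_arith ha0 hn h9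

end

end Cfsg.Agent.BR
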