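import Cfsg.Agent.BR.Odd

/-!
The case of odd inertial index, `δ₀ = -1`: values of the exceptional characters, `t = 2`, `n = 1`.
-/

set_option autoImplicit false

open scoped ComplexConjugate

namespace Cfsg.Agent.BR

open Cfsg Subgroup
open Cfsg.Agent.CharBase (oneIrr)

universe u

theorem int_of_isIntegral_mul {x : ℂ} (hx : IsIntegral ℤ x) {m k : ℤ} (hm : m ≠ 0)
    (h : (m : ℂ) * x = k) : ∃ j : ℤ, x = j := by
  have hm' : (m : ℂ) ≠ 0 := by exact_mod_cast hm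
  have h0 : x = (((k : ℚ) / (m : ℚ) : ℚ) : ℂ) := by
    push_cast
    rw [eq_div_iff hm', ← h]; ring
  have h1 : IsIntegral ℤ ((k : ℚ) / (m : ℚ)) := by
    rw [← isIntegral_algebraMap_iff (algebraMap ℚ ℂ).injective]
    rw [h0] at hx
    exact hx
  obtain ⟨z, hz⟩ := IsIntegrallyClosed.isIntegral_iff.mp h1
  refine ⟨z, ?_⟩
  rw [h0, ← hz]
  simp

section

variable {G : Type u} [Group G] [Fintype G] {p : ℕ} [hp : Fact p.Prime] {P : Subgroup G} {n : ℕ}

@[reducible] def rightAct (x y z : G) (P : Subgroup G) (hx : ∀ u ∈ P, u * x = x * u)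
    (hy : ∀ u ∈ P, u * y = y * u) :
    MulAction (P × P) {q : G × G // q.1 * x * q.1⁻¹ * (q.2 * y * q.2⁻¹) = z} where
  smul g q := ⟨(q.1.1 * (g.1 : G)⁻¹, q.1.2 * (g.2 : G)⁻¹), by
    have e1 : (g.1 : G)⁻¹ * x * (g.1 : G) = x := by
      rw [mul_assoc, ← hx _ g.1.2, inv_mul_cancel_left]
    have e2 : (g.2 : G)⁻¹ * y * (g.2 : G) = y := by
      rw [mul_assoc, ← hy _ g.2.2, inv_mul_cancel_left]
    calc q.1.1 * (g.1 : G)⁻¹ * x * (q.1.1 * (g.1 : G)⁻¹)⁻¹ *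
          (q.1.2 * (g.2 : G)⁻¹ * y * (q.1.2 * (g.2 : G)⁻¹)⁻¹)
        = q.1.1 * ((g.1 : G)⁻¹ * x * (g.1 : G)) * q.1.1⁻¹ *
          (q.1.2 * ((g.2 : G)⁻¹ * y * (g.2 : G)) * q.1.2⁻¹) := by group
      _ = z := by rw [e1, e2, q.2]⟩
  one_smul q := by
    apply Subtype.ext
    change (q.1.1 * (1 : G)⁻¹, q.1.2 * (1 : G)⁻¹) = q.1
    simp
  mul_smul g h q := by
    apply Subtype.ext
    change (q.1.1 * ((g.1 : G) * h.1)⁻¹, q.1.2 * ((g.2 : G) * h.2)⁻¹) =
      (q.1.1 * (h.1 : G)⁻¹ * (g.1 : G)⁻¹, q.1.2 * (h.2 : G)⁻¹ * (g.2 : G)⁻¹)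
    rw [Prod.mk.injEq]
    constructor <;> group

variable (st : St p P n)
include st

theorem St.P_comm : ∀ a ∈ P, ∀ b ∈ P, a * b = b * a := by
  intro a ha b hb
  have h1 : a ∈ centralizer (P : Set G) := by rw [st.hC]; exact ha
  exact (Subgroup.mem_centralizer_iff.mp h1 b hb).symm

/-- structure constants: there is a natural number `N` with
`p² N = |G| Σ χ(x) χ(y) χ(z) / χ(1)`. -/
theorem St.exists_count [Fintype (IrrCharacter G)] {x y : G} (hx : x ∈ P) (hy : y ∈ P) (z : G) :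
    ∃ N : ℕ, (p : ℂ) ^ 2 * N = (Nat.card G : ℂ) * ∑ χ : IrrCharacter G,
      (χ : G → ℂ) x * (χ : G → ℂ) y * (χ : G → ℂ) z / (χ : G → ℂ) 1 := by
  classical
  have hPc := st.P_comm
  let _ := rightAct x y z⁻¹ P (fun u hu => hPc u hu x hx) (fun u hu => hPc u hu y hy)
  have h := card_dvd_of_free (A := P × P)
    (X := {q : G × G // q.1 * x * q.1⁻¹ * (q.2 * y * q.2⁻¹) = z⁻¹}) (by
      intro q g hg
      have h1 : (q.1.1 * (g.1 : G)⁻¹, q.1.2 * (g.2 : G)⁻¹) = q.1 := congrArg Subtype.val hg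
      have h2 : q.1.1 * (g.1 : G)⁻¹ = q.1.1 := congrArg Prod.fst h1
      have h3 : q.1.2 * (g.2 : G)⁻¹ = q.1.2 := congrArg Prod.snd h1
      rw [mul_eq_left, inv_eq_one] at h2 h3
      exact Prod.ext (Subtype.ext h2) (Subtype.ext h3))
  rw [Nat.card_prod, st.hP.card] at h
  obtain ⟨N, hN⟩ := h
  refine ⟨N, ?_⟩
  have h1 := H79.card_pairs x y z⁻¹
  rw [inv_inv] at h1
  rw [← h1]
  have h2 : ((Finset.univ : Finset (G × G)).filter
      (fun q => q.1 * x * q.1⁻¹ * (q.2 * y * q.2⁻¹) = z⁻¹)).card = p * p * N := by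
    rw [← hN, Nat.card_eq_fintype_card, Fintype.card_subtype]
  rw [h2]
  push_cast
  ring

theorem St.case_I (he2 : Odd (ind P)) : (∀ ψ ∈ st.B.Y, dg ψ = ind P) ∧
    st.B.a * (n + 1) + 1 = ind P ∧ st.B.b = st.B.a * n := by
  have hδ := st.odd_delta he2
  rcases st.hS.cases with ⟨h, -⟩ | ⟨-, h1, h2, h3⟩
  · rw [hδ] at h
    exact absurd h (by norm_num)
  · exact ⟨h1, h2, h3⟩

/-- values of the exceptional characters off the conjugates of `N`. -/
theorem St.psi_Z (he2 : Odd (ind P)) {ψ : IrrCharacter G} (hψ : ψ ∈ st.B.Y) {z : G}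
    (hz : InZ P z) : ∃ w : ℤ, (ψ : G → ℂ) z = w ∧
      (∃ N₁ : ℕ, (st.B.Y.card : ℤ) * N₁ = (1 + n * p) * (1 - w)) ∧
      (∃ N₂ : ℕ, (st.B.Y.card : ℤ) * N₂ = (1 + n * p) * (1 + (st.B.Y.card - 1) * w)) := by
  classical
  have := Fintype.ofFinite (IrrCharacter G)
  have hδ := st.odd_delta he2
  obtain ⟨hf, -, -⟩ := st.case_I he2
  have hp3 := st.hp3
  have he := st.he
  obtain ⟨π, hπ, hπ1⟩ := exists_ne_one st.hP
  have hπi : π⁻¹ ∈ P := P.inv_mem hπ
  have hπi1 : π⁻¹ ≠ 1 := inv_ne_one.mpr hπ1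
  obtain ⟨N₁, hN₁⟩ := st.exists_count hπ hπ z
  obtain ⟨N₂, hN₂⟩ := st.exists_count hπ hπi z
  rw [st.block_sum hπ hπ1 hπ hπ1 hz hψ, st.sum_Y_sq he2 hπ hπ1] at hN₁
  have hconj : ∑ ξ ∈ st.B.Y, (ξ : G → ℂ) π * (ξ : G → ℂ) π⁻¹ = (p : ℂ) - ind P := by
    rw [← st.sum_Y_conj hπ hπ1]
    exact Finset.sum_congr rfl fun ξ _ => by rw [CharBase.irr_inv]
  rw [st.block_sum hπ hπ1 hπi hπi1 hz hψ, hconj] at hN₂
  rw [hδ, hf ψ hψ, st.card_G'] at hN₁ hN₂
  set w : ℂ := (ψ : G → ℂ) z with hw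
  set t : ℕ := st.B.Y.card with ht
  have hte : (t : ℂ) * ind P = (p : ℂ) - 1 := by
    have h1 : ((t * ind P : ℕ) : ℂ) = ((p - 1 : ℕ) : ℂ) := by rw [st.B.cardY]
    rw [Nat.cast_sub hp.out.one_lt.le] at h1
    push_cast at h1
    exact h1
  have hp1 : ((p - 1 : ℕ) : ℂ) = t * ind P := by
    rw [hte, Nat.cast_sub hp.out.one_lt.le]; simp
  have ht0 : (t : ℂ) ≠ 0 := by
    have : 0 < t := Finset.card_pos.mpr ⟨ψ, hψ⟩
    exact_mod_cast this.ne'
  have he0 : (ind P : ℂ) ≠ 0 := by exact_mod_cast (ind_pos P).ne'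
  have hp0 : (p : ℂ) ≠ 0 := by exact_mod_cast hp.out.ne_zero
  rw [hp1] at hN₁ hN₂
  have hpe : (p : ℂ) = t * ind P + 1 := by rw [hte]; ring
  -- first relation
  have h1 : (t : ℂ) * N₁ = (1 + n * p) * (1 - w) := by
    have h2 : (p : ℂ) ^ 2 * ((t : ℂ) * N₁) = (p : ℂ) ^ 2 * ((1 + n * p) * (1 - w)) := by
      have h3 : (p : ℂ) ^ 2 * ((t : ℂ) * N₁) = t * ((p : ℂ) ^ 2 * N₁) := by ring
      rw [h3, hN₁]
      push_cast
      field_simp
      rw [hpe]
      ring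
    exact mul_left_cancel₀ (pow_ne_zero 2 hp0) h2
  have h1' : (t : ℂ) * N₂ = (1 + n * p) * (1 + (t - 1) * w) := by
    have h2 : (p : ℂ) ^ 2 * ((t : ℂ) * N₂) = (p : ℂ) ^ 2 * ((1 + n * p) * (1 + (t - 1) * w)) := by
      have h3 : (p : ℂ) ^ 2 * ((t : ℂ) * N₂) = t * ((p : ℂ) ^ 2 * N₂) := by ring
      rw [h3, hN₂]
      push_cast
      field_simp
      rw [hpe]
      ring
    exact mul_left_cancel₀ (pow_ne_zero 2 hp0) h2
  -- integrality
  have hint : IsIntegral ℤ w := CharBase.irr_isIntegral ψ z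
  obtain ⟨j, hj⟩ := int_of_isIntegral_mul hint (m := ((1 + n * p : ℕ) : ℤ))
    (k := ((1 + n * p : ℕ) : ℤ) - (t * N₁ : ℕ)) (by
      have : 0 < 1 + n * p := by omega
      exact_mod_cast this.ne') (by
      push_cast
      linear_combination h1)
  refine ⟨j, hj, ⟨N₁, ?_⟩, ⟨N₂, ?_⟩⟩
  · rw [hj] at h1
    exact_mod_cast h1
  · rw [hj] at h1'
    have h3 : ((t : ℤ) : ℂ) * ((N₂ : ℤ) : ℂ) =
      (((1 + (n : ℤ) * p) * (1 + ((t : ℤ) - 1) * j) : ℤ) : ℂ) := by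
      push_cast
      exact h1'
    exact_mod_cast h3

/-- exceptional characters vanish on `N ∖ P`. -/
theorem St.psi_N (he2 : Odd (ind P)) {ψ : IrrCharacter G} (hψ : ψ ∈ st.B.Y) {y : G}
    (hy : y ∈ normalizer (P : Set G)) (hyP : y ∉ P) : (ψ : G → ℂ) y = 0 := by
  classical
  have := Fintype.ofFinite P
  have hδ := st.odd_delta he2
  obtain ⟨hf, -, -⟩ := st.case_I he2
  have h0 : ∑ x : P, (ψ : G → ℂ) x = 0 := by
    rw [st.B.sum_Y hψ, hf ψ hψ, hδ]
    push_cast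
    ring
  have h1 := noFix (CharBase.irr_isCharacter ψ) P h0 hy
  have h2 : ∀ x : P, (ψ : G → ℂ) (x * y) = (ψ : G → ℂ) y := by
    intro x
    obtain ⟨w, -, hw⟩ := coset_conj st.hP st.hC hy hyP (z := x * y) (by
      rw [mul_inv_cancel_right]; exact x.2)
    rw [hw]
    exact CharBase.irr_isClassFunction ψ y w
  rw [Finset.sum_congr rfl (fun x _ => h2 x), Finset.sum_const, Finset.card_univ,
    ← Nat.card_eq_fintype_card, st.hP.card, nsmul_eq_mul] at h1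
  have hp0 : (p : ℂ) ≠ 0 := by exact_mod_cast hp.out.ne_zero
  exact (mul_eq_zero.mp h1).resolve_left hp0

open Classical in
/-- the sum of `|ψ|²` over `P#`. -/
theorem St.psi_sq (he2 : Odd (ind P)) {ψ : IrrCharacter G} (hψ : ψ ∈ st.B.Y) :
    ∑ x ∈ Finset.univ.filter (fun x : G => x ∈ P ∧ x ≠ 1), (ψ : G → ℂ) x * conj ((ψ : G → ℂ) x) =
      (ind P : ℂ) * (p - ind P) := by
  have := Fintype.ofFinite P
  have := Fintype.ofFinite (normalizer (P : Set G))
  obtain ⟨hf, -, -⟩ := st.case_I he2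
  have hp3 := st.hp3
  have hN0 : (Nat.card (normalizer (P : Set G)) : ℂ) ≠ 0 := by exact_mod_cast Nat.card_pos.ne'
  set A := Finset.univ.filter (fun x : G => x ∈ P ∧ x ≠ 1) with hA
  -- each sum is a natural number at least `e (p - e)`
  have hnat : ∀ ξ ∈ st.B.Y, ∃ m : ℕ, 1 ≤ m ∧
      ∑ x ∈ A, (ξ : G → ℂ) x * conj ((ξ : G → ℂ) x) = (p : ℂ) * ind P * m - (ind P : ℂ) ^ 2 := by
    intro ξ hξ
    have hres := CharBase.isCharacter_restrict (CharBase.irr_isCharacter ξ)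
      (normalizer (P : Set G))
    obtain ⟨m, hm⟩ := CharBase.classInner_natCast hres hres
    have h1 : ∑ y : normalizer (P : Set G), (ξ : G → ℂ) y * conj ((ξ : G → ℂ) y) =
        (p : ℂ) * ind P * m := by
      unfold classInner at hm
      have h2 : (Nat.card (normalizer (P : Set G)) : ℂ) = p * ind P := by
        rw [st.card_N']; push_cast; ring
      rw [← h2, ← hm, ← mul_assoc, mul_inv_cancel₀ hN0, one_mul]
    have h3 : ∑ y : normalizer (P : Set G), (ξ : G → ℂ) y * conj ((ξ : G → ℂ) y) =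
        (ind P : ℂ) ^ 2 + ∑ x ∈ A, (ξ : G → ℂ) x * conj ((ξ : G → ℂ) x) := by
      have e1 : ∑ y : normalizer (P : Set G), (ξ : G → ℂ) y * conj ((ξ : G → ℂ) y) =
          ∑ g ∈ Finset.univ.filter (fun g : G => g ∈ normalizer (P : Set G)),
            (ξ : G → ℂ) g * conj ((ξ : G → ℂ) g) := by
        refine Finset.sum_bij (fun y _ => (y : G)) ?_ ?_ ?_ ?_
        · intro y _
          rw [Finset.mem_filter]; exact ⟨Finset.mem_univ _, y.2⟩
        · intro a _ b _ hab; exact Subtype.ext hab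
        · intro g hg
          rw [Finset.mem_filter] at hg
          exact ⟨⟨g, hg.2⟩, Finset.mem_univ _, rfl⟩
        · intro y _; rfl
      have e2 : ∑ g ∈ insert 1 A, (ξ : G → ℂ) g * conj ((ξ : G → ℂ) g) =
          ∑ g ∈ Finset.univ.filter (fun g : G => g ∈ normalizer (P : Set G)),
            (ξ : G → ℂ) g * conj ((ξ : G → ℂ) g) := by
        refine Finset.sum_subset ?_ ?_
        · intro g hg
          rw [Finset.mem_insert, hA, Finset.mem_filter] at hg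
          rw [Finset.mem_filter]
          rcases hg with rfl | hg
          · exact ⟨Finset.mem_univ _, Subgroup.one_mem _⟩
          · exact ⟨Finset.mem_univ _, Subgroup.le_normalizer hg.2.1⟩
        · intro g hg hg'
          rw [Finset.mem_filter] at hg
          rw [Finset.mem_insert, hA, Finset.mem_filter, not_or] at hg'
          have hgP : g ∉ P := fun h => hg'.2 ⟨Finset.mem_univ _, h, hg'.1⟩
          rw [st.psi_N he2 hξ hg.2 hgP, zero_mul]
      rw [e1, ← e2, Finset.sum_insert (by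
        rw [hA, Finset.mem_filter]
        intro h
        exact h.2.2 rfl), dg_eq, hf ξ hξ, Complex.conj_natCast]
      ring
    have h4 : ∑ x ∈ A, (ξ : G → ℂ) x * conj ((ξ : G → ℂ) x) =
        (p : ℂ) * ind P * m - (ind P : ℂ) ^ 2 := by
      rw [← h1, h3]; ring
    refine ⟨m, ?_, h4⟩
    by_contra hm0
    have hm0' : m = 0 := by omega
    rw [hm0', Nat.cast_zero, mul_zero, zero_sub] at h4
    -- the left side is a nonnegative real number
    have h5 : ∑ x ∈ A, (ξ : G → ℂ) x * conj ((ξ : G → ℂ) x) =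
        ((∑ x ∈ A, Complex.normSq ((ξ : G → ℂ) x) : ℝ) : ℂ) := by
      push_cast
      exact Finset.sum_congr rfl fun x _ => Complex.mul_conj _
    rw [h5] at h4
    have h6 : (∑ x ∈ A, Complex.normSq ((ξ : G → ℂ) x) : ℝ) = -((ind P : ℝ) ^ 2) := by
      have : ((∑ x ∈ A, Complex.normSq ((ξ : G → ℂ) x) : ℝ) : ℂ) =
        ((-((ind P : ℝ) ^ 2) : ℝ) : ℂ) := by rw [h4]; push_cast; ring
      exact_mod_cast this
    have h7 : 0 ≤ ∑ x ∈ A, Complex.normSq ((ξ : G → ℂ) x) :=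
      Finset.sum_nonneg fun x _ => Complex.normSq_nonneg _
    have h8 : (0 : ℝ) < (ind P : ℝ) := by exact_mod_cast ind_pos P
    nlinarith
  -- the total
  have htot : ∑ ξ ∈ st.B.Y, ∑ x ∈ A, (ξ : G → ℂ) x * conj ((ξ : G → ℂ) x) =
      ((p : ℂ) - 1) * (p - ind P) := by
    rw [Finset.sum_comm]
    rw [Finset.sum_congr rfl (g := fun _ => (p : ℂ) - ind P)]
    · have hcP : A.card = p - 1 := by
        have h1 : A = (Finset.univ.filter (fun x : G => x ∈ P)).erase 1 := by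
          ext x
          rw [hA, Finset.mem_erase, Finset.mem_filter, Finset.mem_filter]
          tauto
        rw [h1, Finset.card_erase_of_mem (by
          rw [Finset.mem_filter]; exact ⟨Finset.mem_univ _, P.one_mem⟩), ← st.hP.card,
          Nat.card_eq_fintype_card, Fintype.card_subtype]
      rw [Finset.sum_const, hcP, nsmul_eq_mul, Nat.cast_sub hp.out.one_lt.le]
      simp
    · intro x hx
      rw [hA, Finset.mem_filter] at hx
      exact st.sum_Y_conj hx.2.1 hx.2.2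
  have hex : ∀ ξ : IrrCharacter G, ∃ m : ℕ, ξ ∈ st.B.Y → 1 ≤ m ∧
      ∑ x ∈ A, (ξ : G → ℂ) x * conj ((ξ : G → ℂ) x) = (p : ℂ) * ind P * m - (ind P : ℂ) ^ 2 := by
    intro ξ
    by_cases h : ξ ∈ st.B.Y
    · obtain ⟨m, hm⟩ := hnat ξ h
      exact ⟨m, fun _ => hm⟩
    · exact ⟨0, fun h' => absurd h' h⟩
  choose m hm using hex
  rw [Finset.sum_congr rfl (fun ξ hξ => (hm ξ hξ).2), Finset.sum_sub_distrib, Finset.sum_const,
    nsmul_eq_mul, ← Finset.mul_sum, ← Nat.cast_sum] at htot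
  have hte : (st.B.Y.card : ℂ) * ind P = (p : ℂ) - 1 := by
    have h1 : ((st.B.Y.card * ind P : ℕ) : ℂ) = ((p - 1 : ℕ) : ℂ) := by rw [st.B.cardY]
    rw [Nat.cast_sub hp.out.one_lt.le] at h1
    push_cast at h1
    exact h1
  have hp0 : (p : ℂ) ≠ 0 := by exact_mod_cast hp.out.ne_zero
  have he0 : (ind P : ℂ) ≠ 0 := by exact_mod_cast (ind_pos P).ne'
  have hsum : ∑ ξ ∈ st.B.Y, m ξ = st.B.Y.card := by
    have h1 : (p : ℂ) * ind P * ((∑ ξ ∈ st.B.Y, m ξ : ℕ) : ℂ) = p * ind P * st.B.Y.card := by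
      linear_combination htot + ((ind P : ℂ) - (p : ℂ)) * hte
    have h2 := mul_left_cancel₀ (mul_ne_zero hp0 he0) h1
    exact_mod_cast h2
  have hone : ∀ ξ ∈ st.B.Y, 1 = m ξ := by
    refine (Finset.sum_eq_sum_iff_of_le (fun ξ hξ => (hm ξ hξ).1)).mp ?_
    rw [hsum, Finset.sum_const, smul_eq_mul, mul_one]
  rw [(hm ψ hψ).2, ← hone ψ hψ]
  push_cast
  ring

end

end Cfsg.Agent.BR
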