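import Cfsg.Agent.BR.Rows2
import Cfsg.Agent.S3868
import Cfsg.Agent.S2540

/-!
Row S3875: the least order of a group that is not `p`-closed.
-/

set_option autoImplicit false

namespace Cfsg.Agent.BR

open Cfsg Subgroup

universe u

section Lower

theorem not_cyclic_of_not_closed {p : ℕ} [Fact p.Prime] {G : Type u} [Group G]
    (h : ¬ IsPClosed p G) : ¬ IsCyclic G := by
  intro hc
  apply h
  intro P
  letI := hc.commGroup
  infer_instance

theorem lower {p : ℕ} [hpf : Fact p.Prime] (hp2 : p ≠ 2) {m : ℕ}
    (hleast : ∀ k : ℕ, IsPrimePow k → k % p = 1 → m ≤ k) :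
    ∀ (k : ℕ) (H : Type u) [Group H] [Finite H], Nat.card H = k → ¬ IsPClosed p H →
      min (p * m) (p * (p ^ 2 - 1) / 2) ≤ k := by
  intro k
  induction k using Nat.strong_induction_on with
  | _ k ih =>
  intro H _ _ hk hH
  have hp := hpf.out
  have hp1 := hp.one_lt
  have hodd : Odd p := hp.odd_of_ne_two hp2
  by_cases hsub : ∀ K : Subgroup H, K ≠ ⊤ → IsPClosed p K
  swap
  · push Not at hsub
    obtain ⟨K, hK, hKc⟩ := hsub
    have h1 : Nat.card K < k := by
      rw [← hk]
      refine lt_of_le_of_ne (Subgroup.card_le_card_group K) ?_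
      intro h
      exact hK (Subgroup.eq_top_of_card_eq K h)
    exact (ih _ h1 K rfl hKc).trans h1.le
  by_cases hquo : ∀ (N : Subgroup H) [N.Normal], N ≠ ⊥ → IsPClosed p (H ⧸ N)
  swap
  · push Not at hquo
    obtain ⟨N, hN, hN1, hNc⟩ := hquo
    have h1 : Nat.card (H ⧸ N) < k := by
      rw [← hk, ← N.card_mul_index]
      have h2 : N.index = Nat.card (H ⧸ N) := rfl
      rw [h2]
      have h3 : 1 < Nat.card N := by
        have h4 : Nat.card N ≠ 1 := by
          intro h; exact hN1 (Subgroup.card_eq_one.mp h)
        have : 0 < Nat.card N := Nat.card_pos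
        omega
      have h4 : 0 < Nat.card (H ⧸ N) := Nat.card_pos
      nlinarith
    exact (ih _ h1 (H ⧸ N) rfl hNc).trans h1.le
  by_cases hs : IsSimpleGroup H
  · -- the simple case
    have hnc := not_cyclic_of_not_closed hH
    have hdvd : p ∣ Nat.card H := by
      by_contra hcon
      apply hH
      intro P
      have h1 : (P : Subgroup H) = ⊥ := by
        obtain ⟨j, hj⟩ := (IsPGroup.iff_card (p := p)).mp P.2
        have h2 : Nat.card (P : Subgroup H) ∣ Nat.card H := Subgroup.card_subgroup_dvd_card _
        rw [hj] at h2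
        have h3 : j = 0 := by
          by_contra hj0
          exact hcon ((dvd_pow_self p hj0).trans h2)
        rw [h3, pow_zero] at hj
        exact Subgroup.card_eq_one.mp hj
      rw [h1]
      infer_instance
    refine (min_le_right _ _).trans ?_
    by_cases hbig : Nat.card H < p ^ 3
    · have hc := simple_row hnc hdvd hbig
      rcases hc with ⟨F, hF, hF', h1, h2, ⟨e⟩⟩ | ⟨j, F, hF, hF', h1, h2, h3, ⟨e⟩⟩
      · have h4 : 2 * Nat.card H = p * ((p - 1) * (p + 1)) := by
          rw [Nat.card_congr e.toEquiv, H14.SubField.card_PSL2_odd (by rw [h1]; exact hodd), h1]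
        have h5 : p ^ 2 - 1 = (p - 1) * (p + 1) := by
          obtain ⟨q, rfl⟩ : ∃ q, p = q + 1 := ⟨p - 1, by omega⟩
          have : (q + 1) ^ 2 = q * (q + 1 + 1) + 1 := by ring
          rw [this]; simp
        rw [h5, ← h4, ← hk]
        omega
      · have hj : j ≠ 0 := by
          rintro rfl
          rw [pow_zero] at h2
          omega
        have h4 : Nat.card H = p * ((p - 1) * (p - 2)) := by
          obtain ⟨e'⟩ := sl_equiv_psl hj h1
          rw [Nat.card_congr (e.trans e'.symm).toEquiv, card_SL hj h1]
          have e1 : p - 1 = 2 ^ j := by omega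
          have e2 : p - 2 = 2 ^ j - 1 := by omega
          rw [e1, e2, ← h2]; ring
        rw [← hk, h4]
        apply Nat.div_le_of_le_mul
        have hp4 : p ≠ 4 := by
          rintro rfl
          exact absurd hp (by decide)
        obtain ⟨q, rfl⟩ : ∃ q, p = q + 5 := ⟨p - 5, by omega⟩
        have e1 : q + 5 - 1 = q + 4 := by omega
        have e2 : q + 5 - 2 = q + 3 := by omega
        rw [e1, e2]
        have e3 : (q + 5) ^ 2 - 1 = (q + 4) * (q + 6) := by
          have : (q + 5) ^ 2 = (q + 4) * (q + 6) + 1 := by ring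
          rw [this]; simp
        rw [e3]
        nlinarith [Nat.zero_le (q * q * q), Nat.zero_le (q * q)]
    · push Not at hbig
      rw [← hk]
      refine le_trans ?_ hbig
      apply Nat.div_le_of_le_mul
      have h1 : p ^ 2 - 1 ≤ p ^ 2 := Nat.sub_le _ _
      have h2 : p * (p ^ 2 - 1) ≤ p * p ^ 2 := Nat.mul_le_mul_left p h1
      have h3 : p * p ^ 2 = p ^ 3 := by ring
      omega
  · obtain ⟨q, hq, hqp, hcard, -⟩ := S3868.result hH hsub hquo hs
    refine (min_le_left _ _).trans ?_
    rw [← hk, hcard]
    apply Nat.mul_le_mul_left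
    apply hleast
    · have h1 : orderOf (q : ZMod p) ≠ 0 := by
        intro h
        have hu : IsUnit (q : ZMod p) := by
          rw [isUnit_iff_ne_zero]
          intro h0
          rw [ZMod.natCast_eq_zero_iff] at h0
          exact hqp ((Nat.prime_dvd_prime_iff_eq hp hq).mp h0).symm
        obtain ⟨w, hw⟩ := hu
        rw [← hw, orderOf_units] at h
        exact (orderOf_pos w).ne' h
      exact (isPrimePow_nat_iff _).mpr ⟨q, orderOf (q : ZMod p), hq, Nat.pos_of_ne_zero h1, rfl⟩
    · have h1 : ((q ^ orderOf (q : ZMod p) : ℕ) : ZMod p) = ((1 : ℕ) : ZMod p) := by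
        push_cast
        exact pow_orderOf_eq_one _
      rw [ZMod.natCast_eq_natCast_iff] at h1
      have h2 : q ^ orderOf (q : ZMod p) % p = 1 % p := h1
      rw [h2, Nat.mod_eq_of_lt hp1]

end Lower

section Affine

variable {F : Type} [Field F] [Finite F]

/-- the action of a group of units. -/
noncomputable def actF (C : Subgroup Fˣ) : C →* MulAut (Multiplicative F) where
  toFun c :=
    { toFun := fun x => Multiplicative.ofAdd (((c : Fˣ) : F) * x.toAdd)
      invFun := fun x => Multiplicative.ofAdd ((((c : Fˣ)⁻¹ : Fˣ) : F) * x.toAdd)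
      left_inv := fun x => by simp
      right_inv := fun x => by simp
      map_mul' := fun x y => by
        apply Multiplicative.toAdd.injective
        simp [mul_add] }
  map_one' := by ext x; simp
  map_mul' a b := by ext x; simp [mul_assoc]

theorem affine_not_closed {p : ℕ} [hp : Fact p.Prime] (C : Subgroup Fˣ) (hC : Nat.card C = p)
    (hF : Nat.card F % p = 1) : ¬ IsPClosed p (Multiplicative F ⋊[actF C] C) := by
  classical
  intro hcl
  have : Finite (Multiplicative F ⋊[actF C] C) := by
    refine Nat.finite_of_card_ne_zero ?_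
    rw [SemidirectProduct.card]
    have h1 : 0 < Nat.card (Multiplicative F) := Nat.card_pos
    have h2 : 0 < Nat.card C := Nat.card_pos
    positivity
  -- a nontrivial element of `C`
  have hC1 : C ≠ ⊥ := by
    intro h
    rw [h, Subgroup.card_bot] at hC
    exact hp.out.one_lt.ne hC
  obtain ⟨c, hc, hc1⟩ := C.bot_or_exists_ne_one.resolve_left hC1
  -- the Sylow subgroup containing it
  have hcard : Nat.card (Multiplicative F ⋊[actF C] C) = Nat.card F * p := by
    rw [SemidirectProduct.card, hC]; rfl
  set R : Subgroup (Multiplicative F ⋊[actF C] C) := (SemidirectProduct.inr).range with hR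
  have hRc : Nat.card R = p := by
    rw [hR, ← Nat.card_congr (MonoidHom.ofInjective SemidirectProduct.inr_injective).toEquiv, hC]
  have hpos : 0 < p := hp.out.pos
  have hRi : ¬ p ∣ R.index := by
    have h1 := R.card_mul_index
    rw [hRc, hcard] at h1
    have h2 : R.index = Nat.card F := Nat.eq_of_mul_eq_mul_left hpos (by rw [h1, mul_comm])
    rw [h2]
    intro h
    rw [Nat.mod_eq_zero_of_dvd h] at hF
    exact absurd hF (by norm_num)
  have hRn : R.Normal := by
    have h1 : IsPGroup p R := IsPGroup.of_card (n := 1) (by rw [hRc, pow_one])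
    have h2 := hcl (h1.toSylow hRi)
    exact h2
  -- conjugate of `c` by `1 ∈ F`
  let a : Multiplicative F := Multiplicative.ofAdd (1 : F)
  have h3 := hRn.conj_mem (SemidirectProduct.inr ⟨c, hc⟩) ⟨⟨c, hc⟩, rfl⟩ (SemidirectProduct.inl a)
  obtain ⟨d, hd⟩ := h3
  have h4 := congrArg SemidirectProduct.left hd
  simp only [SemidirectProduct.left_inr, SemidirectProduct.mul_left, SemidirectProduct.left_inl,
    SemidirectProduct.right_inl, SemidirectProduct.right_inr, SemidirectProduct.mul_right,
    map_one, MulAut.one_apply, one_mul, mul_one, SemidirectProduct.inv_left,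
    SemidirectProduct.inv_right, inv_one] at h4
  -- `1 = a * (c a⁻¹)`
  apply hc1
  have h5 := congrArg Multiplicative.toAdd h4
  simp only [a, actF, MonoidHom.coe_mk, OneHom.coe_mk, MulEquiv.coe_mk, Equiv.coe_fn_mk,
    toAdd_mul, toAdd_one, toAdd_ofAdd, toAdd_inv, mul_neg, mul_one] at h5
  apply Units.ext
  rw [Units.val_one]
  have : (0 : F) = 1 + -(c : F) := h5
  linear_combination this

end Affine

end Cfsg.Agent.BR
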