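import Cfsg.Agent.BR.Data
import Cfsg.Prelude.Def_Solvable

/-!
Degrees of the principal block when the third alternative fails, and self-centralization.
-/

set_option autoImplicit false

open scoped ComplexConjugate

namespace Cfsg.Agent.BR

open Cfsg Subgroup
open Cfsg.Agent.CharBase (oneIrr)

universe u

section

variable {G : Type u} [Group G] [Finite G] {p : ℕ} [hp : Fact p.Prime] {P : Subgroup G}

/-- a character with no `P`-fixed vectors has trace zero on the `P`-fixed vectors. -/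
theorem noFix {χ : G → ℂ} (hχ : IsCharacter G χ) (P : Subgroup G) [Fintype P]
    (h0 : ∑ x : P, χ x = 0) {v : G} (hv : v ∈ normalizer (P : Set G)) :
    ∑ x : P, χ (x * v) = 0 := by
  classical
  have := Fintype.ofFinite G
  set L := normalizer (P : Set G) with hL
  have := Fintype.ofFinite L
  have := Fintype.ofFinite (P.subgroupOf L)
  have hχL : IsCharacter L (fun l : L => χ l) := CharBase.isCharacter_restrict hχ L
  have e : ∀ w : L, ∑ x : P, χ (x * w) = ∑ x : P.subgroupOf L, χ (((x : L) * w : L) : G) := by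
    intro w
    refine Fintype.sum_equiv (Subgroup.subgroupOfEquivOfLe (Subgroup.le_normalizer (H := P))).symm.toEquiv
      _ _ ?_
    intro x
    rfl
  have h1 := Char.avgN_isCharacter (P.subgroupOf L) hχL
  have h2 : Char.avgN (P.subgroupOf L) (fun l : L => χ l) 1 = 0 := by
    rw [Char.avgN_apply, ← e 1]
    simp [h0]
  have h3 := Char.eq_zero_of_degree_zero h1 h2
  have h4 := congrFun h3 ⟨v, hv⟩
  rw [Char.avgN_apply, ← e ⟨v, hv⟩] at h4
  have h5 : (Nat.card (P.subgroupOf L) : ℂ)⁻¹ ≠ 0 := by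
    have : (Nat.card (P.subgroupOf L) : ℂ) ≠ 0 := by exact_mod_cast Nat.card_pos.ne'
    exact inv_ne_zero this
  exact (mul_eq_zero.mp h4).resolve_left h5

theorem Data.degree_pos_one (B : Data p P) (hP : Sp p P) (hperf : commutator G = ⊤) {n : ℕ}
    (hD : (normalizer (P : Set G)).index = 1 + n * p) (hT : ¬ Third p n)
    {χ : IrrCharacter G} (hχ : χ ∈ B.X) (h1 : B.δ χ = 1) (hne : χ ≠ oneIrr G) :
    dg χ = 1 + n * p := by
  have h2 := B.congr_X hP hχ
  rw [h1] at h2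
  have h3 := B.dvd_X hP hχ
  rw [hD] at h3
  have h4 : dg χ ∣ (p - 1) * (1 + n * p) := by
    refine h3.trans (Nat.mul_dvd_mul_right ?_ _)
    exact ⟨B.Y.card, by rw [← B.cardY]; ring⟩
  have h5 := dg_pos χ
  obtain ⟨u, hu⟩ : ∃ u : ℕ, dg χ = 1 + u * p := by
    obtain ⟨u, hu⟩ := h2
    have hu0 : 0 ≤ u := by
      by_contra hcon
      push Not at hcon
      have : (p : ℤ) * u ≤ -p := by nlinarith [hp.out.two_le]
      have : (2 : ℤ) ≤ p := by exact_mod_cast hp.out.two_le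
      have : (1 : ℤ) ≤ dg χ := by exact_mod_cast h5
      linarith
    obtain ⟨u', rfl⟩ := Int.eq_ofNat_of_zero_le hu0
    refine ⟨u', ?_⟩
    have : (dg χ : ℤ) = ((1 + u' * p : ℕ) : ℤ) := by push_cast; linarith
    exact_mod_cast this
  rcases Nat.eq_zero_or_pos u with h | h
  · subst h
    rw [zero_mul, add_zero] at hu
    exact absurd (eq_one_of_perfect hperf hu) hne
  · rw [hu] at h4
    rw [hu, dvd_one hp.out.two_le hT h h4]

theorem Data.degree_neg_one (B : Data p P) (hP : Sp p P) {n : ℕ}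
    (hD : (normalizer (P : Set G)).index = 1 + n * p) (hT : ¬ Third p n)
    {χ : IrrCharacter G} (hχ : χ ∈ B.X) (h1 : B.δ χ = -1) :
    dg χ = p - 1 ∨ dg χ = (p - 1) * (1 + n * p) := by
  have h2 := B.congr_X hP hχ
  rw [h1] at h2
  have h3 := B.dvd_X hP hχ
  rw [hD] at h3
  have h4 : dg χ ∣ (p - 1) * (1 + n * p) := by
    refine h3.trans (Nat.mul_dvd_mul_right ?_ _)
    exact ⟨B.Y.card, by rw [← B.cardY]; ring⟩
  refine dvd_neg_one hp.out.two_le hT ?_ h4
  have : (p : ℤ) ∣ ((dg χ + 1 : ℕ) : ℤ) := by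
    push_cast
    have e : (dg χ : ℤ) - -1 = dg χ + 1 := by ring
    rwa [e] at h2
  exact_mod_cast this

/-- multiples of the exceptional degree. -/
theorem Data.degree_Y (B : Data p P) (hP : Sp p P) (hperf : commutator G = ⊤) {n : ℕ}
    (hD : (normalizer (P : Set G)).index = 1 + n * p) (hT : ¬ Third p n)
    {ψ : IrrCharacter G} (hψ : ψ ∈ B.Y) :
    (B.δ₀ = 1 ∧ B.Y.card * dg ψ = 1 + n * p) ∨
      (B.δ₀ = -1 ∧ (dg ψ = ind P ∨ dg ψ = ind P * (1 + n * p))) := by
  have h2 := B.congr_Y hP hψ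
  have h3 := B.dvd_Y hP hψ
  rw [hD] at h3
  have hte := B.cardY
  set t := B.Y.card with ht
  have ht1 : 0 < t := Finset.card_pos.mpr ⟨ψ, hψ⟩
  have h4 : t * dg ψ ∣ (p - 1) * (1 + n * p) := by
    rw [← hte, mul_assoc]
    exact Nat.mul_dvd_mul_left _ h3
  have h5 := dg_pos ψ
  have h6 : (p : ℤ) ∣ ((t * dg ψ : ℕ) : ℤ) - B.δ₀ := by
    have e1 : ((t * dg ψ : ℕ) : ℤ) - B.δ₀ = t * ((dg ψ : ℤ) + B.δ₀ * ind P) - p * B.δ₀ := by
      have e2 : ((t * ind P : ℕ) : ℤ) = p - 1 := by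
        rw [hte, Nat.cast_sub hp.out.one_lt.le]; simp
      push_cast at e2 ⊢
      linear_combination (-B.δ₀) * e2
    rw [e1]
    exact dvd_sub (Dvd.dvd.mul_left h2 _) (Dvd.intro _ rfl)
  rcases B.sgn₀ with h | h
  · left
    refine ⟨h, ?_⟩
    rw [h] at h6
    obtain ⟨u, hu⟩ : ∃ u : ℕ, t * dg ψ = 1 + u * p := by
      obtain ⟨u, hu⟩ := h6
      have h7 : 0 < t * dg ψ := Nat.mul_pos ht1 h5
      have hu0 : 0 ≤ u := by
        by_contra hcon
        push Not at hcon
        have : (p : ℤ) * u ≤ -p := by nlinarith [hp.out.two_le]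
        have : (2 : ℤ) ≤ p := by exact_mod_cast hp.out.two_le
        have : (1 : ℤ) ≤ ((t * dg ψ : ℕ) : ℤ) := by exact_mod_cast h7
        linarith
      obtain ⟨u', rfl⟩ := Int.eq_ofNat_of_zero_le hu0
      refine ⟨u', ?_⟩
      have : ((t * dg ψ : ℕ) : ℤ) = ((1 + u' * p : ℕ) : ℤ) := by push_cast at hu ⊢; linarith
      exact_mod_cast this
    rcases Nat.eq_zero_or_pos u with h | h
    · subst h
      rw [zero_mul, add_zero] at hu
      have h8 : dg ψ = 1 := Nat.eq_one_of_mul_eq_one_left hu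
      have h9 := eq_one_of_perfect hperf h8
      rw [h9] at hψ
      exact absurd hψ (Finset.disjoint_left.mp B.disj B.one_mem)
    · rw [hu] at h4
      rw [hu, dvd_one hp.out.two_le hT h h4]
  · right
    refine ⟨h, ?_⟩
    rw [h] at h6
    have h7 := dvd_neg_one (m := t * dg ψ) hp.out.two_le hT (by
      have : (p : ℤ) ∣ ((t * dg ψ + 1 : ℕ) : ℤ) := by
        push_cast at h6 ⊢
        have e : (t : ℤ) * dg ψ - -1 = t * dg ψ + 1 := by ring
        rwa [e] at h6
      exact_mod_cast this) h4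
    rcases h7 with h8 | h8
    · left
      rw [← hte] at h8
      exact Nat.eq_of_mul_eq_mul_left ht1 h8
    · right
      rw [← hte, mul_assoc] at h8
      exact Nat.eq_of_mul_eq_mul_left ht1 h8

/-- number of nontrivial positive non-exceptional characters. -/
noncomputable def Data.a (B : Data p P) : ℕ :=
  Nat.card {χ : IrrCharacter G // χ ∈ B.X ∧ B.δ χ = 1 ∧ χ ≠ oneIrr G}

/-- number of negative non-exceptional characters. -/
noncomputable def Data.b (B : Data p P) : ℕ :=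
  Nat.card {χ : IrrCharacter G // χ ∈ B.X ∧ B.δ χ = -1}

/-- **The degrees.** -/
structure Shape (B : Data p P) (n : ℕ) : Prop where
  pos : ∀ χ ∈ B.X, B.δ χ = 1 → χ ≠ oneIrr G → dg χ = 1 + n * p
  neg : ∀ χ ∈ B.X, B.δ χ = -1 → dg χ = p - 1
  card : B.a + B.b + 1 = ind P
  cases : (B.δ₀ = 1 ∧ (∀ ψ ∈ B.Y, B.Y.card * dg ψ = 1 + n * p) ∧
      ∃ m, 1 ≤ m ∧ (∀ ψ ∈ B.Y, dg ψ + ind P = m * p) ∧ B.Y.card * m = n + 1 ∧
        B.b = B.a * n + m) ∨
    (B.δ₀ = -1 ∧ (∀ ψ ∈ B.Y, dg ψ = ind P) ∧ B.a * (n + 1) + 1 = ind P ∧ B.b = B.a * n)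

theorem Data.shape (B : Data p P) (hP : Sp p P) (hp3 : 3 ≤ p) (hperf : commutator G = ⊤) {n : ℕ}
    (hn : 1 ≤ n) (hD : (normalizer (P : Set G)).index = 1 + n * p) (hT : ¬ Third p n) :
    Shape B n := by
  classical
  have := Fintype.ofFinite G
  have := Fintype.ofFinite (IrrCharacter G)
  obtain ⟨ψ, hψ⟩ := B.Y_nonempty (by omega)
  have hpos := fun χ hχ h1 hne => B.degree_pos_one hP hperf hD hT (χ := χ) hχ h1 hne
  have hneg := fun χ hχ h1 => B.degree_neg_one hP hD hT (χ := χ) hχ h1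
  have hY := B.degree_Y hP hperf hD hT hψ
  set XA := B.X.filter (fun χ => B.δ χ = 1 ∧ χ ≠ oneIrr G) with hXA
  set XB := B.X.filter (fun χ => B.δ χ = -1 ∧ dg χ = p - 1) with hXB
  set XC := B.X.filter (fun χ => B.δ χ = -1 ∧ dg χ ≠ p - 1) with hXC
  have hδ1 := B.δ_one hP
  -- decomposition of sums over X
  have hdec : ∀ F : IrrCharacter G → ℤ, ∑ χ ∈ B.X, F χ =
      F (oneIrr G) + ∑ χ ∈ XA, F χ + ∑ χ ∈ XB, F χ + ∑ χ ∈ XC, F χ := by
    intro F
    rw [hXA, hXB, hXC, Finset.sum_filter, Finset.sum_filter, Finset.sum_filter]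
    have e1 : F (oneIrr G) = ∑ χ ∈ B.X, if χ = oneIrr G then F χ else 0 := by
      rw [Finset.sum_ite_eq' B.X (oneIrr G) F, if_pos B.one_mem]
    rw [e1, ← Finset.sum_add_distrib, ← Finset.sum_add_distrib, ← Finset.sum_add_distrib]
    refine Finset.sum_congr rfl fun χ hχ => ?_
    by_cases h1 : χ = oneIrr G
    · subst h1
      simp [hδ1]
    · rcases B.sgn χ hχ with h | h
      · simp [h, h1]
      · by_cases h2 : dg χ = p - 1
        · simp [h, h1, h2]
        · simp [h, h1, h2]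
  have hcard : 1 + XA.card + XB.card + XC.card = ind P := by
    have h := hdec (fun _ => 1)
    simp only [Finset.sum_const, nsmul_eq_mul, mul_one] at h
    rw [B.cardX] at h
    exact_mod_cast h.symm
  have hdeg := B.degEq hψ
  rw [hdec] at hdeg
  have sA : ∑ χ ∈ XA, B.δ χ * (dg χ : ℤ) = XA.card * (1 + n * p) := by
    rw [Finset.sum_congr rfl (g := fun _ => ((1 + n * p : ℕ) : ℤ))]
    · rw [Finset.sum_const, nsmul_eq_mul]; push_cast; ring
    · intro χ hχ
      rw [hXA, Finset.mem_filter] at hχ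
      rw [hχ.2.1, hpos χ hχ.1 hχ.2.1 hχ.2.2]
      push_cast; ring
  have sB : ∑ χ ∈ XB, B.δ χ * (dg χ : ℤ) = - (XB.card * ((p - 1 : ℕ) : ℤ)) := by
    rw [Finset.sum_congr rfl (g := fun _ => -(((p - 1 : ℕ) : ℤ)))]
    · rw [Finset.sum_const, nsmul_eq_mul]; ring
    · intro χ hχ
      rw [hXB, Finset.mem_filter] at hχ
      rw [hχ.2.1, hχ.2.2]
      ring
  have sC : ∑ χ ∈ XC, B.δ χ * (dg χ : ℤ) = - (XC.card * (((p - 1) * (1 + n * p) : ℕ) : ℤ)) := by
    rw [Finset.sum_congr rfl (g := fun _ => -((((p - 1) * (1 + n * p) : ℕ) : ℤ)))]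
    · rw [Finset.sum_const, nsmul_eq_mul]; ring
    · intro χ hχ
      rw [hXC, Finset.mem_filter] at hχ
      rw [hχ.2.1, (hneg χ hχ.1 hχ.2.1).resolve_left hχ.2.2]
      ring
  have s1 : B.δ (oneIrr G) * (dg (oneIrr G) : ℤ) = 1 := by
    rw [hδ1]
    have : dg (oneIrr G) = 1 := H79.charDegree_eq (by rw [CharBase.oneIrr_apply]; simp)
    rw [this]; norm_num
  rw [sA, sB, sC, s1] at hdeg
  have hA : B.a = XA.card := by
    unfold Data.a
    rw [Nat.card_eq_fintype_card, Fintype.card_subtype]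
    congr 1
    ext χ
    simp [hXA]
  have hB : B.b = XB.card + XC.card := by
    unfold Data.b
    rw [Nat.card_eq_fintype_card, Fintype.card_subtype, ← Finset.card_union_of_disjoint]
    · congr 1
      ext χ
      simp only [hXB, hXC, Finset.mem_filter, Finset.mem_univ, true_and, Finset.mem_union]
      tauto
    · rw [Finset.disjoint_left]
      intro χ h1 h2
      rw [hXB, Finset.mem_filter] at h1
      rw [hXC, Finset.mem_filter] at h2
      exact h2.2.2 h1.2.2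
  -- the equation
  have key : XC.card = 0 ∧ ((B.δ₀ = 1 ∧ (∀ ψ ∈ B.Y, B.Y.card * dg ψ = 1 + n * p) ∧
      ∃ m, 1 ≤ m ∧ (∀ ψ ∈ B.Y, dg ψ + ind P = m * p) ∧ B.Y.card * m = n + 1 ∧
        XB.card = XA.card * n + m) ∨
    (B.δ₀ = -1 ∧ (∀ ψ ∈ B.Y, dg ψ = ind P) ∧ XA.card * (n + 1) + 1 = ind P ∧
      XB.card = XA.card * n)) := by
    rcases hY with ⟨h0, h1⟩ | ⟨h0, h1⟩
    · rw [h0] at hdeg
      have heq : 1 + XA.card * (1 + n * p) + dg ψ =
          XB.card * (p - 1) + XC.card * ((p - 1) * (1 + n * p)) := by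
        zify
        push_cast at hdeg ⊢
        linarith
      obtain ⟨hc, m, hm1, hm2, hm3, hm4⟩ := degEq_two hp3 hn B.cardY
        (by omega : XA.card + XB.card + XC.card + 1 = ind P) h1 heq
      refine ⟨hc, Or.inl ⟨h0, fun ψ' hψ' => ?_, m, hm4, fun ψ' hψ' => ?_, hm3, hm2⟩⟩
      · rw [B.dg_Y hψ' hψ]; exact h1
      · rw [B.dg_Y hψ' hψ]; exact hm1
    · rw [h0] at hdeg
      have heq : 1 + XA.card * (1 + n * p) =
          XB.card * (p - 1) + XC.card * ((p - 1) * (1 + n * p)) + dg ψ := by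
        zify
        push_cast at hdeg ⊢
        linarith
      obtain ⟨hc, hm1, hm2, hm3⟩ := degEq_one hp3 hn B.cardY
        (by omega : XA.card + XB.card + XC.card + 1 = ind P) h1 heq
      refine ⟨hc, Or.inr ⟨h0, fun ψ' hψ' => ?_, hm3, hm2⟩⟩
      rw [B.dg_Y hψ' hψ]; exact hm1
  obtain ⟨hc, key⟩ := key
  have hB' : B.b = XB.card := by rw [hB, hc, add_zero]
  refine ⟨hpos, ?_, ?_, ?_⟩
  · intro χ hχ h1
    by_contra hne
    have : χ ∈ XC := by
      rw [hXC, Finset.mem_filter]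
      exact ⟨hχ, h1, hne⟩
    rw [Finset.card_eq_zero.mp hc] at this
    exact absurd this (Finset.notMem_empty _)
  · rw [hA, hB']; omega
  · rw [hA, hB']; exact key

end

end Cfsg.Agent.BR
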