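import Cfsg.Agent.BR.Frob

/-!
Characters induced from linear characters of the normalizer of a self-centralizing subgroup of
prime order.
-/

set_option autoImplicit false

open scoped ComplexConjugate

namespace Cfsg.Agent.BR

open Cfsg Subgroup
open Cfsg.Agent.CharBase (oneIrr)

universe u

section

variable {G : Type u} [Group G] [Fintype G] {p : ℕ} [hp : Fact p.Prime] {P : Subgroup G}

/-- powers of the linear character `ρ`. -/
noncomputable def lamHom (ρ : normalizer (P : Set G) →* ℂˣ) (j : ℕ) :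
    normalizer (P : Set G) →* ℂ := ((Units.coeHom ℂ).comp ρ) ^ j

noncomputable def lam (ρ : normalizer (P : Set G) →* ℂˣ) (j : ℕ) :
    normalizer (P : Set G) → ℂ := lamHom ρ j

theorem lam_apply (ρ : normalizer (P : Set G) →* ℂˣ) (j : ℕ) (y : normalizer (P : Set G)) :
    lam ρ j y = ((ρ y : ℂˣ) : ℂ) ^ j := rfl

theorem lam_mul (ρ : normalizer (P : Set G) →* ℂˣ) (j : ℕ) (y z : normalizer (P : Set G)) :
    lam ρ j (y * z) = lam ρ j y * lam ρ j z := by
  rw [lam_apply, lam_apply, lam_apply, map_mul, Units.val_mul, mul_pow]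

theorem lam_isIrr (ρ : normalizer (P : Set G) →* ℂˣ) (j : ℕ) :
    IsIrrCharacter (normalizer (P : Set G)) (lam ρ j) := Char.isIrrCharacter_of_hom (lamHom ρ j)

theorem lam_isChar (ρ : normalizer (P : Set G) →* ℂˣ) (j : ℕ) :
    IsCharacter (normalizer (P : Set G)) (lam ρ j) := Char.isCharacter_of_hom (lamHom ρ j)

/-- the induced character. -/
noncomputable def Phi (ρ : normalizer (P : Set G) →* ℂˣ) (j : ℕ) : G → ℂ :=
  indFun (normalizer (P : Set G)) (lam ρ j)

theorem Phi_isChar (ρ : normalizer (P : Set G) →* ℂˣ) (j : ℕ) : IsCharacter G (Phi ρ j) :=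
  Char.indFun_isCharacter _ _ (lam_isChar ρ j)

theorem Phi_isClass (ρ : normalizer (P : Set G) →* ℂˣ) (j : ℕ) : IsClassFunction G (Phi ρ j) :=
  CharBase.isClassFunction_of_isCharacter (Phi_isChar ρ j)

theorem Phi_one (ρ : normalizer (P : Set G) →* ℂˣ) (j : ℕ) :
    Phi ρ j 1 = (normalizer (P : Set G)).index := by
  unfold Phi
  rw [Char.indFun_one_apply, lam_apply, map_one]
  simp

theorem Phi_P (hP : Sp p P) {ρ : normalizer (P : Set G) →* ℂˣ}
    (hρ : ∀ y : normalizer (P : Set G), ρ y = 1 ↔ (y : G) ∈ P) (j : ℕ) {x : G} (hx : x ∈ P)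
    (hx1 : x ≠ 1) : Phi ρ j x = 1 := by
  classical
  unfold Phi indFun
  have h1 : ∀ g : G, extendByZero (normalizer (P : Set G)) (lam ρ j) (g⁻¹ * x * g) =
      if g ∈ normalizer (P : Set G) then 1 else 0 := by
    intro g
    by_cases hg : g ∈ normalizer (P : Set G)
    · rw [if_pos hg]
      have h2 : g⁻¹ * x * g ∈ P := (hP.conj_iff hx hx1).mpr hg
      rw [Char.extendByZero_of_mem _ _ (Subgroup.le_normalizer h2), lam_apply,
        (hρ ⟨_, Subgroup.le_normalizer h2⟩).mpr h2]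
      simp
    · rw [if_neg hg, Char.extendByZero_of_notMem]
      intro h
      exact hg (hP.mem_normalizer_of_conj hx hx1 h)
  rw [Finset.sum_congr rfl (fun g _ => h1 g), ← Finset.sum_filter, Finset.sum_const, nsmul_eq_mul,
    mul_one]
  have h3 : (Finset.univ.filter (fun g : G => g ∈ normalizer (P : Set G))).card =
      Nat.card (normalizer (P : Set G)) := by
    rw [Nat.card_eq_fintype_card, Fintype.card_subtype]
  rw [h3]
  exact inv_mul_cancel₀ (by exact_mod_cast Nat.card_pos.ne')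

theorem Phi_eq_zero {ρ : normalizer (P : Set G) →* ℂˣ} (j : ℕ) {z : G}
    (hz : ∀ g : G, g⁻¹ * z * g ∉ normalizer (P : Set G)) : Phi ρ j z = 0 := by
  unfold Phi indFun
  rw [Finset.sum_eq_zero, mul_zero]
  intro g _
  exact Char.extendByZero_of_notMem _ _ (hz g)

/-- multiplicities of irreducible characters in the induced characters. -/
theorem Phi_inner (ρ : normalizer (P : Set G) →* ℂˣ) (j : ℕ) [Fintype (normalizer (P : Set G))]
    {χ : G → ℂ} (hχ : IsClassFunction G χ) :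
    classInner (Phi ρ j) χ = (Nat.card (normalizer (P : Set G)) : ℂ)⁻¹ *
      ∑ y : normalizer (P : Set G), lam ρ j y * conj (χ y) := by
  unfold Phi
  rw [Char.frobenius_reciprocity _ _ _ hχ]
  rfl

/-- functions with vanishing averages over the cosets of `P`. -/
theorem inner_zero (hP : Sp p P) {ρ : normalizer (P : Set G) →* ℂˣ}
    (hρ : ∀ y : normalizer (P : Set G), ρ y = 1 ↔ (y : G) ∈ P) (j : ℕ)
    [Fintype (normalizer (P : Set G))] [Fintype P] {F : G → ℂ}
    (hF : ∀ y ∈ normalizer (P : Set G), ∑ x : P, F (x * y) = 0) :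
    ∑ y : normalizer (P : Set G), lam ρ j y * conj (F y) = 0 := by
  have hp0 : (p : ℂ) ≠ 0 := by exact_mod_cast hp.out.ne_zero
  have h1 : ∀ x : P, ∑ y : normalizer (P : Set G), lam ρ j y * conj (F y) =
      ∑ y : normalizer (P : Set G), lam ρ j y * conj (F (x * y)) := by
    intro x
    have hx : (x : G) ∈ normalizer (P : Set G) := Subgroup.le_normalizer x.2
    refine (Fintype.sum_equiv (Equiv.mulLeft (⟨x, hx⟩ : normalizer (P : Set G))) _ _ ?_).symm
    intro y
    simp only [Equiv.coe_mulLeft]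
    rw [lam_mul]
    have h2 : lam ρ j ⟨x, hx⟩ = 1 := by
      rw [lam_apply, (hρ ⟨x, hx⟩).mpr x.2]; simp
    rw [h2, one_mul]
    rfl
  have h2 : (p : ℂ) * ∑ y : normalizer (P : Set G), lam ρ j y * conj (F y) = 0 := by
    have h3 : (p : ℂ) * ∑ y : normalizer (P : Set G), lam ρ j y * conj (F y) =
        ∑ _x : P, ∑ y : normalizer (P : Set G), lam ρ j y * conj (F y) := by
      rw [Finset.sum_const, Finset.card_univ, ← Nat.card_eq_fintype_card, hP.card, nsmul_eq_mul]
    rw [h3, Finset.sum_congr rfl (fun x _ => h1 x), Finset.sum_comm]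
    refine Finset.sum_eq_zero fun y _ => ?_
    rw [← Finset.mul_sum, ← map_sum, hF y y.2, map_zero, mul_zero]
  exact (mul_eq_zero.mp h2).resolve_left hp0

theorem Phi_inner_of_noFix (hP : Sp p P) {ρ : normalizer (P : Set G) →* ℂˣ}
    (hρ : ∀ y : normalizer (P : Set G), ρ y = 1 ↔ (y : G) ∈ P) (j : ℕ) [Fintype P]
    {χ : G → ℂ} (hχ : IsCharacter G χ) (h0 : ∑ x : P, χ x = 0) :
    classInner (Phi ρ j) χ = 0 := by
  have := Fintype.ofFinite (normalizer (P : Set G))
  rw [Phi_inner ρ j (CharBase.isClassFunction_of_isCharacter hχ),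
    inner_zero hP hρ j (fun y hy => noFix hχ P h0 hy), mul_zero]

/-- all exceptional characters have the same multiplicity. -/
theorem Data.Phi_inner_Y (B : Data p P) (hP : Sp p P) (hC : centralizer (P : Set G) = P)
    {ρ : normalizer (P : Set G) →* ℂˣ}
    (hρ : ∀ y : normalizer (P : Set G), ρ y = 1 ↔ (y : G) ∈ P) (j : ℕ)
    {ψ ψ' : IrrCharacter G} (hψ : ψ ∈ B.Y) (hψ' : ψ' ∈ B.Y) :
    classInner (Phi ρ j) (ψ : G → ℂ) = classInner (Phi ρ j) (ψ' : G → ℂ) := by
  have := Fintype.ofFinite (normalizer (P : Set G))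
  have := Fintype.ofFinite P
  rw [Phi_inner ρ j (CharBase.irr_isClassFunction ψ), Phi_inner ρ j (CharBase.irr_isClassFunction ψ')]
  congr 1
  rw [← sub_eq_zero, ← Finset.sum_sub_distrib]
  have h := inner_zero hP hρ j (F := fun g => (ψ : G → ℂ) g - (ψ' : G → ℂ) g) (by
    intro y hy
    by_cases hyP : y ∈ P
    · have h1 : ∀ χ : G → ℂ, ∑ x : P, χ (x * y) = ∑ x : P, χ x := by
        intro χ
        refine Fintype.sum_equiv (Equiv.mulRight (⟨y, hyP⟩ : P)) _ _ ?_
        intro x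
        rfl
      rw [Finset.sum_sub_distrib, h1, h1, B.sum_Y hψ, B.sum_Y hψ', B.dg_Y hψ hψ', sub_self]
    · refine Finset.sum_eq_zero fun x _ => ?_
      rw [sub_eq_zero]
      refine B.Y_eq hψ hψ' (reg_of_notMem hP hC ?_ ?_)
      · exact Subgroup.mul_mem _ (Subgroup.le_normalizer x.2) hy
      · intro h
        exact hyP ((P.mul_mem_cancel_left x.2).mp h))
  rw [← h]
  refine Finset.sum_congr rfl fun y _ => ?_
  rw [map_sub]
  ring

/-- the evaluation identity. -/
theorem Data.Phi_eval (B : Data p P) (hP : Sp p P) (hC : centralizer (P : Set G) = P)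
    {ρ : normalizer (P : Set G) →* ℂˣ}
    (hρ : ∀ y : normalizer (P : Set G), ρ y = 1 ↔ (y : G) ∈ P) (j : ℕ)
    {ψ : IrrCharacter G} (hψ : ψ ∈ B.Y) :
    ∑ χ ∈ B.X, (B.δ χ : ℂ) * classInner (Phi ρ j) (χ : G → ℂ) +
      B.δ₀ * classInner (Phi ρ j) (ψ : G → ℂ) = 1 := by
  classical
  have := Fintype.ofFinite P
  have := Fintype.ofFinite (IrrCharacter G)
  set S : (G → ℂ) → ℂ := fun F => ∑ x ∈ (Finset.univ : Finset P).erase 1, F x with hS
  have hcard : ((Finset.univ : Finset P).erase 1).card = p - 1 := by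
    rw [Finset.card_erase_of_mem (Finset.mem_univ _), Finset.card_univ, ← Nat.card_eq_fintype_card,
      hP.card]
  have hp1 : ((p - 1 : ℕ) : ℂ) ≠ 0 := by
    have := hp.out.two_le
    exact_mod_cast (by omega : p - 1 ≠ 0)
  have hx1 : ∀ x ∈ (Finset.univ : Finset P).erase 1, (x : G) ≠ 1 := by
    intro x hx h
    exact (Finset.mem_erase.mp hx).1 (Subtype.ext h)
  have hSΦ : S (Phi ρ j) = (p - 1 : ℕ) := by
    rw [hS]
    change ∑ x ∈ (Finset.univ : Finset P).erase 1, Phi ρ j x = _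
    rw [Finset.sum_congr rfl (fun x hx => Phi_P hP hρ j x.2 (hx1 x hx)), Finset.sum_const, hcard,
      nsmul_eq_mul, mul_one]
  have hSX : ∀ χ ∈ B.X, S (χ : G → ℂ) = (p - 1 : ℕ) * B.δ χ := by
    intro χ hχ
    rw [hS]
    change ∑ x ∈ (Finset.univ : Finset P).erase 1, (χ : G → ℂ) x = _
    rw [Finset.sum_congr rfl (fun x hx => B.val_one hχ x.2 (hx1 x hx)), Finset.sum_const, hcard,
      nsmul_eq_mul]
  have hSY : ∀ χ ∈ B.Y, S (χ : G → ℂ) = B.δ₀ * ind P := by
    intro χ hχ
    have h1 := B.sum_Y hχ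
    rw [sum_P_split (fun x : P => (χ : G → ℂ) x)] at h1
    have h2 : (χ : G → ℂ) ((1 : P) : G) = (dg χ : ℂ) := by rw [← dg_eq]; rfl
    rw [h2] at h1
    exact add_left_cancel h1
  have hSO : ∀ χ : IrrCharacter G, χ ∉ B.X → χ ∉ B.Y → S (χ : G → ℂ) = 0 := by
    intro χ h1 h2
    rw [hS]
    change ∑ x ∈ (Finset.univ : Finset P).erase 1, (χ : G → ℂ) x = _
    exact Finset.sum_eq_zero fun x hx => B.out hC χ h1 h2 x x.2 (hx1 x hx)
  have hexp : S (Phi ρ j) = ∑ χ : IrrCharacter G, classInner (Phi ρ j) (χ : G → ℂ) * S χ := by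
    calc S (Phi ρ j) = ∑ x ∈ (Finset.univ : Finset P).erase 1, Phi ρ j (x : G) := rfl
      _ = ∑ x ∈ (Finset.univ : Finset P).erase 1, ∑ χ : IrrCharacter G,
          classInner (Phi ρ j) (χ : G → ℂ) * (χ : G → ℂ) (x : G) :=
        Finset.sum_congr rfl
          (fun x _ => CharBase.classFun_apply_eq_sum (Phi_isClass ρ j) (x : G))
      _ = ∑ χ : IrrCharacter G, classInner (Phi ρ j) (χ : G → ℂ) * S χ := by
        rw [Finset.sum_comm]
        exact Finset.sum_congr rfl fun χ _ => by rw [Finset.mul_sum]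
  have hsplit : ∑ χ : IrrCharacter G, classInner (Phi ρ j) (χ : G → ℂ) * S χ =
      ∑ χ ∈ B.X ∪ B.Y, classInner (Phi ρ j) (χ : G → ℂ) * S χ := by
    symm
    refine Finset.sum_subset (Finset.subset_univ _) fun χ _ hχ => ?_
    rw [Finset.mem_union, not_or] at hχ
    rw [hSO χ hχ.1 hχ.2, mul_zero]
  rw [hexp, hsplit, Finset.sum_union B.disj,
    Finset.sum_congr rfl (fun χ hχ => by rw [hSX χ hχ]),
    Finset.sum_congr (s₁ := B.Y) rfl (fun χ hχ => by
      rw [hSY χ hχ, B.Phi_inner_Y hP hC hρ j hχ hψ]), Finset.sum_const, nsmul_eq_mul] at hSΦ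
  have hte : (B.Y.card : ℂ) * ind P = ((p - 1 : ℕ) : ℂ) := by exact_mod_cast B.cardY
  apply mul_left_cancel₀ hp1
  rw [mul_one]
  conv_rhs => rw [← hSΦ]
  rw [mul_add, Finset.mul_sum]
  congr 1
  · exact Finset.sum_congr rfl fun χ _ => by ring
  · rw [← hte]; ring

end

end Cfsg.Agent.BR
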