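import Cfsg.Agent.BR.PartB

/-!
The dichotomy for the induced characters, and the permutation character on the Sylow subgroups.
-/

set_option autoImplicit false

open scoped ComplexConjugate

namespace Cfsg.Agent.BR

open Cfsg Subgroup
open Cfsg.Agent.CharBase (oneIrr)

universe u

/-- The standing situation: `G` perfect, `P` self-centralizing of prime order `p`, the number of
Sylow subgroups `1 + n p`, and the third alternative fails (in the form of `Shape`). -/
structure St {G : Type u} [Group G] [Finite G] (p : ℕ) (P : Subgroup G) (n : ℕ) where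
  hP : Sp p P
  hC : centralizer (P : Set G) = P
  B : Data p P
  hS : Shape B n
  ρ : normalizer (P : Set G) →* ℂˣ
  hρ : ∀ y : normalizer (P : Set G), ρ y = 1 ↔ (y : G) ∈ P
  hn : 1 ≤ n
  hp3 : 3 ≤ p
  hD : (normalizer (P : Set G)).index = 1 + n * p
  he : 2 ≤ ind P
  hperf : commutator G = ⊤

section

variable {G : Type u} [Group G] [Fintype G] {p : ℕ} [hp : Fact p.Prime] {P : Subgroup G} {n : ℕ}

theorem exists_st (hP : Sp p P) (hC : centralizer (P : Set G) = P) (B : Data p P) (hp3 : 3 ≤ p)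
    (hperf : commutator G = ⊤) (hn : 1 ≤ n) (hD : (normalizer (P : Set G)).index = 1 + n * p)
    (hT : ¬ Third p n) : Nonempty (St p P n) := by
  obtain ⟨ρ, hρ⟩ := exists_rho hP hC
  exact ⟨⟨hP, hC, B, B.shape hP hp3 hperf hn hD hT, ρ, hρ, hn, hp3, hD, two_le_ind hP hperf, hperf⟩⟩

variable (st : St p P n)

include st in
theorem St.index_P : (P.subgroupOf (normalizer (P : Set G))).index = ind P := by
  unfold ind Subgroup.relIndex
  rw [st.hC]

theorem St.ker_eq : st.ρ.ker = P.subgroupOf (normalizer (P : Set G)) := by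
  ext y
  rw [MonoidHom.mem_ker, st.hρ, Subgroup.mem_subgroupOf]

theorem St.card_range : Nat.card st.ρ.range = ind P := by
  rw [← Subgroup.index_ker, st.ker_eq, st.index_P]

theorem St.rho_pow (y : normalizer (P : Set G)) : (st.ρ y) ^ ind P = 1 := by
  have h := pow_card_eq_one' (x := (⟨st.ρ y, ⟨y, rfl⟩⟩ : st.ρ.range))
  rw [st.card_range] at h
  exact congrArg Subtype.val h

theorem St.exists_gen : ∃ y : normalizer (P : Set G), orderOf (st.ρ y) = ind P := by
  have hfin : Finite st.ρ.range := Nat.finite_of_card_ne_zero (by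
    rw [st.card_range]; exact (ind_pos P).ne')
  have hcyc : IsCyclic st.ρ.range := inferInstance
  obtain ⟨g, hg⟩ := IsCyclic.exists_ofOrder_eq_natCard (α := st.ρ.range)
  obtain ⟨y, hy⟩ := g.2
  refine ⟨y, ?_⟩
  rw [hy, Subgroup.orderOf_coe, hg, st.card_range]

open Classical in
theorem St.sum_lam (y : normalizer (P : Set G)) :
    ∑ j ∈ Finset.range (ind P), lam st.ρ j y = if (y : G) ∈ P then (ind P : ℂ) else 0 := by
  simp only [lam_apply]
  split_ifs with h
  · rw [(st.hρ y).mpr h]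
    simp
  · have h1 : ((st.ρ y : ℂˣ) : ℂ) ≠ 1 := by
      intro h2
      exact h ((st.hρ y).mp (Units.ext h2))
    rw [geom_sum_eq h1]
    have h2 : ((st.ρ y : ℂˣ) : ℂ) ^ ind P = 1 := by
      rw [← Units.val_pow_eq_pow_val, st.rho_pow y, Units.val_one]
    rw [h2, sub_self, zero_div]

theorem St.lam_ne {j : ℕ} (hj : ¬ ind P ∣ j) : ∃ y : normalizer (P : Set G), lam st.ρ j y ≠ 1 := by
  obtain ⟨y, hy⟩ := st.exists_gen
  refine ⟨y, fun h => hj ?_⟩
  rw [← hy]
  apply orderOf_dvd_of_pow_eq_one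
  apply Units.ext
  rw [Units.val_pow_eq_pow_val, Units.val_one]
  exact h

theorem St.sum_lam_zero {j : ℕ} (hj : ¬ ind P ∣ j) [Fintype (normalizer (P : Set G))] :
    ∑ y : normalizer (P : Set G), lam st.ρ j y = 0 := by
  obtain ⟨z, hz⟩ := st.lam_ne hj
  have h1 : ∑ y : normalizer (P : Set G), lam st.ρ j y =
      lam st.ρ j z * ∑ y : normalizer (P : Set G), lam st.ρ j y := by
    rw [Finset.mul_sum]
    refine (Fintype.sum_equiv (Equiv.mulLeft z) _ _ ?_).symm
    intro y
    simp only [Equiv.coe_mulLeft]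
    rw [lam_mul]
  have h2 : (lam st.ρ j z - 1) * ∑ y : normalizer (P : Set G), lam st.ρ j y = 0 := by
    rw [sub_mul, one_mul, ← h1, sub_self]
  exact (mul_eq_zero.mp h2).resolve_left (sub_ne_zero.mpr hz)

end

section

variable {G : Type u} [Group G] [Fintype G] {p : ℕ} [hp : Fact p.Prime] {P : Subgroup G} {n : ℕ}
  (st : St p P n)

theorem St.inner_one {j : ℕ} (hj : ¬ ind P ∣ j) :
    classInner (Phi st.ρ j) (oneIrr G : G → ℂ) = 0 := by
  have := Fintype.ofFinite (normalizer (P : Set G))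
  rw [Phi_inner st.ρ j (CharBase.irr_isClassFunction _)]
  simp only [CharBase.oneIrr_apply, map_one, mul_one]
  rw [st.sum_lam_zero hj, mul_zero]

theorem St.inner_zero_one : classInner (Phi st.ρ 0) (oneIrr G : G → ℂ) = 1 := by
  have := Fintype.ofFinite (normalizer (P : Set G))
  rw [Phi_inner st.ρ 0 (CharBase.irr_isClassFunction _)]
  simp only [CharBase.oneIrr_apply, map_one, mul_one, lam_apply, pow_zero]
  rw [Finset.sum_const, Finset.card_univ, ← Nat.card_eq_fintype_card, nsmul_eq_mul, mul_one]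
  exact inv_mul_cancel₀ (by exact_mod_cast Nat.card_pos.ne')

theorem St.inner_neg (j : ℕ) {χ : IrrCharacter G} (hχ : χ ∈ st.B.X) (hδ : st.B.δ χ = -1) :
    classInner (Phi st.ρ j) (χ : G → ℂ) = 0 := by
  have := Fintype.ofFinite P
  refine Phi_inner_of_noFix st.hP st.hρ j (CharBase.irr_isCharacter χ) ?_
  rw [st.B.sum_X st.hP hχ, hδ, st.hS.neg χ hχ hδ]
  push_cast
  ring

theorem St.inner_Y_neg (j : ℕ) (h0 : st.B.δ₀ = -1) {ψ : IrrCharacter G} (hψ : ψ ∈ st.B.Y) :
    classInner (Phi st.ρ j) (ψ : G → ℂ) = 0 := by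
  have := Fintype.ofFinite P
  refine Phi_inner_of_noFix st.hP st.hρ j (CharBase.irr_isCharacter ψ) ?_
  rcases st.hS.cases with h | ⟨-, h, -, -⟩
  · rw [h0] at h
    exact absurd h.1 (by norm_num)
  · rw [st.B.sum_Y hψ, h ψ hψ, h0]
    push_cast
    ring

/-- natural multiplicities. -/
theorem St.exists_mult (j : ℕ) : ∃ m : IrrCharacter G → ℕ,
    ∀ χ : IrrCharacter G, classInner (Phi st.ρ j) (χ : G → ℂ) = m χ := by
  choose m hm using fun χ : IrrCharacter G =>
    CharBase.classInner_natCast (Phi_isChar st.ρ j) (CharBase.irr_isCharacter χ)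
  exact ⟨m, hm⟩

theorem St.mult_eval (j : ℕ) {m : IrrCharacter G → ℕ}
    (hm : ∀ χ : IrrCharacter G, classInner (Phi st.ρ j) (χ : G → ℂ) = m χ)
    {ψ : IrrCharacter G} (hψ : ψ ∈ st.B.Y) :
    ∑ χ ∈ st.B.X, m χ + m ψ = 1 := by
  have h1 := st.B.Phi_eval st.hP st.hC st.hρ j hψ
  have h2 : ∑ χ ∈ st.B.X, (st.B.δ χ : ℂ) * classInner (Phi st.ρ j) (χ : G → ℂ) =
      ((∑ χ ∈ st.B.X, m χ : ℕ) : ℂ) := by
    rw [Nat.cast_sum]
    refine Finset.sum_congr rfl fun χ hχ => ?_
    rcases st.B.sgn χ hχ with h | h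
    · rw [h, hm]; simp
    · have h3 := st.inner_neg j hχ h
      have h4 := hm χ
      rw [h3] at h4
      rw [h3, ← h4]; simp
  have h3 : (st.B.δ₀ : ℂ) * classInner (Phi st.ρ j) (ψ : G → ℂ) = ((m ψ : ℕ) : ℂ) := by
    rcases st.B.sgn₀ with h | h
    · rw [h, hm]; simp
    · have h3 := st.inner_Y_neg j h hψ
      have h4 := hm ψ
      rw [h3] at h4
      rw [h3, ← h4]; simp
  rw [h2, h3] at h1
  exact_mod_cast h1

/-- **The dichotomy**. -/
theorem St.dich {j : ℕ} (hj : ¬ ind P ∣ j) :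
    (∃ χ ∈ st.B.X, st.B.δ χ = 1 ∧ χ ≠ oneIrr G ∧ Phi st.ρ j = (χ : G → ℂ)) ∨
      (st.B.δ₀ = 1 ∧ Phi st.ρ j = ∑ ψ ∈ st.B.Y, (ψ : G → ℂ)) := by
  classical
  obtain ⟨m, hm⟩ := st.exists_mult j
  obtain ⟨ψ, hψ⟩ := st.B.Y_nonempty (by have := st.hp3; omega)
  have hev := st.mult_eval j hm hψ
  have hm1 : m (oneIrr G) = 0 := by
    have := st.inner_one hj
    rw [hm] at this
    exact_mod_cast this
  rcases Nat.eq_zero_or_pos (m ψ) with h0 | h0
  · left
    rw [h0, add_zero] at hev
    obtain ⟨χ, hχ, hχm⟩ : ∃ χ ∈ st.B.X, m χ ≠ 0 := by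
      by_contra hcon
      push Not at hcon
      rw [Finset.sum_eq_zero hcon] at hev
      exact absurd hev (by norm_num)
    have hχ1 : χ ≠ oneIrr G := by
      rintro rfl
      exact hχm hm1
    have hδ : st.B.δ χ = 1 := by
      rcases st.B.sgn χ hχ with h | h
      · exact h
      · exfalso
        have h3 := st.inner_neg j hχ h
        rw [hm] at h3
        exact hχm (by exact_mod_cast h3)
    refine ⟨χ, hχ, hδ, hχ1, ?_⟩
    have hcl : IsClassFunction G (Phi st.ρ j - (χ : G → ℂ)) :=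
      CharBase.isClassFunction_sub (Phi_isClass st.ρ j) (CharBase.irr_isClassFunction χ)
    have hch : IsCharacter G (Phi st.ρ j - (χ : G → ℂ)) := by
      refine CharBase.isCharacter_of_classInner_nat hcl fun ξ => ?_
      rw [CharBase.classInner_sub_left, hm, CharBase.classInner_irr]
      by_cases hξ : χ = ξ
      · subst hξ
        rw [if_pos rfl]
        obtain ⟨k, hk⟩ := Nat.exists_eq_succ_of_ne_zero hχm
        exact ⟨k, by rw [hk]; push_cast; ring⟩
      · rw [if_neg hξ]
        exact ⟨m ξ, by ring⟩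
    have h1 : (Phi st.ρ j - (χ : G → ℂ)) 1 = 0 := by
      rw [Pi.sub_apply, Phi_one, dg_eq, st.hS.pos χ hχ hδ hχ1, st.hD, sub_self]
    have h2 := Char.eq_zero_of_degree_zero hch h1
    exact sub_eq_zero.mp h2
  · right
    have hδ : st.B.δ₀ = 1 := by
      rcases st.B.sgn₀ with h | h
      · exact h
      · exfalso
        have h3 := st.inner_Y_neg j h hψ
        rw [hm] at h3
        have : m ψ = 0 := by exact_mod_cast h3
        omega
    refine ⟨hδ, ?_⟩
    have hcl : IsClassFunction G (Phi st.ρ j - ∑ ψ ∈ st.B.Y, (ψ : G → ℂ)) :=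
      CharBase.isClassFunction_sub (Phi_isClass st.ρ j)
        (CharBase.isClassFunction_sum _ _ fun ψ _ => CharBase.irr_isClassFunction ψ)
    have hch : IsCharacter G (Phi st.ρ j - ∑ ψ ∈ st.B.Y, (ψ : G → ℂ)) := by
      refine CharBase.isCharacter_of_classInner_nat hcl fun ξ => ?_
      rw [CharBase.classInner_sub_left, hm, CharBase.classInner_sum_left]
      simp only [CharBase.classInner_irr]
      rw [Finset.sum_ite_eq']
      by_cases hξ : ξ ∈ st.B.Y
      · rw [if_pos hξ]
        have h3 : m ξ = m ψ := by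
          have := st.B.Phi_inner_Y st.hP st.hC st.hρ j hξ hψ
          rw [hm, hm] at this
          exact_mod_cast this
        obtain ⟨k, hk⟩ := Nat.exists_eq_succ_of_ne_zero (by omega : m ξ ≠ 0)
        exact ⟨k, by rw [hk]; push_cast; ring⟩
      · rw [if_neg hξ]
        exact ⟨m ξ, by ring⟩
    have h1 : (Phi st.ρ j - ∑ ψ ∈ st.B.Y, (ψ : G → ℂ)) 1 = 0 := by
      rw [Pi.sub_apply, Phi_one, Finset.sum_apply, st.hD]
      rcases st.hS.cases with ⟨-, h, -⟩ | ⟨h, -⟩
      · have h4 : ∑ ψ ∈ st.B.Y, (ψ : G → ℂ) 1 = ((st.B.Y.card * dg ψ : ℕ) : ℂ) := by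
          rw [Finset.sum_congr rfl (g := fun _ => (dg ψ : ℂ))]
          · rw [Finset.sum_const, nsmul_eq_mul]; push_cast; ring
          · intro ξ hξ
            rw [dg_eq, st.B.dg_Y hξ hψ]
        rw [h4, h ψ hψ, sub_self]
      · rw [hδ] at h
        exact absurd h (by norm_num)
    have h2 := Char.eq_zero_of_degree_zero hch h1
    exact sub_eq_zero.mp h2

theorem St.inner_zero_X {χ : IrrCharacter G} (hχ : χ ∈ st.B.X) (h1 : χ ≠ oneIrr G) :
    classInner (Phi st.ρ 0) (χ : G → ℂ) = 0 := by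
  classical
  obtain ⟨m, hm⟩ := st.exists_mult 0
  obtain ⟨ψ, hψ⟩ := st.B.Y_nonempty (by have := st.hp3; omega)
  have hev := st.mult_eval 0 hm hψ
  have hm1 : m (oneIrr G) = 1 := by
    have := st.inner_zero_one
    rw [hm] at this
    exact_mod_cast this
  rw [← Finset.add_sum_erase _ _ st.B.one_mem, hm1] at hev
  have h2 : ∑ χ ∈ st.B.X.erase (oneIrr G), m χ = 0 := by omega
  have h3 := (Finset.sum_eq_zero_iff.mp h2) χ (Finset.mem_erase.mpr ⟨h1, hχ⟩)
  rw [hm, h3, Nat.cast_zero]

theorem St.inner_zero_Y {ψ : IrrCharacter G} (hψ : ψ ∈ st.B.Y) :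
    classInner (Phi st.ρ 0) (ψ : G → ℂ) = 0 := by
  classical
  obtain ⟨m, hm⟩ := st.exists_mult 0
  have hev := st.mult_eval 0 hm hψ
  have hm1 : m (oneIrr G) = 1 := by
    have := st.inner_zero_one
    rw [hm] at this
    exact_mod_cast this
  rw [← Finset.add_sum_erase _ _ st.B.one_mem, hm1] at hev
  have h2 : m ψ = 0 := by omega
  rw [hm, h2, Nat.cast_zero]

theorem St.inner_zero_Phi {j : ℕ} (hj : ¬ ind P ∣ j) :
    classInner (Phi st.ρ 0) (Phi st.ρ j) = 0 := by
  rcases st.dich hj with ⟨χ, hχ, -, h1, h⟩ | ⟨-, h⟩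
  · rw [h]; exact st.inner_zero_X hχ h1
  · rw [h, CharBase.classInner_sum_right]
    exact Finset.sum_eq_zero fun ψ hψ => st.inner_zero_Y hψ

/-- **The permutation character on the Sylow subgroups.** -/
theorem St.Phi_zero_apply {y : G} (hy : y ∈ normalizer (P : Set G)) (hyP : y ∉ P) :
    Phi st.ρ 0 y = (n + 1 : ℂ) := by
  classical
  have := Fintype.ofFinite (normalizer (P : Set G))
  have := Fintype.ofFinite P
  have hp0 : (p : ℂ) ≠ 0 := by exact_mod_cast hp.out.ne_zero
  have he0 : (ind P : ℂ) ≠ 0 := by exact_mod_cast (ind_pos P).ne'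
  have hN0 : (Nat.card (normalizer (P : Set G)) : ℂ) ≠ 0 := by exact_mod_cast Nat.card_pos.ne'
  -- inner products on `N`
  have hin : ∀ j : ℕ, ¬ ind P ∣ j → ∑ z : normalizer (P : Set G),
      Phi st.ρ 0 z * conj (lam st.ρ j z) = 0 := by
    intro j hj
    have h1 := st.inner_zero_Phi hj
    have h2 := Char.frobenius_reciprocity' (normalizer (P : Set G)) (lam st.ρ j) (Phi st.ρ 0)
      (Phi_isClass st.ρ 0)
    have h3 : classInner (Phi st.ρ 0) (indFun (normalizer (P : Set G)) (lam st.ρ j)) = 0 := h1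
    rw [h3] at h2
    unfold classInner at h2
    exact (mul_eq_zero.mp h2.symm).resolve_left (inv_ne_zero hN0)
  -- the key sum
  have hkey : ∀ w : normalizer (P : Set G), ∑ z : normalizer (P : Set G),
      Phi st.ρ 0 z * (∑ j ∈ Finset.range (ind P), lam st.ρ j w * conj (lam st.ρ j z)) =
      ∑ z : normalizer (P : Set G), Phi st.ρ 0 z := by
    intro w
    simp_rw [Finset.mul_sum]
    rw [Finset.sum_comm]
    have h1 : ∀ j ∈ Finset.range (ind P), ∑ z : normalizer (P : Set G),
        Phi st.ρ 0 z * (lam st.ρ j w * conj (lam st.ρ j z)) =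
        if j = 0 then ∑ z : normalizer (P : Set G), Phi st.ρ 0 z else 0 := by
      intro j hj
      by_cases hj0 : j = 0
      · subst hj0
        rw [if_pos rfl]
        refine Finset.sum_congr rfl fun z _ => ?_
        simp [lam_apply]
      · rw [if_neg hj0]
        have h2 : ¬ ind P ∣ j := by
          intro hd
          have := Nat.le_of_dvd (Nat.pos_of_ne_zero hj0) hd
          rw [Finset.mem_range] at hj
          omega
        have h3 : ∑ z : normalizer (P : Set G), Phi st.ρ 0 z * (lam st.ρ j w * conj (lam st.ρ j z)) =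
            lam st.ρ j w * ∑ z : normalizer (P : Set G), Phi st.ρ 0 z * conj (lam st.ρ j z) := by
          rw [Finset.mul_sum]
          exact Finset.sum_congr rfl fun z _ => by ring
        rw [h3, hin j h2, mul_zero]
    rw [Finset.sum_congr rfl h1, Finset.sum_ite_eq' (Finset.range (ind P)) 0,
      if_pos (Finset.mem_range.mpr (ind_pos P))]
  have hconj : ∀ (j : ℕ) (z : normalizer (P : Set G)),
      conj (lam st.ρ j z) = lam st.ρ j z⁻¹ := by
    intro j z
    exact Char.linChar_conj (lam_isChar st.ρ j) (by rw [lam_apply, map_one]; simp) z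
  have hsum : ∀ w z : normalizer (P : Set G),
      ∑ j ∈ Finset.range (ind P), lam st.ρ j w * conj (lam st.ρ j z) =
      if (w * z⁻¹ : G) ∈ P then (ind P : ℂ) else 0 := by
    intro w z
    rw [Finset.sum_congr rfl (fun j _ => by rw [hconj, ← lam_mul]), st.sum_lam]
    rfl
  simp_rw [hsum] at hkey
  -- evaluate at an element `w`: the sum over the coset `P w`
  have hcoset : ∀ w : normalizer (P : Set G), ∑ z : normalizer (P : Set G),
      Phi st.ρ 0 z * (if (w * z⁻¹ : G) ∈ P then (ind P : ℂ) else 0) =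
      ind P * ∑ x : P, Phi st.ρ 0 (x * w) := by
    intro w
    have h1 : ∀ z : normalizer (P : Set G),
        Phi st.ρ 0 z * (if (w * z⁻¹ : G) ∈ P then (ind P : ℂ) else 0) =
        if (w * z⁻¹ : G) ∈ P then ind P * Phi st.ρ 0 z else 0 := by
      intro z
      split_ifs
      · ring
      · ring
    rw [Finset.sum_congr rfl (fun z _ => h1 z), ← Finset.sum_filter, ← Finset.mul_sum]
    congr 1
    refine (Finset.sum_bij (fun (x : P) _ => (⟨x, Subgroup.le_normalizer x.2⟩ : normalizer (P : Set G)) * w)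
      ?_ ?_ ?_ ?_).symm
    · intro x _
      rw [Finset.mem_filter]
      refine ⟨Finset.mem_univ _, ?_⟩
      have h5 : (w : G) * ((x : G) * w)⁻¹ = (x : G)⁻¹ := by group
      have h6 : (w : G) * ((x : G) * w)⁻¹ ∈ P := by
        rw [h5]; exact P.inv_mem x.2
      exact h6
    · intro a _ b _ hab
      have := mul_right_cancel hab
      exact Subtype.ext (congrArg (fun z : normalizer (P : Set G) => (z : G)) this)
    · intro z hz
      rw [Finset.mem_filter] at hz
      have h2 : (z : G) * (w : G)⁻¹ ∈ P := by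
        have := P.inv_mem hz.2
        have h5 : ((w : G) * ((z⁻¹ : normalizer (P : Set G)) : G))⁻¹ = (z : G) * (w : G)⁻¹ := by
          rw [Subgroup.coe_inv]; group
        rwa [h5] at this
      refine ⟨⟨(z : G) * (w : G)⁻¹, h2⟩, Finset.mem_univ _, ?_⟩
      apply Subtype.ext
      rw [Subgroup.coe_mul]
      group
    · intro x _
      rfl
  -- at `w = 1`
  have hone : ∑ x : P, Phi st.ρ 0 (x * (1 : G)) = p * (n + 1) := by
    simp only [mul_one]
    rw [sum_P_split (fun x : P => Phi st.ρ 0 x)]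
    have h1 : Phi st.ρ 0 ((1 : P) : G) = 1 + n * p := by
      rw [Subgroup.coe_one, Phi_one, st.hD]; push_cast; ring
    rw [h1, Finset.sum_congr rfl (g := fun _ => (1 : ℂ))]
    · rw [Finset.sum_const, Finset.card_erase_of_mem (Finset.mem_univ _), Finset.card_univ,
        ← Nat.card_eq_fintype_card, st.hP.card, nsmul_eq_mul, Nat.cast_sub hp.out.one_lt.le]
      push_cast
      ring
    · intro x hx
      exact Phi_P st.hP st.hρ 0 x.2 fun h => (Finset.mem_erase.mp hx).1 (Subtype.ext h)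
  have e1 := hkey 1
  rw [hcoset 1] at e1
  have e2 := hkey ⟨y, hy⟩
  rw [hcoset ⟨y, hy⟩, ← e1] at e2
  have e3 : ∑ x : P, Phi st.ρ 0 (x * y) = p * Phi st.ρ 0 y := by
    rw [Finset.sum_congr rfl (g := fun _ => Phi st.ρ 0 y)]
    · rw [Finset.sum_const, Finset.card_univ, ← Nat.card_eq_fintype_card, st.hP.card, nsmul_eq_mul]
    · intro x _
      obtain ⟨w, -, hw⟩ := coset_conj st.hP st.hC hy hyP (z := x * y) (by
        rw [mul_inv_cancel_right]; exact x.2)
      rw [hw]
      exact Phi_isClass st.ρ 0 y w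
  have e4 := mul_left_cancel₀ he0 e2
  have e5 : ∑ x : P, Phi st.ρ 0 (x * y) = ∑ x : P, Phi st.ρ 0 (x * (1 : G)) := e4
  rw [e3, hone] at e5
  exact mul_left_cancel₀ hp0 e5

end

end Cfsg.Agent.BR
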