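import Cfsg.Agent.BR.Final

/-!
Consequences of the Brauer-Reynolds theorem.
-/

set_option autoImplicit false

namespace Cfsg.Agent.BR

open Cfsg Subgroup

universe u v

section PSL

variable {F : Type v} [Field F] [Fintype F]

theorem two_eq_zero {m : ℕ} (hm : m ≠ 0) (hF : Fintype.card F = 2 ^ m) : (2 : F) = 0 := by
  obtain ⟨q, hqc, n, hq, hqn⟩ := FiniteField.card' F
  have h1 : q ∣ 2 ^ m := by
    rw [← hF, hqn]
    exact dvd_pow_self q n.pos.ne'
  have h2 : q = 2 := (Nat.prime_dvd_prime_iff_eq hq Nat.prime_two).mp (hq.dvd_of_dvd_pow h1)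
  subst h2
  exact_mod_cast CharP.cast_eq_zero F 2

/-- `SL(2, F) ≅ PSL(2, F)` in characteristic two. -/
theorem sl_equiv_psl {m : ℕ} (hm : m ≠ 0) (hF : Fintype.card F = 2 ^ m) :
    Nonempty (Matrix.SpecialLinearGroup (Fin 2) F ≃*
      Matrix.ProjectiveSpecialLinearGroup (Fin 2) F) := by
  have h20 := two_eq_zero hm hF
  have hc : Subgroup.center (Matrix.SpecialLinearGroup (Fin 2) F) = ⊥ := by
    rw [eq_bot_iff]
    intro A hA
    rw [Matrix.SpecialLinearGroup.mem_center_iff] at hA
    obtain ⟨r, hr, hrA⟩ := hA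
    rw [Fintype.card_fin] at hr
    have h1 : r = 1 := by
      have h4 : (r - 1) * (r - 1) = 0 := by
        linear_combination hr - (r - 1) * h20
      exact sub_eq_zero.mp (mul_self_eq_zero.mp h4)
    rw [Subgroup.mem_bot]
    apply Matrix.SpecialLinearGroup.ext
    intro i j
    rw [← hrA, h1, map_one, Matrix.SpecialLinearGroup.coe_one]
  unfold Matrix.ProjectiveSpecialLinearGroup
  exact ⟨(QuotientGroup.quotientBot.symm).trans (QuotientGroup.quotientMulEquivOfEq hc.symm)⟩

theorem card_SL {m : ℕ} (hm : m ≠ 0) (hF : Fintype.card F = 2 ^ m) :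
    Nat.card (Matrix.SpecialLinearGroup (Fin 2) F) = 2 ^ m * ((2 ^ m - 1) * (2 ^ m + 1)) := by
  obtain ⟨e⟩ := sl_equiv_psl hm hF
  rw [Nat.card_congr e.toEquiv, H14.SubField.card_PSL2_even, hF]
  rw [hF]
  exact (even_two.pow_of_ne_zero hm)

end PSL

/-- the two conclusions with `PSL`. -/
def Concl' (p : ℕ) (X : Type u) [Group X] : Prop :=
  (∃ (F : Type) (_ : Field F) (_ : Fintype F), Fintype.card F = p ∧ 3 < p ∧
      Nonempty (X ≃* Matrix.ProjectiveSpecialLinearGroup (Fin 2) F)) ∨
    (∃ (m : ℕ) (F : Type) (_ : Field F) (_ : Fintype F), Fintype.card F = 2 ^ m ∧ p = 2 ^ m + 1 ∧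
      3 < p ∧ Nonempty (X ≃* Matrix.ProjectiveSpecialLinearGroup (Fin 2) F))

theorem Concl.psl {p : ℕ} {X : Type u} [Group X] (h : Concl p X) : Concl' p X := by
  rcases h with h | ⟨m, F, hF, hF', h1, h2, h3, ⟨e⟩⟩
  · exact Or.inl h
  · have hm : m ≠ 0 := by
      rintro rfl
      rw [pow_zero] at h2
      omega
    obtain ⟨e'⟩ := sl_equiv_psl hm h1
    exact Or.inr ⟨m, F, hF, hF', h1, h2, h3, ⟨e.trans e'⟩⟩

theorem Concl.congr {p : ℕ} {X : Type u} [Group X] {Y : Type v} [Group Y] (h : Concl p X)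
    (φ : Y ≃* X) : Concl p Y := by
  rcases h with ⟨F, hF, hF', h1, h2, ⟨e⟩⟩ | ⟨m, F, hF, hF', h1, h2, h3, ⟨e⟩⟩
  · exact Or.inl ⟨F, hF, hF', h1, h2, ⟨φ.trans e⟩⟩
  · exact Or.inr ⟨m, F, hF, hF', h1, h2, h3, ⟨φ.trans e⟩⟩

/-- the orders. -/
theorem Concl.card {p : ℕ} {X : Type u} [Group X] (h : Concl p X) (hp : Odd p) :
    3 < p ∧ (2 * Nat.card X = p * ((p - 1) * (p + 1)) ∨ Nat.card X = p * ((p - 1) * (p - 2))) := by
  rcases h with ⟨F, hF, hF', h1, h2, ⟨e⟩⟩ | ⟨m, F, hF, hF', h1, h2, h3, ⟨e⟩⟩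
  · refine ⟨h2, Or.inl ?_⟩
    rw [Nat.card_congr e.toEquiv, H14.SubField.card_PSL2_odd (by rw [h1]; exact hp), h1]
  · refine ⟨h3, Or.inr ?_⟩
    have hm : m ≠ 0 := by
      rintro rfl
      rw [pow_zero] at h2
      omega
    rw [Nat.card_congr e.toEquiv, card_SL hm h1]
    have e1 : p - 1 = 2 ^ m := by omega
    have e2 : p - 2 = 2 ^ m - 1 := by omega
    rw [e1, e2, ← h2]; ring

section

variable {G : Type u} [Group G] [Finite G] {p : ℕ} [hp : Fact p.Prime]

/-- the sylow subgroup has order `p` if `|G| < p ^ 3` and it is not normal. -/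
theorem sp_of_small (hbig : Nat.card G < p ^ 3) (P : Sylow p G)
    (hP : ¬ (P : Subgroup G).Normal) : Sp p (P : Subgroup G) := by
  refine ⟨?_, P.not_dvd_index⟩
  obtain ⟨k, hk⟩ := (IsPGroup.iff_card (p := p)).mp P.2
  have hp1 := hp.out.one_lt
  have hmul := (P : Subgroup G).card_mul_index
  have hidx : 0 < (P : Subgroup G).index := Nat.pos_of_ne_zero Subgroup.FiniteIndex.index_ne_zero
  -- index of the normalizer
  have hN : (normalizer ((P : Subgroup G) : Set G)).index ∣ (P : Subgroup G).index :=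
    Subgroup.index_dvd_of_le Subgroup.le_normalizer
  have hmod0 := card_sylow_modEq_one p G
  rw [P.card_eq_index_normalizer] at hmod0
  have hmod : (normalizer ((P : Subgroup G) : Set G)).index ≡ 1 [MOD p] := hmod0
  have hNne : (normalizer ((P : Subgroup G) : Set G)).index ≠ 1 := by
    intro h
    apply hP
    rw [Subgroup.index_eq_one] at h
    exact Subgroup.normalizer_eq_top_iff.mp h
  have hNpos : 0 < (normalizer ((P : Subgroup G) : Set G)).index :=
    Nat.pos_of_ne_zero Subgroup.FiniteIndex.index_ne_zero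
  have hNge : p < (normalizer ((P : Subgroup G) : Set G)).index := by
    obtain ⟨j, hj⟩ := (Nat.modEq_iff_dvd' (by omega)).mp hmod.symm
    have hj0 : j ≠ 0 := by
      rintro rfl
      rw [mul_zero] at hj
      omega
    have : p * 1 ≤ p * j := Nat.mul_le_mul_left p (by omega)
    omega
  have hge := Nat.le_of_dvd hidx hN
  have hk2 : k < 2 := by
    by_contra hcon
    have h1 : p ^ 2 ≤ p ^ k := Nat.pow_le_pow_right (by omega) (by omega)
    have h2 : p ^ 2 * p ≤ p ^ k * (P : Subgroup G).index := Nat.mul_le_mul h1 (hNge.le.trans hge)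
    rw [hk] at hmul
    have h3 : p ^ 2 * p = p ^ 3 := by ring
    omega
  have hk0 : k ≠ 0 := by
    rintro rfl
    rw [pow_zero, Subgroup.card_eq_one] at hk
    apply hP
    rw [hk]
    infer_instance
  have : k = 1 := by omega
  rw [hk, this, pow_one]

/-- the order estimate. -/
theorem not_third_of_small (hbig : Nat.card G < p ^ 3) {P : Subgroup G} (hP : Sp p P)
    (hperf : commutator G = ⊤) {n : ℕ} (hD : (normalizer (P : Set G)).index = 1 + n * p) :
    ¬ Third p n := by
  intro hT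
  have h1 := third_le hp.out.one_lt.le hT
  have h2 := two_le_ind hP hperf
  have h3 := (normalizer (P : Set G)).card_mul_index
  have h4 : p * 2 ≤ Nat.card (normalizer (P : Set G)) := by
    have h5 : Nat.card (centralizer (P : Set G)) * ind P = Nat.card (normalizer (P : Set G)) := by
      unfold ind
      rw [← Subgroup.relIndex_bot_left, ← Subgroup.relIndex_bot_left]
      exact Subgroup.relIndex_mul_relIndex ⊥ _ _ bot_le (centralizer_le_normalizer' P)
    rw [← h5]
    refine Nat.mul_le_mul ?_ h2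
    have h6 : P ≤ centralizer (P : Set G) := by
      have : IsCyclic P := isCyclic_of_prime_card hP.card
      intro x hx
      rw [Subgroup.mem_centralizer_iff]
      intro y hy
      have := (IsCyclic.commGroup (α := P)).mul_comm ⟨y, hy⟩ ⟨x, hx⟩
      exact congrArg Subtype.val this
    have h7 := Subgroup.card_le_of_le h6
    rw [hP.card] at h7
    exact h7
  have h5 : p * 2 * (1 + n * p) ≤ Nat.card G := by
    rw [← h3, hD]
    exact Nat.mul_le_mul_right _ h4
  have h6 : p ^ 3 ≤ p * 2 * (1 + n * p) := by nlinarith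
  omega

/-- S4701. -/
theorem small_concl (hperf : commutator G = ⊤) (hbig : Nat.card G < p ^ 3) (P : Sylow p G)
    (hP : ¬ (P : Subgroup G).Normal) (h2 : ∀ N : Subgroup G, N.Normal → Nat.card N ≠ 2) :
    Concl p G := by
  have hSp := sp_of_small hbig P hP
  obtain ⟨n, hn⟩ := exists_index hSp
  have hT := not_third_of_small hbig hSp hperf hn
  have hc := main_concl hperf hSp hn hT
  have hp3 := three_le hSp hperf
  have hodd : Odd p := hp.out.odd_of_ne_two (by omega)
  obtain ⟨hp4, hcard⟩ := hc.card hodd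
  -- `|K| ≤ 2`
  have hmul := (pPrimeCore p G).card_mul_index
  have hidx : (pPrimeCore p G).index = Nat.card (G ⧸ pPrimeCore p G) := rfl
  rw [hidx] at hmul
  have hK : Nat.card (pPrimeCore p G) ≤ 2 := by
    by_contra hcon
    have h3 : 3 ≤ Nat.card (pPrimeCore p G) := by omega
    have h5 : 3 * Nat.card (G ⧸ pPrimeCore p G) ≤ Nat.card G := by
      rw [← hmul]; exact Nat.mul_le_mul_right _ h3
    obtain ⟨k, rfl⟩ : ∃ k, p = k + 4 := ⟨p - 4, by omega⟩
    have e1 : k + 4 - 1 = k + 3 := by omega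
    have e2 : k + 4 - 2 = k + 2 := by omega
    have hk1 : 1 ≤ k := by
      by_contra h
      have : k = 0 := by omega
      subst this
      exact absurd hodd (by decide)
    rcases hcard with hc | hc
    · rw [e1] at hc
      have h6 : 3 * ((k + 4) * ((k + 3) * (k + 4 + 1))) ≤ 2 * Nat.card G := by
        rw [← hc]; omega
      have h7 : 2 * (k + 4) ^ 3 ≤ 3 * ((k + 4) * ((k + 3) * (k + 4 + 1))) := by
        ring_nf; omega
      omega
    · rw [e1, e2] at hc
      rw [hc] at h5
      have h7 : (k + 4) ^ 3 ≤ 3 * ((k + 4) * ((k + 3) * (k + 2))) := by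
        obtain ⟨j, rfl⟩ : ∃ j, k = j + 1 := ⟨k - 1, by omega⟩
        ring_nf; omega
      omega
  have hKpos : 0 < Nat.card (pPrimeCore p G) := Nat.card_pos
  have hK2 := h2 _ (inferInstance : (pPrimeCore p G).Normal)
  have hK1 : Nat.card (pPrimeCore p G) = 1 := by omega
  rw [Subgroup.card_eq_one] at hK1
  exact hc.congr ((QuotientGroup.quotientBot.symm).trans
    (QuotientGroup.quotientMulEquivOfEq hK1.symm))

end

end Cfsg.Agent.BR
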