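import Cfsg.Agent.BR.Rows

/-!
Rows S0996, S0999.
-/

set_option autoImplicit false

namespace Cfsg.Agent.BR

open Cfsg Subgroup

universe u v

section

variable {G : Type u} [Group G] [Finite G] {p : ℕ} [hp : Fact p.Prime]

/-- if `C(z) = ⟨z⟩` has order `p`, it is a Sylow subgroup. -/
theorem sp_of_cent {z : G} (hz : orderOf z = p)
    (hC : Subgroup.centralizer ({z} : Set G) = Subgroup.zpowers z) : Sp p (zpowers z) := by
  have hc : Nat.card (zpowers z) = p := by rw [Nat.card_zpowers, hz]
  refine ⟨hc, ?_⟩
  have hpg : IsPGroup p (zpowers z) := IsPGroup.of_card (n := 1) (by rw [hc, pow_one])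
  obtain ⟨Q, hQ⟩ := hpg.exists_le_sylow
  have hQne : Nontrivial Q := by
    have hz1 : z ≠ 1 := by
      rintro rfl
      rw [orderOf_one] at hz
      exact hp.out.one_lt.ne hz
    exact ⟨⟨⟨z, hQ (mem_zpowers z)⟩, 1, fun h => hz1 (congrArg Subtype.val h)⟩⟩
  have hcen : Nontrivial (center Q) := Q.2.center_nontrivial
  obtain ⟨⟨w, hw⟩, hw1⟩ := exists_ne (1 : center Q)
  have hw1' : (w : G) ≠ 1 := by
    intro h
    apply hw1
    apply Subtype.ext
    exact Subtype.ext h
  -- `w` centralizes `z`
  have hwz : (w : G) ∈ zpowers z := by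
    rw [← hC, Subgroup.mem_centralizer_iff]
    intro y hy
    rw [Set.mem_singleton_iff.mp hy]
    have := Subgroup.mem_center_iff.mp hw ⟨z, hQ (mem_zpowers z)⟩
    exact congrArg Subtype.val this
  have hzw : zpowers (w : G) = zpowers z := by
    refine Subgroup.eq_of_le_of_card_ge (by rwa [zpowers_le]) ?_
    have h1 : orderOf (w : G) ∣ p := by
      have := orderOf_dvd_natCard (⟨(w : G), hwz⟩ : zpowers z)
      rwa [Subgroup.orderOf_mk, hc] at this
    rcases (Nat.dvd_prime hp.out).mp h1 with h | h
    · exact absurd (orderOf_eq_one_iff.mp h) hw1'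
    · rw [hc, Nat.card_zpowers, h]
  have hQle : (Q : Subgroup G) ≤ zpowers z := by
    intro y hy
    rw [← hC, Subgroup.mem_centralizer_iff]
    intro t ht
    rw [Set.mem_singleton_iff.mp ht]
    have h1 : z ∈ zpowers (w : G) := by rw [hzw]; exact mem_zpowers z
    have h2 : Commute (w : G) y := by
      have := Subgroup.mem_center_iff.mp hw ⟨y, hy⟩
      exact (congrArg Subtype.val this).symm
    obtain ⟨k, hk⟩ := Subgroup.mem_zpowers_iff.mp h1
    rw [← hk]
    exact (h2.zpow_left k).eq
  have hQeq : (Q : Subgroup G) = zpowers z := le_antisymm hQle hQ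
  rw [← hQeq]
  exact Q.not_dvd_index

/-- S0996. -/
theorem cent_row (hperf : commutator G = ⊤) {z : G} (hz : orderOf z = p)
    (hC : Subgroup.centralizer ({z} : Set G) = Subgroup.zpowers z)
    (hn : 2 * Nat.card (Sylow p G) < (p + 1) * (p + 2)) : Concl' p G := by
  have hSp := sp_of_cent hz hC
  obtain ⟨n, hD⟩ := exists_index hSp
  rw [hSp.card_sylow, hD] at hn
  have hz1 : z ≠ 1 := by
    rintro rfl
    rw [orderOf_one] at hz
    exact hp.out.one_lt.ne hz
  refine (cent_concl hperf hSp hD ?_ ?_).psl
  · intro hT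
    have h1 := third_le hp.out.one_lt.le hT
    nlinarith
  · rw [← hSp.centralizer_eq (mem_zpowers z) hz1, hC]

omit [Finite G] in
theorem perfect_of_simple [IsSimpleGroup G] (hG : ¬ IsMulCommutative G) : commutator G = ⊤ := by
  rcases (inferInstance : (commutator G).Normal).eq_bot_or_eq_top with h | h
  · exfalso
    apply hG
    refine ⟨⟨fun a b => ?_⟩⟩
    have h1 : a * b * a⁻¹ * b⁻¹ ∈ commutator G := by
      rw [_root_.commutator_def]
      exact Subgroup.commutator_mem_commutator (Subgroup.mem_top a) (Subgroup.mem_top b)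
    rw [h, Subgroup.mem_bot] at h1
    have h2 : a * b = (a * b * a⁻¹ * b⁻¹) * (b * a) := by group
    rw [h2, h1, one_mul]
  · exact h

/-- S0999. -/
theorem simple_row [IsSimpleGroup G] (hG : ¬ IsCyclic G) (hdvd : p ∣ Nat.card G)
    (hbig : Nat.card G < p ^ 3) : Concl' p G := by
  classical
  have hnc : ¬ IsMulCommutative G := by
    intro h
    apply hG
    have : ∀ a b : G, a * b = b * a := fun a b => h.is_comm.comm a b
    letI : CommGroup G := { (inferInstance : Group G) with mul_comm := this }
    infer_instance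
  have hperf := perfect_of_simple hnc
  obtain ⟨P⟩ : Nonempty (Sylow p G) := inferInstance
  have hPn : ¬ (P : Subgroup G).Normal := by
    intro h
    rcases h.eq_bot_or_eq_top with h1 | h1
    · have h2 := P.not_dvd_index
      rw [h1, Subgroup.index_bot] at h2
      exact h2 hdvd
    · -- `G` is a `p`-group, hence nilpotent
      have h2 : IsPGroup p G := by
        have := P.2
        rw [h1] at this
        exact this.of_equiv Subgroup.topEquiv
      have h3 : Group.IsNilpotent G := h2.isNilpotent
      have h4 : Nontrivial G := inferInstance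
      have h5 : Group.IsSolvable G := inferInstance
      exact absurd hperf (Group.IsSolvable.commutator_lt_top_of_nontrivial G).ne
  refine (small_concl hperf hbig P hPn ?_).psl
  intro N hN hN2
  rcases hN.eq_bot_or_eq_top with h1 | h1
  · rw [h1, Subgroup.card_bot] at hN2
    omega
  · rw [h1, Subgroup.card_top] at hN2
    apply hG
    have : Fact (Nat.Prime 2) := ⟨Nat.prime_two⟩
    exact isCyclic_of_prime_card hN2

end

end Cfsg.Agent.BR
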