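import Cfsg.Agent.BR.PartA

/-!
`C(P) = P` when `O_{p'}(G) = 1` and the third alternative fails.
-/

set_option autoImplicit false

open scoped ComplexConjugate

namespace Cfsg.Agent.BR

open Cfsg Subgroup
open Cfsg.Agent.CharBase (oneIrr)

universe u

section

variable {G : Type u} [Group G] [Finite G] {p : ℕ} [hp : Fact p.Prime] {P : Subgroup G}

/-- Burnside: the inertial index of a perfect group is at least two. -/
theorem two_le_ind (hP : Sp p P) (hperf : commutator G = ⊤) : 2 ≤ ind P := by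
  by_contra hcon
  have h1 : ind P = 1 := by have := ind_pos P; omega
  unfold ind at h1
  rw [Subgroup.relIndex_eq_one] at h1
  have hcard := hP.card
  obtain ⟨Q, hQ⟩ := hP.exists_sylow
  subst hQ
  have hN : normalizer ((Q : Subgroup G) : Set G) ≤ centralizer ((Q : Subgroup G) : Set G) := h1
  have hcomm : IsMulCommutative (Q : Subgroup G) := by
    have : IsCyclic (Q : Subgroup G) := isCyclic_of_prime_card hcard
    exact IsCyclic.isMulCommutative
  have h3 := MonoidHom.ker_transferSylow_isComplement' Q hN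
  have h4 : (⊤ : Subgroup G) ≤ (MonoidHom.transferSylow Q hN).ker := by
    rw [← hperf, commutator_def, Subgroup.commutator_le]
    intro a _ b _
    rw [MonoidHom.mem_ker, map_commutatorElement, commutatorElement_eq_one_iff_mul_comm]
    exact mul_comm' _ _
  rw [top_le_iff] at h4
  rw [h4] at h3
  have h5 := h3.card_mul
  rw [Subgroup.card_top, hcard] at h5
  have h6 : 0 < Nat.card G := Nat.card_pos
  have h7 := hp.out.one_lt
  nlinarith

theorem Shape.exists_neg {B : Data p P} {n : ℕ} (hS : Shape B n) (hn : 1 ≤ n)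
    (he : 2 ≤ ind P) : ∃ χ ∈ B.X, B.δ χ = -1 := by
  have hb : 1 ≤ B.b := by
    rcases hS.cases with ⟨-, -, m, hm, -, -, h⟩ | ⟨-, -, h1, h2⟩
    · omega
    · have ha : 1 ≤ B.a := by
        rcases Nat.eq_zero_or_pos B.a with h | h
        · rw [h] at h1; omega
        · exact h
      rw [h2]
      exact Nat.one_le_iff_ne_zero.mpr (Nat.mul_ne_zero (by omega) (by omega))
  have : Nonempty {χ : IrrCharacter G // χ ∈ B.X ∧ B.δ χ = -1} := by
    rw [← not_isEmpty_iff]
    intro h
    unfold Data.b at hb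
    rw [Nat.card_of_isEmpty] at hb
    omega
  obtain ⟨χ, h1, h2⟩ := this
  exact ⟨χ, h1, h2⟩

theorem le_pPrimeCore_of {K : Subgroup G} (hK : K.Normal) (h : ¬ p ∣ Nat.card K) :
    K ≤ pPrimeCore p G := by
  unfold pPrimeCore
  refine le_sSup ⟨hK, ?_⟩
  exact ((Nat.Prime.coprime_iff_not_dvd hp.out).mpr h).symm

omit [Finite G] in
theorem conj_card_ne_one {P : Subgroup G} (h : commutator G = ⊤) (hPG : P = ⊤)
    (hc : ∀ a ∈ P, ∀ b ∈ P, a * b = b * a) : Nat.card G = 1 := by
  subst hPG
  have h4 : (⊤ : Subgroup G) ≤ ⊥ := by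
    rw [← h, commutator_def, Subgroup.commutator_le]
    intro a _ b _
    rw [Subgroup.mem_bot, commutatorElement_eq_one_iff_mul_comm]
    exact hc a (Subgroup.mem_top a) b (Subgroup.mem_top b)
  rw [le_bot_iff] at h4
  have := (Subgroup.card_eq_one (H := (⊤ : Subgroup G))).mpr h4
  rwa [Subgroup.card_top] at this

/-- **Self-centralization.** -/
theorem Data.self_cent (B : Data p P) (hP : Sp p P) (hp3 : 3 ≤ p) (hperf : commutator G = ⊤)
    {n : ℕ} (hn : 1 ≤ n) (hD : (normalizer (P : Set G)).index = 1 + n * p) (hT : ¬ Third p n)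
    (hO : pPrimeCore p G = ⊥) : centralizer (P : Set G) = P := by
  classical
  have := Fintype.ofFinite G
  have := Fintype.ofFinite P
  have hS := B.shape hP hp3 hperf hn hD hT
  have he := two_le_ind hP hperf
  obtain ⟨χ, hχ, hδ⟩ := hS.exists_neg hn he
  have hdg := hS.neg χ hχ hδ
  have hp1 : ((p - 1 : ℕ) : ℂ) = (p : ℂ) - 1 := by
    rw [Nat.cast_sub hp.out.one_lt.le]; simp
  have hpC : (p : ℂ) ≠ 0 := by exact_mod_cast hp.out.ne_zero
  -- no `P`-fixed vectors
  have h0 : ∑ x : P, (χ : G → ℂ) x = 0 := by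
    rw [B.sum_X hP hχ, hdg, hδ]
    push_cast
    ring
  have hreg : ∀ v ∈ centralizer (P : Set G), ¬ p ∣ orderOf v → (χ : G → ℂ) v = (χ : G → ℂ) 1 := by
    intro v hv hvp
    have h1 := noFix (CharBase.irr_isCharacter χ) P h0 (centralizer_le_normalizer' P hv)
    rw [sum_P_split (fun x : P => (χ : G → ℂ) (x * v))] at h1
    have h2 : ∑ x ∈ (Finset.univ : Finset P).erase 1, (χ : G → ℂ) (x * v) = -((p : ℂ) - 1) := by
      rw [Finset.sum_congr rfl (g := fun _ => (-1 : ℂ))]
      · rw [Finset.sum_const, Finset.card_erase_of_mem (Finset.mem_univ _), Finset.card_univ,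
          ← Nat.card_eq_fintype_card, hP.card, nsmul_eq_mul, hp1]
        ring
      · intro x hx
        rw [B.val χ hχ x x.2 (fun h => (Finset.mem_erase.mp hx).1 (Subtype.ext h)) v hv hvp, hδ]
        norm_num
    rw [h2] at h1
    have h3 : (χ : G → ℂ) (((1 : P) : G) * v) = (χ : G → ℂ) v := by
      rw [Subgroup.coe_one, one_mul]
    rw [h3] at h1
    rw [dg_eq, hdg, hp1]
    linear_combination h1
  -- the kernel
  obtain ⟨d, ρ, hρ, hρχ, hd, -⟩ := H79.irr_exists_rep χ
  have hker : ∀ g : G, (χ : G → ℂ) g = (χ : G → ℂ) 1 ↔ g ∈ (ρ : G →* ((Fin d → ℂ) →ₗ[ℂ] (Fin d → ℂ))).ker := by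
    intro g
    rw [MonoidHom.mem_ker, ← hρχ, Representation.char_one]
    have h1 := Char.rep_character_eq_finrank_iff ρ g
    rw [h1]
    rfl
  set K := (ρ : G →* ((Fin d → ℂ) →ₗ[ℂ] (Fin d → ℂ))).ker with hK
  have hKP : ∀ x ∈ P, x ∈ K → x = 1 := by
    intro x hx hxK
    by_contra hx1
    have h1 := (hker x).mpr hxK
    rw [B.val_one hχ hx hx1, hδ, dg_eq, hdg, hp1] at h1
    have h2 : (p : ℂ) = 0 := by
      push_cast at h1
      linear_combination -h1
    exact hpC h2
  have hKp : ¬ p ∣ Nat.card K := by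
    intro hdvd
    obtain ⟨k, hk⟩ := exists_prime_orderOf_dvd_card' p hdvd
    have hk' : orderOf (k : G) = p := by rw [Subgroup.orderOf_coe]; exact hk
    obtain ⟨x, hx⟩ := hP.exists_conj hk'
    have h1 : x⁻¹ * (k : G) * x ∈ K := by
      have hn' : K.Normal := MonoidHom.normal_ker _
      have := hn'.conj_mem k k.2 x⁻¹
      rwa [inv_inv] at this
    have h2 := hKP _ hx h1
    have h3 : (k : G) = 1 := by
      have : (k : G) = x * (x⁻¹ * k * x) * x⁻¹ := by group
      rw [this, h2]; group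
    rw [h3, orderOf_one] at hk'
    exact hp.out.one_lt.ne hk'
  have hKbot : K = ⊥ := by
    have := le_pPrimeCore_of (MonoidHom.normal_ker _) hKp
    rw [hO] at this
    exact le_bot_iff.mp this
  have hv1 : ∀ v ∈ centralizer (P : Set G), ¬ p ∣ orderOf v → v = 1 := by
    intro v hv hvp
    have := (hker v).mp (hreg v hv hvp)
    rw [hKbot] at this
    exact this
  have hPcyc : IsCyclic P := isCyclic_of_prime_card hP.card
  have hPle : P ≤ centralizer (P : Set G) := by
    intro x hx
    rw [Subgroup.mem_centralizer_iff]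
    intro y hy
    have hcomm : IsMulCommutative P := IsCyclic.isMulCommutative
    have := mul_comm' (⟨y, hy⟩ : P) ⟨x, hx⟩
    exact congrArg Subtype.val this
  have hCp : IsPGroup p (centralizer (P : Set G)) := by
    rw [IsPGroup.iff_card]
    refine ⟨_, Nat.eq_prime_pow_of_unique_prime_dvd Nat.card_pos.ne' ?_⟩
    intro q hq hqd
    by_contra hqp
    have : Fact q.Prime := ⟨hq⟩
    obtain ⟨v, hv⟩ := exists_prime_orderOf_dvd_card' q hqd
    have hv' : orderOf (v : G) = q := by rw [Subgroup.orderOf_coe]; exact hv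
    have h1 := hv1 v v.2 (by
      rw [hv']
      intro h
      exact hqp ((Nat.prime_dvd_prime_iff_eq hp.out hq).mp h).symm)
    rw [h1, orderOf_one] at hv'
    exact hq.one_lt.ne hv'
  obtain ⟨Q, hQ⟩ := hP.exists_sylow
  have h5 := Q.3 hCp (by rw [hQ]; exact hPle)
  rw [h5, hQ]

end

end Cfsg.Agent.BR
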