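import Cfsg.Agent.BR.GT2

/-!
Character values off the conjugates of the normalizer, and the class partition.
-/

set_option autoImplicit false

open scoped ComplexConjugate

namespace Cfsg.Agent.BR

open Cfsg Subgroup
open Cfsg.Agent.CharBase (oneIrr)

universe u

section

variable {G : Type u} [Group G] [Fintype G] {p : ℕ} [hp : Fact p.Prime] {P : Subgroup G} {n : ℕ}
  (st : St p P n)

/-- elements not conjugate into `N(P)`. -/
def InZ (P : Subgroup G) (z : G) : Prop := ∀ g : G, g⁻¹ * z * g ∉ normalizer (P : Set G)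

include st

/-- the sum of the multiplicities. -/
theorem St.sum_inner [Fintype P] {χ : G → ℂ} (hχ : IsClassFunction G χ) :
    (p : ℂ) * ∑ j ∈ Finset.range (ind P), classInner (Phi st.ρ j) χ = ∑ x : P, conj (χ x) := by
  classical
  have := Fintype.ofFinite (normalizer (P : Set G))
  have hN0 : (Nat.card (normalizer (P : Set G)) : ℂ) ≠ 0 := by exact_mod_cast Nat.card_pos.ne'
  have he0 : (ind P : ℂ) ≠ 0 := by exact_mod_cast (ind_pos P).ne'
  have h1 : ∑ j ∈ Finset.range (ind P), classInner (Phi st.ρ j) χ =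
      (Nat.card (normalizer (P : Set G)) : ℂ)⁻¹ * ∑ y : normalizer (P : Set G),
        (if (y : G) ∈ P then (ind P : ℂ) * conj (χ y) else 0) := by
    rw [Finset.sum_congr rfl (fun j _ => Phi_inner st.ρ j hχ), ← Finset.mul_sum, Finset.sum_comm]
    congr 1
    refine Finset.sum_congr rfl fun y _ => ?_
    rw [← Finset.sum_mul, st.sum_lam]
    split_ifs
    · rfl
    · rw [zero_mul]
  rw [h1, ← Finset.sum_filter, ← Finset.mul_sum]
  have h2 : ∑ y ∈ Finset.univ.filter (fun y : normalizer (P : Set G) => (y : G) ∈ P), conj (χ y) =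
      ∑ x : P, conj (χ x) := by
    refine (Finset.sum_bij (fun (x : P) _ =>
      (⟨x, Subgroup.le_normalizer x.2⟩ : normalizer (P : Set G))) ?_ ?_ ?_ ?_).symm
    · intro x _
      rw [Finset.mem_filter]
      exact ⟨Finset.mem_univ _, x.2⟩
    · intro a _ b _ hab
      exact Subtype.ext (congrArg (fun z : normalizer (P : Set G) => (z : G)) hab)
    · intro y hy
      rw [Finset.mem_filter] at hy
      exact ⟨⟨y, hy.2⟩, Finset.mem_univ _, rfl⟩
    · intro x _
      rfl
  rw [h2]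
  have h3 : (Nat.card (normalizer (P : Set G)) : ℂ) = p * ind P := by
    rw [st.card_N']; push_cast; ring
  have hp0 : (p : ℂ) ≠ 0 := by exact_mod_cast hp.out.ne_zero
  rw [h3]
  field_simp

theorem St.not_dvd_zero : ind P ∣ 0 := dvd_zero _

theorem not_dvd_of_lt {j : ℕ} (hj : j ∈ Finset.range (ind P)) (hj0 : j ≠ 0) : ¬ ind P ∣ j := by
  intro hd
  have := Nat.le_of_dvd (Nat.pos_of_ne_zero hj0) hd
  rw [Finset.mem_range] at hj
  omega

/-- a positive nontrivial nonexceptional character is induced. -/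
theorem St.pos_induced {χ : IrrCharacter G} (hχ : χ ∈ st.B.X) (hδ : st.B.δ χ = 1)
    (h1 : χ ≠ oneIrr G) : ∃ j, ¬ ind P ∣ j ∧ Phi st.ρ j = (χ : G → ℂ) := by
  classical
  have := Fintype.ofFinite P
  have hs := st.sum_inner (CharBase.irr_isClassFunction χ)
  have h2 : ∑ x : P, conj ((χ : G → ℂ) x) = (p : ℂ) * (n + 1) := by
    rw [← map_sum, st.B.sum_X st.hP hχ, hδ, st.hS.pos χ hχ hδ h1]
    simp only [map_add, map_mul, Complex.conj_natCast, map_intCast]
    rw [Nat.cast_sub hp.out.one_lt.le]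
    push_cast
    ring
  rw [h2] at hs
  have hp0 : (p : ℂ) ≠ 0 := by exact_mod_cast hp.out.ne_zero
  have hs' := mul_left_cancel₀ hp0 hs
  have h3 : ∃ j ∈ Finset.range (ind P), classInner (Phi st.ρ j) (χ : G → ℂ) ≠ 0 := by
    by_contra hcon
    push Not at hcon
    rw [Finset.sum_eq_zero hcon] at hs'
    have : ((n + 1 : ℕ) : ℂ) = 0 := by push_cast; exact hs'.symm
    have h4 : n + 1 = 0 := by exact_mod_cast this
    omega
  obtain ⟨j, hj, hne⟩ := h3
  have hj0 : j ≠ 0 := by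
    rintro rfl
    exact hne (st.inner_zero_X hχ h1)
  refine ⟨j, not_dvd_of_lt st hj hj0, ?_⟩
  rcases st.dich (not_dvd_of_lt st hj hj0) with ⟨χ', hχ', -, -, h⟩ | ⟨-, h⟩
  · rw [h, CharBase.classInner_irr] at hne
    have : χ' = χ := by
      by_contra hc
      rw [if_neg hc] at hne
      exact hne rfl
    rw [h, this]
  · exfalso
    rw [h, CharBase.classInner_sum_left] at hne
    apply hne
    refine Finset.sum_eq_zero fun ψ hψ => ?_
    rw [CharBase.classInner_irr, if_neg]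
    rintro rfl
    exact Finset.disjoint_left.mp st.B.disj hχ hψ

/-- the sum of the exceptional characters is induced when `δ₀ = 1`. -/
theorem St.exc_induced (hδ : st.B.δ₀ = 1) : ∃ j, ¬ ind P ∣ j ∧
    Phi st.ρ j = ∑ ψ ∈ st.B.Y, (ψ : G → ℂ) := by
  classical
  have := Fintype.ofFinite P
  obtain ⟨ψ, hψ⟩ := st.B.Y_nonempty (by have := st.hp3; omega)
  have hs := st.sum_inner (CharBase.irr_isClassFunction ψ)
  obtain ⟨m, hm1, hm, -, -⟩ : ∃ m, 1 ≤ m ∧ (∀ ψ ∈ st.B.Y, dg ψ + ind P = m * p) ∧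
      st.B.Y.card * m = n + 1 ∧ st.B.b = st.B.a * n + m := by
    rcases st.hS.cases with ⟨-, -, h⟩ | ⟨h, -⟩
    · exact h
    · rw [hδ] at h
      exact absurd h (by norm_num)
  have h2 : ∑ x : P, conj ((ψ : G → ℂ) x) = (p : ℂ) * m := by
    rw [← map_sum, st.B.sum_Y hψ, hδ]
    simp only [map_add, map_mul, Complex.conj_natCast, map_intCast]
    have h3 : ((dg ψ + ind P : ℕ) : ℂ) = ((m * p : ℕ) : ℂ) := by rw [hm ψ hψ]
    push_cast at h3 ⊢
    linear_combination h3
  rw [h2] at hs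
  have hp0 : (p : ℂ) ≠ 0 := by exact_mod_cast hp.out.ne_zero
  have hs' := mul_left_cancel₀ hp0 hs
  have h3 : ∃ j ∈ Finset.range (ind P), classInner (Phi st.ρ j) (ψ : G → ℂ) ≠ 0 := by
    by_contra hcon
    push Not at hcon
    rw [Finset.sum_eq_zero hcon] at hs'
    have h4 : m = 0 := by exact_mod_cast hs'.symm
    omega
  obtain ⟨j, hj, hne⟩ := h3
  have hj0 : j ≠ 0 := by
    rintro rfl
    exact hne (st.inner_zero_Y hψ)
  refine ⟨j, not_dvd_of_lt st hj hj0, ?_⟩
  rcases st.dich (not_dvd_of_lt st hj hj0) with ⟨χ', hχ', -, -, h⟩ | ⟨-, h⟩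
  · exfalso
    rw [h, CharBase.classInner_irr] at hne
    apply hne
    rw [if_neg]
    rintro rfl
    exact Finset.disjoint_left.mp st.B.disj hχ' hψ
  · exact h

theorem St.reg_of_Z {z : G} (hz : InZ P z) : ¬ p ∣ orderOf z := by
  rcases orderOf_or st.hP st.hC z with h | h
  · obtain ⟨x, hx⟩ := st.hP.exists_conj h
    exact absurd (Subgroup.le_normalizer hx) (hz x)
  · exact h

theorem St.pos_Z {χ : IrrCharacter G} (hχ : χ ∈ st.B.X) (hδ : st.B.δ χ = 1)
    (h1 : χ ≠ oneIrr G) {z : G} (hz : InZ P z) : (χ : G → ℂ) z = 0 := by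
  obtain ⟨j, -, hj⟩ := st.pos_induced hχ hδ h1
  rw [← hj]
  exact Phi_eq_zero j hz

theorem St.exc_Z (hδ : st.B.δ₀ = 1) {ψ : IrrCharacter G} (hψ : ψ ∈ st.B.Y) {z : G}
    (hz : InZ P z) : (ψ : G → ℂ) z = 0 := by
  obtain ⟨j, -, hj⟩ := st.exc_induced hδ
  have h1 := Phi_eq_zero (ρ := st.ρ) j hz
  rw [hj, Finset.sum_apply] at h1
  rw [Finset.sum_congr rfl (fun ψ' hψ' => st.B.Y_eq hψ' hψ (st.reg_of_Z hz)), Finset.sum_const,
    nsmul_eq_mul] at h1
  rcases mul_eq_zero.mp h1 with h | h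
  · exfalso
    have : st.B.Y.card = 0 := by exact_mod_cast h
    rw [Finset.card_eq_zero] at this
    rw [this] at hψ
    exact absurd hψ (Finset.notMem_empty _)
  · exact h

open Classical in
/-- the sum of the negative characters at elements off the conjugates of `N`. -/
theorem St.neg_Z {ψ : IrrCharacter G} (hψ : ψ ∈ st.B.Y) {z : G} (hz : InZ P z) :
    ∑ χ ∈ st.B.X.filter (fun χ => st.B.δ χ = -1), (χ : G → ℂ) z =
      1 + st.B.δ₀ * (ψ : G → ℂ) z := by
  have h := st.B.reg z (st.reg_of_Z hz) ψ hψ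
  have h1 : ∑ χ ∈ st.B.X, (st.B.δ χ : ℂ) * (χ : G → ℂ) z =
      1 - ∑ χ ∈ st.B.X.filter (fun χ => st.B.δ χ = -1), (χ : G → ℂ) z := by
    rw [Finset.sum_filter]
    have e1 : (1 : ℂ) = ∑ χ ∈ st.B.X, if χ = oneIrr G then 1 else 0 := by
      rw [Finset.sum_ite_eq' st.B.X (oneIrr G) (fun _ => (1 : ℂ)), if_pos st.B.one_mem]
    rw [e1, ← Finset.sum_sub_distrib]
    refine Finset.sum_congr rfl fun χ hχ => ?_
    by_cases h1 : χ = oneIrr G
    · subst h1
      rw [if_pos rfl, st.B.δ_one st.hP, CharBase.oneIrr_apply]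
      norm_num
    · rw [if_neg h1]
      rcases st.B.sgn χ hχ with h2 | h2
      · rw [h2, st.pos_Z hχ h2 h1 hz]
        norm_num
      · rw [h2]
        norm_num
  rw [h1] at h
  linear_combination -h

end

end Cfsg.Agent.BR
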